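import Cfsg.Agent.Lib.UFourRows.ColumnsBlock
import Cfsg.Agent.Lib.CIT.UFourBlock
import Cfsg.Agent.BlocksChars.SectionOrth

/-!
The columns of the principal block at `z y ^ i` and at an element of order four, and constancy on
the cosets of the core.
-/

set_option autoImplicit false
set_option linter.style.haveILetI false
set_option linter.unusedSectionVars false

namespace Cfsg.Agent.UFourRows

open Cfsg.Agent.Characters Cfsg.Agent.Blocks Subgroup Cfsg.Agent.CIT
open scoped ComplexConjugate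

universe u

variable {G : Type u} [Group G] [Finite G]

theorem classSquare_eq_zero {j g : G} (hj : j * j = 1)
    (hg : ∀ i : G, i * i = 1 → i * g * i⁻¹ ≠ g⁻¹) : classSquare j g = 0 :=
  UFour.classSum_sq_eq_zero hj fun i hi he => hg i hi (by
    rw [inv_inv] at he
    calc i * g * i⁻¹ = (i * g⁻¹ * i⁻¹)⁻¹ := by group
      _ = g⁻¹ := by rw [he])

open scoped Classical in
/-- The coefficients are natural numbers, positive on products of two class members. -/
theorem classSquare_nat (j g : G) :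
    ∃ n : ℕ, classSquare j g = (n : ℂ) ∧ ∀ a : G, IsConj j a → IsConj j (a⁻¹ * g⁻¹) → 0 < n := by
  haveI := Fintype.ofFinite G
  refine ⟨(Finset.univ.filter fun a : G => IsConj j a ∧ IsConj j (a⁻¹ * g⁻¹)).card, ?_,
    fun a ha hb => Finset.card_pos.2 ⟨a, Finset.mem_filter.2 ⟨Finset.mem_univ _, ha, hb⟩⟩⟩
  rw [classSquare, coeff_mul', Finset.card_filter, Nat.cast_sum]
  refine Finset.sum_congr rfl fun a _ => ?_
  rw [coeff_classSum, coeff_classSum]
  split_ifs <;> simp_all

namespace LocalFive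

variable {S : Sylow 2 G} {Z : Subgroup G} {O : G → Subgroup G} {y z : G}
  (h : LocalFive S Z O y) (hz : z ∈ Z) (hz1 : z ≠ 1)
include h

theorem pow_odd (i : ℕ) : Odd (orderOf (y ^ i)) :=
  by
  obtain ⟨w, hw, hw1⟩ := h.exists_ne_one
  refine Odd.of_dvd_nat ((show Odd 5 by decide).mul (h.core_odd w hw hw1))
    ((orderOf_pow_dvd i).trans (orderOf_dvd_of_pow_eq_one ?_))
  rw [pow_mul]
  exact congrArg Subtype.val (pow_card_eq_one' (x := (⟨y ^ 5, h.y_pow w hw hw1⟩ : O w)))

include hz hz1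

theorem z_two : ∃ k : ℕ, orderOf z = 2 ^ k :=
  ⟨1, by rw [pow_one]; exact orderOf_eq_prime (by rw [sq]; exact UFour.mul_self_eq_one h.sylow hz) hz1⟩

theorem isPPart_pow (i : ℕ) : Cfsg.IsPPart 2 (z * y ^ i) z :=
  ⟨y ^ i, rfl, ((show Commute y z from h.y_central z hz).pow_left i).symm, h.z_two hz hz1,
    fun h2 => Nat.not_even_iff_odd.2 (h.pow_odd i) (even_iff_two_dvd.2 h2)⟩

theorem two_dvd_order (i : ℕ) : 2 ∣ orderOf (z * y ^ i) := by
  obtain ⟨hz2⟩ : Nonempty (orderOf z = 2) :=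
    ⟨orderOf_eq_prime (by rw [sq]; exact UFour.mul_self_eq_one h.sylow hz) hz1⟩
  rw [(((show Commute y z from h.y_central z hz).pow_left i).symm).orderOf_mul_eq_mul_orderOf_of_coprime
    (by rw [hz2]; exact (h.pow_odd i).coprime_two_left), hz2]
  exact dvd_mul_right _ _

/-- Involutions of `C(z)` lie in `O(z) S`. -/
theorem invol_big {b : G} (hb : b ∈ centralizer ({z} : Set G)) (hb2 : b * b = 1) :
    b ∈ O z ⊔ (S : Subgroup G) := by
  obtain ⟨q, hq, t, ht, j, rfl⟩ := h.dec hz hz1 hb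
  have hm : q * t ∈ O z ⊔ (S : Subgroup G) := mul_mem (mem_sup_left hq) (mem_sup_right ht)
  have hm' := (mem_normalizer_iff.1 (h.big_norm hz hz1 (pow_mem (h.y_mem hz) (j : ℕ))) _).1 hm
  have hyy : y ^ ((j : ℕ) + j) ∈ O z ⊔ (S : Subgroup G) := by
    rw [show y ^ ((j : ℕ) + j) = (q * t * (y ^ (j : ℕ) * (q * t) * (y ^ (j : ℕ))⁻¹))⁻¹ *
      ((q * (t * y ^ (j : ℕ))) * (q * (t * y ^ (j : ℕ)))) by rw [pow_add]; group, hb2, mul_one]
    exact inv_mem (mul_mem hm hm')
  have hj : (j : ℕ) = 0 := by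
    have := h.pow_mem_big hz hz1 hyy
    have := j.2
    omega
  rw [hj, pow_zero, mul_one]
  exact hm

omit hz hz1 in
theorem sq_mem {s : G} (hs : s ∈ (S : Subgroup G)) (hsZ : s ∉ Z) : s * s ∈ Z ∧ s * s ≠ 1 :=
  ⟨h.sylow.sq s hs, UFour.sq_ne_one h.sylow hs hsZ⟩

omit hz hz1 in
/-- No involution inverts an element of `S` outside `Z`. -/
theorem no_inverter {s i : G} (hs : s ∈ (S : Subgroup G)) (hsZ : s ∉ Z) (hi : i * i = 1) :
    i * s * i⁻¹ ≠ s⁻¹ := by
  intro he
  obtain ⟨hu, hu1⟩ := h.sq_mem hs hsZ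
  have hiC : i ∈ centralizer ({s * s} : Set G) := mem_centralizer_singleton_iff.2 (by
    rw [← mul_inv_eq_iff_eq_mul, show i * (s * s) * i⁻¹ = (i * s * i⁻¹) * (i * s * i⁻¹) by group, he,
      ← mul_inv_rev, inv_eq_of_mul_eq_one_right (UFour.mul_self_eq_one h.sylow hu)])
  obtain ⟨q, hq, t, ht, rfl⟩ := h.mem_big hu hu1 (h.invol_big hu hu1 hiC hi)
  have htt : t * t ∈ O (s * s) := by
    rw [show t * t = (t * q * t⁻¹)⁻¹ * q⁻¹ * (q * t * (q * t)) by group, hi, mul_one]
    exact mul_mem (inv_mem ((mem_normalizer_iff.1 (h.S_norm hu hu1 ht) _).1 hq)) (inv_mem hq)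
  have htZ : t ∈ Z := h.sylow.involutions t ht (h.inter hu hu1 htt (mul_mem ht ht))
  have e : q * s * q⁻¹ = s⁻¹ := by
    rw [← he, show q * t * s * (q * t)⁻¹ = q * (t * s * t⁻¹) * q⁻¹ by group,
      h.sylow.central t htZ s hs, mul_inv_cancel_right]
  have hmem : s⁻¹ * s⁻¹ ∈ O (s * s) := by
    nth_rewrite 1 [← e]
    rw [show q * s * q⁻¹ * s⁻¹ = q * (s * q⁻¹ * s⁻¹) by group]
    exact mul_mem hq ((mem_normalizer_iff.1 (h.S_norm hu hu1 hs) _).1 (inv_mem hq))
  have := h.inter hu hu1 hmem (mul_mem (inv_mem hs) (inv_mem hs))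
  exact hu1 (by rw [← inv_inj, mul_inv_rev, this, inv_one])

omit hz hz1 in
/-- The core of the centralizer of an element of order four. -/
theorem centralizer_core {s : G} (hs : s ∈ (S : Subgroup G)) (hsZ : s ∉ Z) :
    ∃ K : Subgroup (centralizer ({s} : Set G)), K.Normal ∧ Odd (Nat.card K) ∧
      K.index = Nat.card (centralizer ({⟨s, hs⟩} : Set (S : Subgroup G))) := by
  obtain ⟨hu, hu1⟩ := h.sq_mem hs hsZ
  have hle : centralizer ({s} : Set G) ≤ centralizer ({s * s} : Set G) := UFour.centralizer_le_sq h.sylow s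
  set C := centralizer ({s} : Set G) with hC
  set K' := (O (s * s)).subgroupOf C with hK'
  set T := (S : Subgroup G).subgroupOf C with hT
  have hK'n : K'.Normal :=
    ⟨fun x hx g => (mem_normalizer_iff.1 (h.core_normal _ hu hu1 (hle g.2)) _).1 hx⟩
  have hK'odd : Odd (Nat.card K') := by
    refine (h.core_odd _ hu hu1).of_dvd_nat ?_
    rw [← card_map_of_injective C.subtype_injective (K := K'), subgroupOf_map_subtype]
    exact card_dvd_of_le inf_le_left
  refine ⟨K', hK'n, hK'odd, ?_⟩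
  have hcomp : K'.IsComplement' T := by
    refine isComplement'_of_disjoint_and_mul_eq_univ ?_ (Set.eq_univ_of_forall fun c => ?_)
    · rw [disjoint_def]
      intro x hxK hxS
      exact Subtype.ext (h.inter hu hu1 hxK hxS)
    · obtain ⟨q, hq, t, ht, j, hc⟩ := h.dec hu hu1 (hle c.2)
      have hcs : (c : G) * s * (c : G)⁻¹ = s :=
        mul_inv_eq_iff_eq_mul.2 (mem_centralizer_singleton_iff.1 c.2)
      set s' := t * (y ^ (j : ℕ) * s * (y ^ (j : ℕ))⁻¹) * t⁻¹ with hs'
      have hs'S : s' ∈ (S : Subgroup G) := mul_mem (mul_mem ht (h.conj_pow_mem _ hs)) (inv_mem ht)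
      have hss : s' = s := by
        have hm : s * s'⁻¹ ∈ O (s * s) := by
          rw [show s * s'⁻¹ = (c : G) * s * (c : G)⁻¹ * s'⁻¹ by rw [hcs]]
          rw [hc, show q * (t * y ^ (j : ℕ)) * s * (q * (t * y ^ (j : ℕ)))⁻¹ * s'⁻¹ =
            q * (s' * q⁻¹ * s'⁻¹) by rw [hs']; group]
          exact mul_mem hq ((mem_normalizer_iff.1 (h.S_norm hu hu1 hs'S) _).1 (inv_mem hq))
        exact (mul_inv_eq_one.1 (h.inter hu hu1 hm (mul_mem hs (inv_mem hs'S)))).symm
      have hj : (j : ℕ) = 0 := by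
        by_contra hj
        refine hsZ (h.pow_free (j := (j : ℕ)) (by have := j.2; omega) hs ?_)
        have e : y ^ (j : ℕ) * s * (y ^ (j : ℕ))⁻¹ = t⁻¹ * s * t := by
          rw [hs'] at hss
          calc y ^ (j : ℕ) * s * (y ^ (j : ℕ))⁻¹
              = t⁻¹ * (t * (y ^ (j : ℕ) * s * (y ^ (j : ℕ))⁻¹) * t⁻¹) * t := by group
            _ = t⁻¹ * s * t := by rw [hss]
        have h' := UFour.comm_mem h.sylow hs (inv_mem ht)
        rw [inv_inv] at h'
        rwa [e]
      have htC : t ∈ C := mem_centralizer_singleton_iff.2 (mul_inv_eq_iff_eq_mul.1 (by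
        rw [hs', hj] at hss; simpa using hss))
      have hc' : (c : G) = q * t := by rw [hc, hj, pow_zero, mul_one]
      have hqC : q ∈ C := by
        have := mul_mem c.2 (inv_mem htC)
        rwa [hc', mul_inv_cancel_right] at this
      exact ⟨⟨q, hqC⟩, hq, ⟨t, htC⟩, ht, Subtype.ext hc'.symm⟩
  rw [hcomp.symm.index_eq_card]
  refine Nat.card_congr
    { toFun := fun x => ⟨⟨x.1.1, x.2⟩, mem_centralizer_singleton_iff.2
        (Subtype.ext (mem_centralizer_singleton_iff.1 x.1.2))⟩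
      invFun := fun x => ⟨⟨x.1.1, mem_centralizer_singleton_iff.2
        (congrArg Subtype.val (mem_centralizer_singleton_iff.1 x.2))⟩, x.1.2⟩
      left_inv := fun _ => rfl
      right_inv := fun _ => rfl }

end LocalFive

variable {S : Sylow 2 G} {Z : Subgroup G} {O : G → Subgroup G} {y z : G}
  {M : Ideal Cfsg.AlgInt}

/-- Members of the principal block are constant on the cosets of the core at elements of even
order. -/
theorem singularConst_of_localFive [Fintype (Cfsg.IrrCharacter G)] (hM : Cfsg.IsPModular 2 M)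
    (h : LocalFive S Z O y) [IsSimpleGroup G] (hz : z ∈ Z) (hz1 : z ≠ 1) :
    SingularConst M S Z O y z := by
  classical
  haveI : Fact (Nat.Prime 2) := ⟨Nat.prime_two⟩
  intro χ hχ q hq
  have hχ' : χ ∈ Cfsg.principalBlock M G := (Finset.mem_filter.1 hχ).2
  have hQ := h.core_odd z hz hz1
  refine ⟨fun u hu hu1 i => ?_, fun s hs hsZ => ?_⟩
  · have huy : Commute u (y ^ i) := ((show Commute y u from h.y_central u hu).pow_left i).symm
    obtain ⟨r, hr, q', hq', hcom, he⟩ := exists_conj_section hQ (h.z_two hu hu1)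
      (h.S_norm hz hz1 (h.sylow.Z_le hu)) (pow_mem (h.y_core hz hz1) i) (h.pow_odd i) huy hq
    rw [← irr_isClassFunction χ (u * y ^ i * q) r, he]
    have hq'C : q' ∈ centralizer ({u} : Set G) := mem_centralizer_singleton_iff.2 hcom.eq.symm
    have hyC : y ^ i ∈ centralizer ({u} : Set G) := mem_centralizer_singleton_iff.2 huy.eq.symm
    haveI := h.core_subgroup_normal hu hu1
    have hq'O : q' ∈ O u := h.core_inter z hz hz1 u hu hu1 ⟨hq', hq'C⟩
    have hodd : ¬ 2 ∣ orderOf ((⟨y ^ i, hyC⟩ : centralizer ({u} : Set G)) * ⟨q', hq'C⟩) := by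
      set m : centralizer ({u} : Set G) := ⟨y ^ i, hyC⟩ * ⟨q', hq'C⟩
      have hπ : (m : centralizer ({u} : Set G) ⧸ (O u).subgroupOf _) ^ 5 = 1 := by
        rw [show (m : centralizer ({u} : Set G) ⧸ (O u).subgroupOf _) =
          ((⟨y ^ i, hyC⟩ : centralizer ({u} : Set G)) : _ ⧸ (O u).subgroupOf _) from by
            rw [QuotientGroup.mk_mul_of_mem _ (mem_subgroupOf.2 hq'O)],
          ← QuotientGroup.mk_pow, QuotientGroup.eq_one_iff]
        refine mem_subgroupOf.2 ?_
        rw [Subgroup.coe_pow, Subgroup.coe_mk, ← pow_mul, mul_comm, pow_mul]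
        exact pow_mem (h.y_pow u hu hu1) i
      have hm5 : m ^ 5 ∈ (O u).subgroupOf (centralizer ({u} : Set G)) := by
        rwa [← QuotientGroup.mk_pow, QuotientGroup.eq_one_iff] at hπ
      have h1 : orderOf m ∣ 5 * Nat.card ((O u).subgroupOf (centralizer ({u} : Set G))) := by
        refine orderOf_dvd_of_pow_eq_one ?_
        rw [pow_mul]
        exact congrArg Subtype.val (pow_card_eq_one' (x := (⟨_, hm5⟩ :
          (O u).subgroupOf (centralizer ({u} : Set G)))))
      intro h2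
      rcases (Nat.prime_two.dvd_mul).1 (h2.trans h1) with h' | h'
      · norm_num at h'
      · exact h.core_subgroup_odd hu hu1 h'
    rw [mul_assoc]
    exact value_mul_core_reg hM (h.z_two hu hu1) hχ' (h.core_subgroup_odd hu hu1)
      (w := ⟨y ^ i, hyC⟩) (v := ⟨q', hq'C⟩) (mem_subgroupOf.2 hq'O)
      (fun h2 => Nat.not_even_iff_odd.2 (h.pow_odd i)
        (even_iff_two_dvd.2 (by rwa [← Subgroup.orderOf_coe] at h2))) hodd
  · obtain ⟨hu, hu1⟩ := h.sq_mem hs hsZ
    have hs2 := BlocksChars.SectionOrth.exists_orderOf_eq S.2 ⟨s, hs⟩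
    obtain ⟨r, hr, q', hq', hcom, he⟩ := exists_conj_section (w := 1) hQ hs2
      (h.S_norm hz hz1 hs) (one_mem _) (by simp) (Commute.one_right s) hq
    rw [mul_one] at he
    rw [← irr_isClassFunction χ (s * q) r, he]
    have hq'C : q' ∈ centralizer ({s} : Set G) := mem_centralizer_singleton_iff.2 hcom.eq.symm
    have hq'O : q' ∈ O (s * s) :=
      h.core_inter z hz hz1 _ hu hu1 ⟨hq', UFour.centralizer_le_sq h.sylow s hq'C⟩
    haveI : ((O (s * s)).subgroupOf (centralizer ({s} : Set G))).Normal :=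
      ⟨fun x hx g => (mem_normalizer_iff.1
        (h.core_normal _ hu hu1 (UFour.centralizer_le_sq h.sylow s g.2)) _).1 hx⟩
    refine value_mul_core hM hs2 hχ' (K := (O (s * s)).subgroupOf (centralizer ({s} : Set G)))
      (fun h2 => ?_) (v := ⟨q', hq'C⟩) (mem_subgroupOf.2 hq'O)
    have : Nat.card ((O (s * s)).subgroupOf (centralizer ({s} : Set G))) ∣ Nat.card (O (s * s)) := by
      rw [← card_map_of_injective (centralizer ({s} : Set G)).subtype_injective
        (K := (O (s * s)).subgroupOf (centralizer ({s} : Set G))), subgroupOf_map_subtype]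
      exact card_dvd_of_le inf_le_left
    exact Nat.not_even_iff_odd.2 (h.core_odd _ hu hu1) (even_iff_two_dvd.2 (h2.trans this))

/-- The columns of the principal block at `z y ^ i` and at `s`. -/
theorem columns_of_localFive [Fintype (Cfsg.IrrCharacter G)] (hM : Cfsg.IsPModular 2 M)
    (h : LocalFive S Z O y) [IsSimpleGroup G] (hz : z ∈ Z) (hz1 : z ≠ 1) {s : G}
    (hs : s ∈ (S : Subgroup G)) (hsZ : s ∉ Z) : Columns M y z s := by
  classical
  haveI : Fact (Nat.Prime 2) := ⟨Nat.prime_two⟩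
  haveI := h.core_subgroup_normal hz hz1
  letI := Fintype.ofFinite G
  letI := Fintype.ofFinite (centralizer ({z} : Set G))
  haveI := Fintype.ofFinite (Cfsg.IrrCharacter (centralizer ({z} : Set G)))
  have hz2 := h.z_two hz hz1
  have hs2 := BlocksChars.SectionOrth.exists_orderOf_eq S.2 ⟨s, hs⟩
  obtain ⟨hu, hu1⟩ := h.sq_mem hs hsZ
  set yC : Fin 5 → centralizer ({z} : Set G) := fun i => ⟨y ^ (i : ℕ), pow_mem (h.y_mem hz) _⟩
    with hyC
  have hreg : ∀ i, ¬ 2 ∣ orderOf (yC i) := fun i h2 => by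
    rw [← Subgroup.orderOf_coe] at h2
    exact Nat.not_even_iff_odd.2 (h.pow_odd i) (even_iff_two_dvd.2 h2)
  have hsdvd : 2 ∣ orderOf s := by
    obtain ⟨k, hk⟩ := hs2
    rcases k with _ | k
    · exact absurd (orderOf_eq_one_iff.1 (by rw [hk, pow_zero])) fun e =>
        hsZ (by rw [show s = 1 from e]; exact one_mem Z)
    · rw [hk]; exact dvd_pow_self _ k.succ_ne_zero
  -- the square of the class sum
  set w : Cfsg.IrrCharacter G → ℂ := fun χ => (Nat.card G : ℂ)⁻¹ *
    ((((centralizer ({z} : Set G)).index : ℂ) * (χ : G → ℂ) z) ^ 2 / (χ : G → ℂ) 1) with hw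
  have hsq : ∀ g, ∑ χ : Cfsg.IrrCharacter G, w χ * (χ : G → ℂ) g = classSquare z g := fun g =>
    (classSquare_eq_sum z g).symm
  set κ : ℂ := (Nat.card G : ℂ)⁻¹ * ((centralizer ({z} : Set G)).index : ℂ) ^ 2 with hκ
  have hκ0 : κ ≠ 0 := mul_ne_zero (inv_ne_zero natCard_ne_zero)
    (pow_ne_zero _ (Nat.cast_ne_zero.2 index_ne_zero_of_finite))
  have hscale : ∀ v : G, ∑ χ ∈ prinSet M G, (χ : G → ℂ) z ^ 2 / (χ : G → ℂ) 1 * (χ : G → ℂ) v =
      κ⁻¹ * ∑ χ ∈ prinSet M G, w χ * (χ : G → ℂ) v := fun v => by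
    rw [eq_inv_mul_iff_mul_eq₀ hκ0, Finset.mul_sum]
    exact Finset.sum_congr rfl fun χ _ => by simp only [hw, hκ]; ring
  have hmult : ∀ i : Fin 5, ∑ χ ∈ prinSet M G, w χ * (χ : G → ℂ) (z * y ^ (i : ℕ)) =
      ∑ c : centralizer ({z} : Set G),
        blockKernelAt (Cfsg.principalBlock M (centralizer ({z} : Set G))) (yC i) c *
          classSquare z (z * (c : G)) := by
    intro i
    refine (sum_principal_section hM hz2 w (a := yC i) (hreg i)).trans ?_
    exact Finset.sum_congr rfl fun c _ => by rw [hsq]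
  have hreg_sing : ∀ v : G, 2 ∣ orderOf v →
      ∑ χ ∈ prinSet M G, (χ : G → ℂ) 1 * (χ : G → ℂ) v = 0 := fun v hv => by
    have h0 := sum_block_reg_sing hM (intEl_blockIdem hM (isPBlock_principal M G)) (x := (1 : G))
      (by simp) hv
    rw [ZStar.Principal.finsum_mem_eq_sum_filter] at h0
    have h1 := congrArg conj h0
    rw [map_sum, map_zero] at h1
    refine Eq.trans ?_ h1
    refine Finset.sum_congr (by simp [prinSet]) fun χ _ => ?_
    obtain ⟨d, hd⟩ := char_one_nat (irr_isCharacter χ)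
    rw [map_mul, Complex.conj_conj, hd, Complex.conj_natCast]
  refine ⟨fun i j => ?_, ?_, fun i => ?_, fun i => hreg_sing _ (h.two_dvd_order hz hz1 _),
    hreg_sing s hsdvd, fun i hi => ?_, ?_, ?_⟩
  · refine (cross_section hM hz2 (a := yC i) (b := yC j) (hreg i) (hreg j)).trans ?_
    rw [sum_principal_inflate hM (h.core_subgroup_odd hz hz1) (h.constrained hz hz1)]
    split_ifs with h1 h2 h3 h4 h5
    · rw [h.card_centralizer_pow hz hz1 j, ← h2, if_pos h3]; norm_num
    · rw [h.card_centralizer_pow hz hz1 j, ← h2, if_neg h3]; norm_num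
    · exact absurd (h.conj_pow_eq hz hz1 h1) h2
    · exact absurd (h4 ▸ IsConj.refl _) h1
    · exact absurd (h4 ▸ IsConj.refl _) h1
    · rfl
  · have hc := UFour.column_norm (S := S) hM hs (h.centralizer_core hs hsZ)
    rw [UFour.card_centralizer_outside h.sylow hs hsZ] at hc
    exact Eq.trans (Finset.sum_congr (by simp [prinSet]) fun _ _ => rfl) (hc.trans (by norm_num))
  · have hne : ¬ IsConj z s := fun hc => by
      obtain ⟨a, ha⟩ := isConj_iff.1 hc
      apply hu1
      rw [← ha, show a * z * a⁻¹ * (a * z * a⁻¹) = a * (z * z) * a⁻¹ by group,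
        UFour.mul_self_eq_one h.sylow hz]
      group
    have h0 := sum_block_mul_conj_eq_zero hM (intEl_blockIdem hM (isPBlock_principal M G))
      (h.isPPart_pow hz hz1 (i : ℕ)) (BlocksChars.SectionOrth.isPPart_self Nat.prime_two hs2) hne
    rw [ZStar.Principal.finsum_mem_eq_sum_filter] at h0
    exact Eq.trans (Finset.sum_congr (by simp [prinSet]) fun _ _ => rfl) h0
  · rw [hscale, hmult, Finset.sum_eq_zero, mul_zero]
    intro c _
    by_cases hc2 : 2 ∣ orderOf c
    · rw [blockKernelAt_singular hM (isPBlock_principal M _) (hreg i) hc2, zero_mul]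
    rw [h.kernel_eq hz hz1 hM]
    split_ifs with hconj
    swap
    · simp
    rw [classSquare_eq_zero (UFour.mul_self_eq_one h.sylow hz), mul_zero]
    intro b hb he
    have hzc : Commute z (c : G) := (mem_centralizer_singleton_iff.1 c.2).symm
    have hc2' : ¬ 2 ∣ orderOf (c : G) := by rwa [Subgroup.orderOf_coe]
    have hp : Cfsg.IsPPart 2 (z * (c : G)) z := ⟨c, rfl, hzc, hz2, hc2'⟩
    have hp1 : Cfsg.IsPPart 2 (z * (c : G))⁻¹ z⁻¹ :=
      ⟨(c : G)⁻¹, by rw [← mul_inv_rev, hzc.eq], hzc.inv_inv, by rwa [orderOf_inv], by rwa [orderOf_inv]⟩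
    have hzz : b * z * b⁻¹ = z⁻¹ := by
      have hp2 : Cfsg.IsPPart 2 (b * (z * (c : G)) * b⁻¹) (b * z * b⁻¹) := isPPart_conj hp b
      rw [he] at hp2
      exact ppart_unique Nat.prime_two hp2 hp1
    have hzi : z⁻¹ = z := inv_eq_of_mul_eq_one_right (UFour.mul_self_eq_one h.sylow hz)
    have hbC : b ∈ centralizer ({z} : Set G) :=
      mem_centralizer_singleton_iff.2 (mul_inv_eq_iff_eq_mul.1 (hzz.trans hzi))
    have hcc : b * (c : G) * b⁻¹ = (c : G)⁻¹ := by
      have e : (b * z * b⁻¹) * (b * (c : G) * b⁻¹) = z * (c : G)⁻¹ := by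
        rw [show (b * z * b⁻¹) * (b * (c : G) * b⁻¹) = b * (z * (c : G)) * b⁻¹ by group, he,
          mul_inv_rev, hzi, (hzc.inv_right).eq]
      rw [hzz, hzi] at e
      exact mul_left_cancel e
    have hbb := h.invol_big hz hz1 hbC hb
    have hcsq : (c : G) * c ∈ O z ⊔ (S : Subgroup G) := by
      have := mul_mem hbb ((mem_normalizer_iff.1 (h.big_norm hz hz1 c.2) _).1 (inv_mem hbb))
      rw [show b * ((c : G) * b⁻¹ * (c : G)⁻¹) = b * (c : G) * b⁻¹ * (c : G)⁻¹ by group, hcc,
        ← mul_inv_rev] at this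
      simpa using inv_mem this
    -- `c` is `y ^ i` modulo the normal subgroup
    obtain ⟨a, ha⟩ := isConj_iff.1 hconj
    obtain ⟨g, rfl⟩ := QuotientGroup.mk_surjective a
    have hq : ((g : G) * y ^ (i : ℕ) * (g : G)⁻¹)⁻¹ * (c : G) ∈ O z :=
      mem_subgroupOf.1 (QuotientGroup.eq.1 ha)
    set m := (c : G) * (y ^ (i : ℕ))⁻¹ with hm
    have hmb : m ∈ O z ⊔ (S : Subgroup G) := by
      have hyC' : y ^ (i : ℕ) ∈ centralizer ({z} : Set G) := pow_mem (h.y_mem hz) _
      rw [hm, show (c : G) * (y ^ (i : ℕ))⁻¹ = ((g : G) * y ^ (i : ℕ) * (g : G)⁻¹ * (y ^ (i : ℕ))⁻¹) *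
        (y ^ (i : ℕ) * (((g : G) * y ^ (i : ℕ) * (g : G)⁻¹)⁻¹ * (c : G)) * (y ^ (i : ℕ))⁻¹) by group]
      exact mul_mem (h.comm_big hz hz1 g.2 _)
        ((mem_normalizer_iff.1 (h.big_norm hz hz1 hyC') _).1 (mem_sup_left hq))
    have hyy : y ^ ((i : ℕ) + i) ∈ O z ⊔ (S : Subgroup G) := by
      rw [show y ^ ((i : ℕ) + i) = (m * (y ^ (i : ℕ) * m * (y ^ (i : ℕ))⁻¹))⁻¹ * ((c : G) * c) by
        rw [hm, pow_add]; group]
      exact mul_mem (inv_mem (mul_mem hmb
        ((mem_normalizer_iff.1 (h.big_norm hz hz1 (pow_mem (h.y_mem hz) _)) _).1 hmb))) hcsq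
    exact hi (Fin.ext (by
      have := h.pow_mem_big hz hz1 hyy
      have := i.2
      simp only [Fin.val_zero]
      omega))
  · choose n hn hnpos using fun c : centralizer ({z} : Set G) => classSquare_nat z (z * (c : G))
    set C0 := Finset.univ.filter fun c : centralizer ({z} : Set G) => LocalFive.ybar z O c = 1
    have hsum : ∑ c : centralizer ({z} : Set G),
        blockKernelAt (Cfsg.principalBlock M (centralizer ({z} : Set G))) (yC 0) c *
          classSquare z (z * (c : G)) =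
        (Nat.card (centralizer ({z} : Set G)) : ℂ)⁻¹ * (320 * ((∑ c ∈ C0, n c : ℕ) : ℂ)) := by
      rw [Nat.cast_sum, Finset.mul_sum, Finset.mul_sum, Finset.sum_filter]
      refine Finset.sum_congr rfl fun c _ => ?_
      have h1 : LocalFive.ybar z O (yC 0) = 1 := (QuotientGroup.eq_one_iff _).2 (mem_subgroupOf.2 (by
        simp [hyC]))
      rw [h.kernel_eq hz hz1 hM, hn, h1]
      by_cases hc : LocalFive.ybar z O c = 1
      · rw [if_pos hc, if_pos (hc ▸ IsConj.refl _), hc,
          show centralizer ({(1 : centralizer ({z} : Set G) ⧸ (O z).subgroupOf _)} : Set _) = ⊤ from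
            eq_top_iff.2 fun a _ => mem_centralizer_singleton_iff.2 (by simp),
          Subgroup.card_top, h.card_quotient hz hz1]
        push_cast; ring
      · rw [if_neg hc, if_neg fun hh => hc (isConj_one_right.1 hh)]
        simp
    have hpos : 0 < ∑ c ∈ C0, n c := by
      refine Finset.sum_pos' (fun c _ => Nat.zero_le _) ⟨1, Finset.mem_filter.2 ⟨Finset.mem_univ _,
        map_one (QuotientGroup.mk' _)⟩, ?_⟩
      obtain ⟨v, hv, hv1, hvz⟩ : ∃ v ∈ Z, v ≠ 1 ∧ v ≠ z := by
        by_contra! hall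
        haveI := Fintype.ofFinite Z
        have hle : (Finset.univ : Finset Z) ⊆ {1, ⟨z, hz⟩} := fun v _ => by
          by_cases e : (v : G) = 1
          · simp [Subtype.ext_iff, e]
          · simp [Subtype.ext_iff, hall v v.2 e]
        have h1 := (Finset.card_le_card hle).trans Finset.card_le_two
        rw [Finset.card_univ, ← Nat.card_eq_fintype_card, h.sylow.card_Z] at h1
        omega
      refine hnpos 1 v (h.sylow.fused z hz v hv hz1 hv1) ?_
      have hmem : v⁻¹ * (z * ((1 : centralizer ({z} : Set G)) : G))⁻¹ ∈ Z := by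
        simpa using mul_mem (inv_mem hv) (inv_mem hz)
      refine h.sylow.fused z hz _ hmem hz1 fun e => hvz ?_
      rw [Subgroup.coe_one, mul_one, inv_mul_eq_one] at e
      rw [e]
      exact inv_eq_of_mul_eq_one_right (UFour.mul_self_eq_one h.sylow hz)
    refine ⟨(Nat.card G : ℝ) / ((centralizer ({z} : Set G)).index : ℝ) ^ 2 *
      (320 * ((∑ c ∈ C0, n c : ℕ) : ℝ) / (Nat.card (centralizer ({z} : Set G)) : ℝ)), ?_, ?_⟩
    · have : (0 : ℝ) < ((∑ c ∈ C0, n c : ℕ) : ℝ) := by exact_mod_cast hpos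
      have : (0 : ℝ) < ((centralizer ({z} : Set G)).index : ℝ) :=
        Nat.cast_pos.2 (Nat.pos_of_ne_zero index_ne_zero_of_finite)
      have : (0 : ℝ) < (Nat.card G : ℝ) := Nat.cast_pos.2 Nat.card_pos
      have : (0 : ℝ) < (Nat.card (centralizer ({z} : Set G)) : ℝ) := Nat.cast_pos.2 Nat.card_pos
      positivity
    · have h0 := hscale (z * y ^ ((0 : Fin 5) : ℕ))
      rw [hmult, hsum] at h0
      simp only [Fin.val_zero, pow_zero, mul_one] at h0
      rw [h0, hκ]
      push_cast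
      field_simp
  · rw [hscale]
    refine mul_eq_zero_of_right _ ?_
    have h0 := BlocksChars.SectionOrth.blockSum_eq_zero_of_section hM (isPBlock_principal M G) hs2 w
      fun g x hgx hsx => by
        rw [hsq]
        refine classSquare_eq_zero (UFour.mul_self_eq_one h.sylow hz) fun i hi he => ?_
        obtain ⟨d, hd⟩ := isConj_iff.1 hsx
        obtain ⟨v, hgv, hcom, ⟨k, hk⟩, hvo⟩ := id hgx
        have hp1 : Cfsg.IsPPart 2 g⁻¹ x⁻¹ :=
          ⟨v⁻¹, by rw [← mul_inv_rev, ← hcom.eq, hgv], hcom.inv_inv, ⟨k, by rw [orderOf_inv, hk]⟩,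
            by rwa [orderOf_inv]⟩
        have hp := isPPart_conj hgx i
        rw [he] at hp
        have hzz : i * x * i⁻¹ = x⁻¹ := ppart_unique Nat.prime_two hp hp1
        refine h.no_inverter hs hsZ (i := d⁻¹ * i * d) ?_ ?_
        · rw [show d⁻¹ * i * d * (d⁻¹ * i * d) = d⁻¹ * (i * i) * d by group, hi]; group
        · calc d⁻¹ * i * d * s * (d⁻¹ * i * d)⁻¹ = d⁻¹ * (i * (d * s * d⁻¹) * i⁻¹) * d := by group
            _ = s⁻¹ := by rw [hd, hzz, ← hd]; group
    rw [← Finset.sum_filter] at h0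
    exact Eq.trans (Finset.sum_congr (by simp [prinSet]) fun _ _ => rfl) h0

end Cfsg.Agent.UFourRows
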