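import Cfsg.Agent.Lib.UFourRows.Glue
import Cfsg.Agent.Lib.UFourRows.ColumnsProof

/-!
With the local data, a simple group has trivial cores at all involutions of `Z`.
-/

set_option autoImplicit false
set_option linter.all false

namespace Cfsg.Agent.UFourRows

open Subgroup Cfsg.Agent.CIT

universe u

variable {G : Type u} [Group G] [Finite G]

/-- **All cores are trivial.** -/
theorem LocalFive.core_eq_bot [IsSimpleGroup G] {S : Sylow 2 G} {Z : Subgroup G}
    {O : G → Subgroup G} {y z : G} (h : LocalFive S Z O y) (hz : z ∈ Z) (hz1 : z ≠ 1) : O z = ⊥ := by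
  haveI := Fintype.ofFinite (Cfsg.IrrCharacter G)
  obtain ⟨M, hM⟩ := Cfsg.Agent.BlockCharsA.DefectZeroVanish.exists_modular Nat.prime_two
  obtain ⟨s, hs, hsZ⟩ : ∃ s ∈ (S : Subgroup G), s ∉ Z := by
    by_contra! hall
    have h1 := Subgroup.card_le_of_le (show (S : Subgroup G) ≤ Z from hall)
    rw [h.sylow.card_S, h.sylow.card_Z] at h1
    omega
  exact core_trivial hM h (fun w hw hw1 => singularConst_of_localFive hM h hw hw1) hz hz1 hs hsZ
    (columns_of_localFive hM h hz hz1 hs hsZ)

end Cfsg.Agent.UFourRows
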