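import Cfsg.Agent.Lib.Characters.Schur
import Cfsg.Agent.Lib.Characters.Kernel

/-!
The average of a character over a normal subgroup is a character of the quotient.
-/

set_option autoImplicit false
set_option linter.all false

namespace Cfsg.Agent.UFourRows

open Cfsg.Agent.Characters

universe u

/-- The average over a normal subgroup, one irreducible character at a time. -/
theorem exists_average_irr {C : Type u} [Group C] [Finite C] (N : Subgroup C) [N.Normal] [Fintype N]
    {ψ : C → ℂ} (hψ : Cfsg.IsIrrCharacter C ψ) :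
    ∃ A : C ⧸ N → ℂ, Cfsg.IsCharacter (C ⧸ N) A ∧
      ∀ x : C, A x = (Nat.card N : ℂ)⁻¹ * ∑ n : N, ψ (x * n) := by
  obtain ⟨d, ρ, hρ, rfl⟩ := hψ
  set T : (Fin d → ℂ) →ₗ[ℂ] (Fin d → ℂ) := ∑ n : N, ρ (n : C) with hT
  have hcomm : ∀ g v, T (ρ g v) = ρ g (T v) := by
    intro g v
    simp only [hT, LinearMap.sum_apply, map_sum]
    have hmem : ∀ n : N, g⁻¹ * (n : C) * g ∈ N := fun n => by
      simpa using ‹N.Normal›.conj_mem n n.2 g⁻¹
    refine Fintype.sum_equiv
      { toFun := fun n : N => (⟨g⁻¹ * n * g, hmem n⟩ : N)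
        invFun := fun n : N => (⟨g * n * g⁻¹, ‹N.Normal›.conj_mem n n.2 g⟩ : N)
        left_inv := fun n => Subtype.ext (by group)
        right_inv := fun n => Subtype.ext (by group) } _ _ fun n => ?_
    show ρ n (ρ g v) = ρ g (ρ (g⁻¹ * n * g) v)
    rw [← Module.End.mul_apply, ← Module.End.mul_apply, ← map_mul, ← map_mul]
    congr 2
    group
  obtain ⟨c, hc⟩ := schur_scalar ρ T hcomm
  have htr : ∀ x : C, ∑ n : N, ρ.character (x * n) = c * ρ.character x := by
    intro x
    have h1 : LinearMap.trace ℂ _ (ρ x * T) = ∑ n : N, ρ.character (x * n) := by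
      simp only [hT, Finset.mul_sum, map_sum]
      exact Finset.sum_congr rfl fun n _ => by rw [← map_mul]; rfl
    rw [← h1, hc, mul_smul_comm, map_smul, smul_eq_mul, ← Module.End.one_eq_id, mul_one]
    rfl
  by_cases hc0 : c = 0
  · exact ⟨0, isCharacter_zero, fun x => by simp [htr, hc0]⟩
  have hker : ∀ m ∈ N, ρ m = 1 := by
    intro m hm
    have h1 : ρ m * T = T := by
      simp only [hT, Finset.mul_sum]
      exact Fintype.sum_equiv (Equiv.mulLeft (⟨m, hm⟩ : N)) _ _ fun n => (map_mul ρ m n).symm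
    rw [hc, mul_smul_comm, ← Module.End.one_eq_id, mul_one] at h1
    exact smul_right_injective _ hc0 h1
  have hcon : ∀ x : C, ∀ m ∈ N, ρ.character (x * m) = ρ.character x := fun x m hm => by
    show LinearMap.trace ℂ _ (ρ (x * m)) = LinearMap.trace ℂ _ (ρ x)
    rw [map_mul, hker m hm, mul_one]
  obtain ⟨A, hA, hAx, -⟩ := exists_deflate_quotient N (isCharacter_character ρ) fun m hm => by
    simpa using hcon 1 m hm
  refine ⟨A, hA, fun x => ?_⟩
  rw [hAx, Finset.sum_congr rfl fun (n : N) _ => hcon x n n.2, Finset.sum_const, Finset.card_univ,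
    ← Nat.card_eq_fintype_card, nsmul_eq_mul, inv_mul_cancel_left₀ natCard_ne_zero]

/-- The average over a normal subgroup. -/
theorem exists_average {C : Type u} [Group C] [Finite C] (N : Subgroup C) [N.Normal] [Fintype N]
    {χ : C → ℂ} (hχ : Cfsg.IsCharacter C χ) :
    ∃ A : C ⧸ N → ℂ, Cfsg.IsCharacter (C ⧸ N) A ∧
      ∀ x : C, A x = (Nat.card N : ℂ)⁻¹ * ∑ n : N, χ (x * n) := by
  haveI := Fintype.ofFinite (Cfsg.IrrCharacter C)
  obtain ⟨m, rfl⟩ := char_eq_sum_nat hχ
  choose A hA hAx using fun ψ : Cfsg.IrrCharacter C => exists_average_irr N ψ.2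
  refine ⟨∑ ψ, (m ψ : ℂ) • A ψ, isCharacter_sum _ _ fun ψ _ => isCharacter_natSmul (hA ψ) _, fun x => ?_⟩
  simp only [Finset.sum_apply, Pi.smul_apply, smul_eq_mul, hAx]
  rw [Finset.sum_comm (γ := (N : Type u)), Finset.mul_sum]
  exact Finset.sum_congr rfl fun ψ _ => by rw [← Finset.mul_sum]; ring

end Cfsg.Agent.UFourRows
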