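import Cfsg.Agent.Lib.UFourRows.Search

/-!
The interval bounds of the search are correct, and so is the check of a certificate.
-/

set_option autoImplicit false
set_option linter.all false

namespace Cfsg.Agent.UFourRows

theorem table_pos : (table.all fun t => decide (0 < t.v.q0 + t.v.q1 + t.v.q2)) = true := by decide +kernel

theorem table_facts {t : Ty} (ht : t ∈ table) :
    ((⟨4 * t.v.q0, 4 * t.v.q1, 4 * t.v.q2, 4 * t.v.q3, 4 * t.v.q4, 4 * t.v.q5, 4 * t.v.q6, 4 * t.v.q7⟩ : G8) =
      ⟨t.L * t.x.gram4.q0, t.L * t.x.gram4.q1, t.L * t.x.gram4.q2, t.L * t.x.gram4.q3, t.L * t.x.gram4.q4,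
        t.L * t.x.gram4.q5, t.L * t.x.gram4.q6, t.L * t.x.gram4.q7⟩) ∧
      (0 ≤ t.v.q0 ∧ 0 ≤ t.v.q1 ∧ 0 ≤ t.v.q2) ∧ (∀ f ∈ cuts, 0 ≤ f.dot t.v) ∧
      (∀ b : Bool, 0 < 64 * lo (t.vec b) + (t.vec b).off) ∧ 0 < t.v.q0 + t.v.q1 + t.v.q2 := by
  have h := List.all_eq_true.1 table_gram t ht
  have h' := List.all_eq_true.1 table_pos t ht
  simp only [Bool.and_eq_true, decide_eq_true_eq, fitsAll, List.all_eq_true] at h h'
  obtain ⟨⟨⟨⟨h1, h2⟩, h3⟩, h4⟩, h5⟩ := h
  refine ⟨h1, h2, h3, fun b => ?_, h'⟩
  cases b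
  · exact h5
  · exact h4

namespace Item

variable (u : Item)

def vec : Vec := u.t.vec u.sgn

def cf : Six Int := coef u.t.L u.vec

/-- Membership in the table and the lower bound on the multiplicity. -/
def Valid : Prop := u.t ∈ table ∧ lo u.vec ≤ u.m

def den : ℚ := ((64 * u.m + u.vec.off : Int) : ℚ)

def r0 : ℚ := (u.cf.h0 : ℚ) / u.den
def r1 : ℚ := (u.cf.h1 : ℚ) / u.den
def r2 : ℚ := (u.cf.h2 : ℚ) / u.den
def z3 : Int := u.cf.h3 * u.m
def z4 : Int := u.cf.h4 * u.m
def z5 : Int := u.cf.h5 * u.m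

end Item

/-- The equations on a list of units. -/
structure Sys (M : List Item) : Prop where
  valid : ∀ u ∈ M, u.Valid
  e0 : (M.map Item.r0).sum = 4
  e1 : (M.map Item.r1).sum = -1
  e2 : 1 ≤ (M.map Item.r2).sum
  e3 : (M.map Item.z3).sum = 1
  e4 : (M.map Item.z4).sum = 4
  e5 : (M.map Item.z5).sum = 4

theorem Sys.perm {M N : List Item} (h : Sys M) (p : M.Perm N) : Sys N where
  valid u hu := h.valid u (p.mem_iff.2 hu)
  e0 := by rw [← (p.map Item.r0).sum_eq]; exact h.e0
  e1 := by rw [← (p.map Item.r1).sum_eq]; exact h.e1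
  e2 := by rw [← (p.map Item.r2).sum_eq]; exact h.e2
  e3 := by rw [← (p.map Item.z3).sum_eq]; exact h.e3
  e4 := by rw [← (p.map Item.z4).sum_eq]; exact h.e4
  e5 := by rw [← (p.map Item.z5).sum_eq]; exact h.e5

theorem ratLo_le {v a m off : Int} {exact : Bool} (hD : 0 < 64 * a + off) (ha : a ≤ m)
    (he : exact = true → m = a) :
    ((ratLo v (64 * a + off) exact : Int) : ℚ) ≤ (v : ℚ) / ((64 * m + off : Int) : ℚ) * scale := by
  have hD' : 0 < 64 * m + off := by omega
  unfold ratLo
  split
  · rename_i h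
    have hq := Int.ediv_mul_le (v * scale) hD.ne'
    have h1 : (((v * scale) / (64 * a + off) : Int) : ℚ) ≤ (v : ℚ) * scale / ((64 * a + off : Int) : ℚ) := by
      rw [le_div_iff₀ (by exact_mod_cast hD)]
      exact_mod_cast hq
    refine h1.trans ?_
    rw [mul_div_right_comm]
    refine mul_le_mul_of_nonneg_right ?_ (by norm_num [scale])
    simp only [Bool.or_eq_true, decide_eq_true_eq] at h
    rcases h with h | h
    · rw [he h]
    · rw [div_le_div_iff₀ (by exact_mod_cast hD) (by exact_mod_cast hD')]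
      have : v * (64 * m + off) ≤ v * (64 * a + off) := Int.mul_le_mul_of_nonpos_left h.le (by omega)
      exact_mod_cast this
  · rename_i h
    simp only [Bool.or_eq_true, decide_eq_true_eq, not_or, not_lt] at h
    rw [Int.cast_zero]
    exact mul_nonneg (div_nonneg (by exact_mod_cast h.2) (by exact_mod_cast hD'.le)) (by norm_num [scale])

theorem ratHi_eq (v D : Int) (exact : Bool) : ratHi v D exact = -ratLo (-v) D exact := by
  unfold ratHi ratLo
  rw [Int.neg_mul, show decide (0 < v) = decide (-v < 0) from decide_eq_decide.2 (by omega)]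
  split <;> simp

theorem le_ratHi {v a m off : Int} {exact : Bool} (hD : 0 < 64 * a + off) (ha : a ≤ m)
    (he : exact = true → m = a) :
    (v : ℚ) / ((64 * m + off : Int) : ℚ) * scale ≤ ((ratHi v (64 * a + off) exact : Int) : ℚ) := by
  have h := ratLo_le (v := -v) hD ha he
  rw [ratHi_eq, Int.cast_neg]
  rw [Int.cast_neg, neg_div, neg_mul] at h
  linarith

/-- `o` is a lower bound for `q`, when it is given. -/
def LoOK (o : Option Int) (q : ℚ) : Prop := ∀ z, o = some z → (z : ℚ) ≤ q

/-- `o` is an upper bound for `q`, when it is given. -/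
def HiOK (o : Option Int) (q : ℚ) : Prop := ∀ z, o = some z → q ≤ (z : ℚ)

theorem linLo_ok {v a m : Int} {exact : Bool} (ha : a ≤ m) (he : exact = true → m = a) :
    LoOK (linLo v a exact) ((v * m : Int) : ℚ) := fun z hz => by
  unfold linLo at hz
  split at hz
  · rename_i h
    simp only [Option.some.injEq] at hz
    subst hz
    simp only [Bool.or_eq_true, decide_eq_true_eq] at h
    rcases h with h | h
    · rw [he h]
    · exact_mod_cast Int.mul_le_mul_of_nonneg_left ha h
  · exact absurd hz (by simp)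

theorem linHi_ok {v a m : Int} {exact : Bool} (ha : a ≤ m) (he : exact = true → m = a) :
    HiOK (linHi v a exact) ((v * m : Int) : ℚ) := fun z hz => by
  unfold linHi at hz
  split at hz
  · rename_i h
    simp only [Option.some.injEq] at hz
    subst hz
    simp only [Bool.or_eq_true, decide_eq_true_eq] at h
    rcases h with h | h
    · rw [he h]
    · exact_mod_cast Int.mul_le_mul_of_nonpos_left h ha
  · exact absurd hz (by simp)

/-- Six bounds on the values of a unit. -/
def Item.LoB (u : Item) (b : Six (Option Int)) : Prop :=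
  LoOK b.h0 (u.r0 * scale) ∧ LoOK b.h1 (u.r1 * scale) ∧ LoOK b.h2 (u.r2 * scale) ∧
    LoOK b.h3 (u.z3 : ℚ) ∧ LoOK b.h4 (u.z4 : ℚ) ∧ LoOK b.h5 (u.z5 : ℚ)

def Item.HiB (u : Item) (b : Six (Option Int)) : Prop :=
  HiOK b.h0 (u.r0 * scale) ∧ HiOK b.h1 (u.r1 * scale) ∧ HiOK b.h2 (u.r2 * scale) ∧
    HiOK b.h3 (u.z3 : ℚ) ∧ HiOK b.h4 (u.z4 : ℚ) ∧ HiOK b.h5 (u.z5 : ℚ)

/-- What is known agrees with the unit. -/
def Known.OK (kn : Known) (u : Item) : Prop :=
  kn.sgn = u.sgn ∧ lo u.vec ≤ kn.a ∧ kn.a ≤ u.m ∧ (kn.exact = true → u.m = kn.a)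

theorem init_ok {u : Item} (hu : u.Valid) : (initKnown u.t u.sgn).OK u :=
  ⟨rfl, le_refl _, hu.2, fun h => absurd h (by simp [initKnown])⟩

theorem knownLo_ok {u : Item} (hu : u.Valid) {kn : Known} (hk : kn.OK u) : u.LoB (knownLo u.t kn) := by
  obtain ⟨hs, hlo, ha, he⟩ := hk
  have hD : 0 < 64 * kn.a + u.vec.off := by
    have h := (table_facts hu.1).2.2.2.1 u.sgn
    simp only [Item.vec] at hlo ⊢
    omega
  simp only [knownLo, hs]
  exact ⟨fun z hz => Option.some.inj hz ▸ ratLo_le hD ha he, fun z hz => Option.some.inj hz ▸ ratLo_le hD ha he,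
    fun z hz => Option.some.inj hz ▸ ratLo_le hD ha he, linLo_ok ha he, linLo_ok ha he, linLo_ok ha he⟩

theorem knownHi_ok {u : Item} (hu : u.Valid) {kn : Known} (hk : kn.OK u) : u.HiB (knownHi u.t kn) := by
  obtain ⟨hs, hlo, ha, he⟩ := hk
  have hD : 0 < 64 * kn.a + u.vec.off := by
    have h := (table_facts hu.1).2.2.2.1 u.sgn
    simp only [Item.vec] at hlo ⊢
    omega
  simp only [knownHi, hs]
  exact ⟨fun z hz => Option.some.inj hz ▸ le_ratHi hD ha he, fun z hz => Option.some.inj hz ▸ le_ratHi hD ha he,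
    fun z hz => Option.some.inj hz ▸ le_ratHi hD ha he, linHi_ok ha he, linHi_ok ha he, linHi_ok ha he⟩

theorem optMin_left {a b : Option Int} {q : ℚ} (h : LoOK a q) : LoOK (optMin a b) q := fun z hz => by
  rcases a with _ | u <;> rcases b with _ | v <;> simp only [optMin, reduceCtorEq] at hz
  cases hz
  exact le_trans (by exact_mod_cast min_le_left u v) (h u rfl)

theorem optMin_right {a b : Option Int} {q : ℚ} (h : LoOK b q) : LoOK (optMin a b) q := fun z hz => by
  rcases a with _ | u <;> rcases b with _ | v <;> simp only [optMin, reduceCtorEq] at hz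
  cases hz
  exact le_trans (by exact_mod_cast min_le_right u v) (h v rfl)

theorem optMax_left {a b : Option Int} {q : ℚ} (h : HiOK a q) : HiOK (optMax a b) q := fun z hz => by
  rcases a with _ | u <;> rcases b with _ | v <;> simp only [optMax, reduceCtorEq] at hz
  cases hz
  exact le_trans (h u rfl) (by exact_mod_cast le_max_left u v)

theorem optMax_right {a b : Option Int} {q : ℚ} (h : HiOK b q) : HiOK (optMax a b) q := fun z hz => by
  rcases a with _ | u <;> rcases b with _ | v <;> simp only [optMax, reduceCtorEq] at hz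
  cases hz
  exact le_trans (h v rfl) (by exact_mod_cast le_max_right u v)

theorem lo_add {a b : Option Int} {p q : ℚ} (h : LoOK a p) (h' : LoOK b q) : LoOK (optAdd a b) (p + q) :=
  fun z hz => by
  rcases a with _ | u <;> rcases b with _ | v <;> simp only [optAdd, reduceCtorEq] at hz
  cases hz
  push_cast
  exact add_le_add (h u rfl) (h' v rfl)

theorem hi_add {a b : Option Int} {p q : ℚ} (h : HiOK a p) (h' : HiOK b q) : HiOK (optAdd a b) (p + q) :=
  fun z hz => by
  rcases a with _ | u <;> rcases b with _ | v <;> simp only [optAdd, reduceCtorEq] at hz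
  cases hz
  push_cast
  exact add_le_add (h u rfl) (h' v rfl)

/-- A slot agrees with a unit. -/
def Match (u : Item) (s : Ty × Option Known) : Prop := s.1 = u.t ∧ ∀ kn, s.2 = some kn → kn.OK u

theorem slot_ok {u : Item} (hu : u.Valid) {s : Ty × Option Known} (h : Match u s) :
    u.LoB (slotLo s) ∧ u.HiB (slotHi s) := by
  obtain ⟨t, o⟩ := s
  obtain ⟨rfl, h2⟩ := h
  rcases o with _ | kn
  · have hl := knownLo_ok hu (init_ok hu)
    have hh := knownHi_ok hu (init_ok hu)
    obtain ⟨a, b, c, d, e, f⟩ := hl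
    obtain ⟨a', b', c', d', e', f'⟩ := hh
    simp only [slotLo, slotHi, Six.map₂, Item.LoB, Item.HiB]
    cases hb : u.sgn <;> rw [hb] at a b c d e f a' b' c' d' e' f'
    · exact ⟨⟨optMin_right a, optMin_right b, optMin_right c, optMin_right d, optMin_right e, optMin_right f⟩,
        optMax_right a', optMax_right b', optMax_right c', optMax_right d', optMax_right e', optMax_right f'⟩
    · exact ⟨⟨optMin_left a, optMin_left b, optMin_left c, optMin_left d, optMin_left e, optMin_left f⟩,
        optMax_left a', optMax_left b', optMax_left c', optMax_left d', optMax_left e', optMax_left f'⟩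
  · exact ⟨knownLo_ok hu (h2 kn rfl), knownHi_ok hu (h2 kn rfl)⟩

theorem tot_ok : ∀ (M : List Item) (l : List (Ty × Option Known)), (∀ u ∈ M, u.Valid) →
    List.Forall₂ Match M l →
    (LoOK (totLo l).h0 ((M.map Item.r0).sum * scale) ∧ LoOK (totLo l).h1 ((M.map Item.r1).sum * scale) ∧
      LoOK (totLo l).h2 ((M.map Item.r2).sum * scale) ∧ LoOK (totLo l).h3 ((M.map Item.z3).sum : ℚ) ∧
      LoOK (totLo l).h4 ((M.map Item.z4).sum : ℚ) ∧ LoOK (totLo l).h5 ((M.map Item.z5).sum : ℚ)) ∧
    (HiOK (totHi l).h0 ((M.map Item.r0).sum * scale) ∧ HiOK (totHi l).h1 ((M.map Item.r1).sum * scale) ∧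
      HiOK (totHi l).h2 ((M.map Item.r2).sum * scale) ∧ HiOK (totHi l).h3 ((M.map Item.z3).sum : ℚ) ∧
      HiOK (totHi l).h4 ((M.map Item.z4).sum : ℚ) ∧ HiOK (totHi l).h5 ((M.map Item.z5).sum : ℚ)) := by
  intro M l hv h
  induction h with
  | nil =>
    simp only [totLo, totHi, sixZero, List.map_nil, List.sum_nil, zero_mul, Int.cast_zero]
    refine ⟨⟨?_, ?_, ?_, ?_, ?_, ?_⟩, ?_, ?_, ?_, ?_, ?_, ?_⟩ <;> intro z hz <;>
      (cases hz; simp)
  | @cons u s M' l' hh _ ih =>
    obtain ⟨⟨a, b, c, d, e, f⟩, a', b', c', d', e', f'⟩ := slot_ok (hv u (List.mem_cons_self ..)) hh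
    obtain ⟨⟨A, B, C, D, E, F⟩, A', B', C', D', E', F'⟩ := ih fun v hv' => hv v (List.mem_cons_of_mem _ hv')
    simp only [totLo, totHi, Six.map₂, List.map_cons, List.sum_cons, add_mul, Int.cast_add]
    exact ⟨⟨lo_add a A, lo_add b B, lo_add c C, lo_add d D, lo_add e E, lo_add f F⟩,
      hi_add a' A', hi_add b' B', hi_add c' C', hi_add d' D', hi_add e' E', hi_add f' F'⟩

theorem not_above {o : Option Int} {q : ℚ} {T : Int} (h : LoOK o q) (hq : q ≤ T) : above o T = false := by
  rcases o with _ | z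
  · rfl
  · simp only [above, decide_eq_false_iff_not, not_lt]
    exact_mod_cast (h z rfl).trans hq

theorem not_below {o : Option Int} {q : ℚ} {T : Int} (h : HiOK o q) (hq : (T : ℚ) ≤ q) : below o T = false := by
  rcases o with _ | z
  · rfl
  · simp only [below, decide_eq_false_iff_not, not_lt]
    exact_mod_cast hq.trans (h z rfl)

theorem not_refuted {M : List Item} (hM : Sys M) {l : List (Ty × Option Known)} (h : List.Forall₂ Match M l) :
    refuted l = false := by
  obtain ⟨⟨A, B, C, D, E, F⟩, A', B', C', D', E', F'⟩ := tot_ok M l hM.valid h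
  rw [hM.e0] at A A'
  rw [hM.e1] at B B'
  rw [hM.e3] at D D'
  rw [hM.e4] at E E'
  rw [hM.e5] at F F'
  have hC : ((scale : Int) : ℚ) ≤ (M.map Item.r2).sum * scale :=
    le_mul_of_one_le_left (by norm_num [scale]) hM.e2
  simp only [refuted, Bool.or_eq_false_iff]
  exact ⟨⟨⟨⟨⟨⟨⟨⟨⟨⟨not_above A (by push_cast; exact le_rfl), not_below A' (by push_cast; exact le_rfl)⟩,
    not_above B (by push_cast; linarith)⟩, not_below B' (by push_cast; linarith)⟩, not_below C' hC⟩,
    not_above D le_rfl⟩, not_below D' le_rfl⟩, not_above E le_rfl⟩, not_below E' le_rfl⟩, not_above F le_rfl⟩,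
    not_below F' le_rfl⟩

theorem setKnown_ok : ∀ {M : List Item} {l : List (Ty × Option Known)}, List.Forall₂ Match M l →
    ∀ {i : ℕ} {kn : Known}, (∀ u, M[i]? = some u → kn.OK u) → List.Forall₂ Match M (setKnown l i kn) := by
  intro M l h
  induction h with
  | nil => intro i kn _; exact List.Forall₂.nil
  | @cons u s M' l' hh ht ih =>
    intro i kn hk
    obtain ⟨t, o⟩ := s
    rcases i with _ | i
    · exact List.Forall₂.cons ⟨hh.1, fun kn' e => Option.some.inj e ▸ hk u rfl⟩ ht
    · exact List.Forall₂.cons hh (ih fun v hv => hk v (by simpa using hv))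

theorem getElem_match : ∀ {M : List Item} {l : List (Ty × Option Known)}, List.Forall₂ Match M l →
    ∀ {i : ℕ} {s : Ty × Option Known}, l[i]? = some s → ∃ u, M[i]? = some u ∧ Match u s := by
  intro M l h
  induction h with
  | nil => intro i s hs; simp at hs
  | @cons u s' M' l' hh _ ih =>
    intro i s hs
    rcases i with _ | i
    · simp only [List.getElem?_cons_zero, Option.some.injEq] at hs
      exact ⟨u, rfl, hs ▸ hh⟩
    · simpa using ih (by simpa using hs)

/-- A certificate which passes excludes the equations. -/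
theorem check_sound : ∀ (T : Tree) {M : List Item}, Sys M → ∀ {l : List (Ty × Option Known)},
    List.Forall₂ Match M l → check T l = false := by
  intro T
  induction T with
  | L => intro M hM l h; exact not_refuted hM h
  | S i A B ihA ihB =>
    intro M hM l h
    rcases hs : l[i]? with _ | ⟨t, o⟩
    · simp [check, hs]
    obtain ⟨u, hu, ht, hk⟩ := getElem_match h hs
    have hval := hM.valid u (List.mem_of_getElem? hu)
    have key : ∀ {kn : Known}, kn.OK u → List.Forall₂ Match M (setKnown l i kn) := fun hk' =>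
      setKnown_ok h fun v hv => by rw [hu] at hv; cases hv; exact hk'
    cases ht
    rcases o with _ | kn
    · have h1 := init_ok hval
      simp only [check, hs, Bool.and_eq_false_iff]
      cases hb : u.sgn <;> rw [hb] at h1
      · exact Or.inr (ihB hM (key h1))
      · exact Or.inl (ihA hM (key h1))
    · obtain ⟨hs', hlo, ha, he⟩ := hk kn rfl
      simp only [check, hs, Bool.and_eq_false_iff]
      rcases hex : kn.exact with _ | _
      · rcases ha.lt_or_eq with hlt | heq
        · exact Or.inr (ihB hM (key ⟨hs', by show lo u.vec ≤ kn.a + 1; omega, by show kn.a + 1 ≤ u.m; omega,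
            fun e => absurd e (by simp)⟩))
        · exact Or.inl (Or.inr (ihA hM (key ⟨hs', hlo, ha, fun _ => heq.symm⟩)))
      · exact Or.inl (Or.inl (by simp [hex]))

end Cfsg.Agent.UFourRows
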