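import Cfsg.Agent.Lib.UFourRows.Setup
import Cfsg.Agent.Lib.Characters.Inner
import Cfsg.Agent.Lib.Cores.Basic

/-!
The centralizer of an involution of the four-group, modulo its core: `S : ⟨y⟩` of order 320.
-/

set_option autoImplicit false
set_option linter.style.haveILetI false
set_option linter.unusedSectionVars false

namespace Cfsg.Agent.UFourRows.LocalFive

open Subgroup Cfsg.Agent.CIT

universe u

variable {G : Type u} [Group G] [Finite G] {S : Sylow 2 G} {Z : Subgroup G} {O : G → Subgroup G}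
  {y z : G}

variable (h : LocalFive S Z O y)
include h

theorem y_norm_pow (i : ℕ) : y ^ i ∈ normalizer ((S : Subgroup G) : Set G) := pow_mem h.y_norm i

theorem conj_pow_mem (i : ℕ) {t : G} (ht : t ∈ (S : Subgroup G)) :
    y ^ i * t * (y ^ i)⁻¹ ∈ (S : Subgroup G) :=
  (mem_normalizer_iff.1 (h.y_norm_pow i) t).1 ht

theorem exists_ne_one : ∃ w ∈ Z, w ≠ (1 : G) := by
  haveI : Nontrivial Z := Finite.one_lt_card_iff_nontrivial.1 (by rw [h.sylow.card_Z]; omega)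
  obtain ⟨⟨w, hw⟩, hw1⟩ := exists_ne (1 : Z)
  exact ⟨w, hw, fun e => hw1 (Subtype.ext e)⟩

/-- The powers of `y ^ 5` centralize `S`. -/
theorem five_fix (m : ℕ) {t : G} (ht : t ∈ (S : Subgroup G)) :
    (y ^ 5) ^ m * t * ((y ^ 5) ^ m)⁻¹ = t := by
  obtain ⟨w, hw, hw1⟩ := h.exists_ne_one
  have hm : (y ^ 5) ^ m ∈ O w := pow_mem (h.y_pow w hw hw1) m
  have ht' : t ∈ normalizer (O w : Set G) :=
    h.core_normal w hw hw1 (UFour.le_centralizer h.sylow hw ht)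
  refine mul_inv_eq_one.1 (UFour.eq_one_of_mem_odd (S := S) (h.core_odd w hw hw1) ?_ ?_)
  · rw [show (y ^ 5) ^ m * t * ((y ^ 5) ^ m)⁻¹ * t⁻¹ = (y ^ 5) ^ m * (t * ((y ^ 5) ^ m)⁻¹ * t⁻¹) by group]
    exact mul_mem hm ((mem_normalizer_iff.1 ht' _).1 (inv_mem hm))
  · refine mul_mem ?_ (inv_mem ht)
    rw [← pow_mul]
    exact h.conj_pow_mem _ ht

/-- The powers of `y` prime to five act freely on `S / Z`. -/
theorem pow_free {j : ℕ} (hj : ¬ 5 ∣ j) {s : G} (hs : s ∈ (S : Subgroup G))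
    (he : y ^ j * s * (y ^ j)⁻¹ * s⁻¹ ∈ Z) : s ∈ Z := by
  have hcent : ∀ w ∈ Z, ∀ k : ℕ, y ^ k * w * (y ^ k)⁻¹ = w := fun w hw k => by
    rw [((show Commute y w from h.y_central w hw).pow_left k).eq, mul_inv_cancel_right]
  have hpow : ∀ k : ℕ, (y ^ j) ^ k * s * ((y ^ j) ^ k)⁻¹ * s⁻¹ ∈ Z := by
    intro k
    induction k with
    | zero => simp
    | succ k ih =>
      have e : (y ^ j) ^ (k + 1) * s * ((y ^ j) ^ (k + 1))⁻¹ * s⁻¹ =
          (y ^ j) * ((y ^ j) ^ k * s * ((y ^ j) ^ k)⁻¹ * s⁻¹) * (y ^ j)⁻¹ *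
            (y ^ j * s * (y ^ j)⁻¹ * s⁻¹) := by rw [pow_succ']; group
      rw [e, hcent _ ih j]
      exact mul_mem ih he
  obtain ⟨k, hk⟩ : ∃ k : ℕ, j * k % 5 = 1 := by
    have : j % 5 = 1 ∨ j % 5 = 2 ∨ j % 5 = 3 ∨ j % 5 = 4 := by omega
    rcases this with e | e | e | e
    exacts [⟨1, by omega⟩, ⟨3, by omega⟩, ⟨2, by omega⟩, ⟨4, by omega⟩]
  have hy : (y ^ j) ^ k = (y ^ 5) ^ (j * k / 5) * y := by
    rw [← pow_mul, ← pow_mul, ← pow_succ]
    congr 1
    omega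
  have := hpow k
  have hys : y * s * y⁻¹ ∈ (S : Subgroup G) := (mem_normalizer_iff.1 h.y_norm s).1 hs
  rw [hy, show (y ^ 5) ^ (j * k / 5) * y * s * ((y ^ 5) ^ (j * k / 5) * y)⁻¹ * s⁻¹ =
    (y ^ 5) ^ (j * k / 5) * (y * s * y⁻¹) * ((y ^ 5) ^ (j * k / 5))⁻¹ * s⁻¹ by group,
    h.five_fix _ hys] at this
  exact h.y_free s hs this

variable (hz : z ∈ Z) (hz1 : z ≠ 1)
include hz hz1

omit hz1 in
theorem S_le : (S : Subgroup G) ≤ centralizer ({z} : Set G) := UFour.le_centralizer h.sylow hz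

omit hz1 in
theorem y_mem : y ∈ centralizer ({z} : Set G) := mem_centralizer_singleton_iff.2 (h.y_central z hz)

theorem S_norm : (S : Subgroup G) ≤ normalizer (O z : Set G) :=
  (h.S_le hz).trans (h.core_normal z hz hz1)

theorem y_core : y ∈ normalizer (O z : Set G) := h.core_normal z hz hz1 (h.y_mem hz)

theorem inter {x : G} (hq : x ∈ O z) (hs : x ∈ (S : Subgroup G)) : x = 1 :=
  UFour.eq_one_of_mem_odd (h.core_odd z hz hz1) hq hs

/-- Every element of `C(z)` is `q t y ^ i`. -/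
theorem dec {c : G} (hc : c ∈ centralizer ({z} : Set G)) :
    ∃ q ∈ O z, ∃ t ∈ (S : Subgroup G), ∃ i : Fin 5, c = q * (t * y ^ (i : ℕ)) := by
  have hL : (S : Subgroup G) ⊔ zpowers y ≤ normalizer (O z : Set G) :=
    sup_le (h.S_norm hz hz1) (zpowers_le.2 (h.y_core hz hz1))
  have h1 := h.decomp z hz hz1 hc
  rw [← SetLike.mem_coe, sup_comm, Subgroup.coe_mul_of_left_le_normalizer_right _ _ hL] at h1
  obtain ⟨l, hl, q, hq, rfl⟩ := h1
  rw [sup_comm, Subgroup.coe_mul_of_left_le_normalizer_right _ _ (zpowers_le.2 h.y_norm)] at hl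
  obtain ⟨_, ⟨k, rfl⟩, t, ht, rfl⟩ := hl
  obtain ⟨r, hr⟩ : ∃ r : Fin 5, ((r : ℕ) : ℤ) = k % 5 :=
    ⟨⟨(k % 5).toNat, by omega⟩, by simp only; omega⟩
  have hi : y ^ k = (y ^ 5) ^ (k / 5) * y ^ (r : ℕ) := by
    rw [← zpow_natCast y (r : ℕ), hr, ← zpow_natCast y 5, ← zpow_mul, ← zpow_add, Nat.cast_ofNat,
      Int.mul_ediv_add_emod]
  refine ⟨(y ^ 5) ^ (k / 5) * (y ^ (r : ℕ) * t * q * (y ^ (r : ℕ) * t)⁻¹), ?_,
    y ^ (r : ℕ) * t * (y ^ (r : ℕ))⁻¹, h.conj_pow_mem _ ht, r, ?_⟩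
  · exact mul_mem (zpow_mem (h.y_pow z hz hz1) _) ((mem_normalizer_iff.1
      (hL (mul_mem (mem_sup_right (pow_mem (mem_zpowers y) _)) (mem_sup_left ht))) q).1 hq)
  · show y ^ k * t * q = _
    rw [hi]; group

theorem mem_big {x : G} (hx : x ∈ O z ⊔ (S : Subgroup G)) :
    ∃ q ∈ O z, ∃ t ∈ (S : Subgroup G), x = q * t := by
  rw [← SetLike.mem_coe, sup_comm,
    Subgroup.coe_mul_of_left_le_normalizer_right _ _ (h.S_norm hz hz1)] at hx
  obtain ⟨t, ht, q, hq, rfl⟩ := hx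
  exact ⟨t * q * t⁻¹, (mem_normalizer_iff.1 (h.S_norm hz hz1 ht) q).1 hq, t, ht,
    by show t * q = _; group⟩

/-- No proper power of `y` lies in `O(z) S`. -/
theorem pow_mem_big {i : ℕ} (hi : y ^ i ∈ O z ⊔ (S : Subgroup G)) : 5 ∣ i := by
  by_contra h5
  obtain ⟨q, hq, t, ht, he⟩ := h.mem_big hz hz1 hi
  have hyi : y ^ i ∈ normalizer (O z : Set G) := pow_mem (h.y_core hz hz1) i
  -- `y ^ i` fixes every element of `S` modulo `Z`
  have hall : ∀ s ∈ (S : Subgroup G), s ∈ Z := by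
    intro s hs
    refine h.pow_free h5 hs ?_
    have hts : t * s * t⁻¹ ∈ (S : Subgroup G) := mul_mem (mul_mem ht hs) (inv_mem ht)
    have e : y ^ i * s * (y ^ i)⁻¹ * (t * s * t⁻¹)⁻¹ =
        q * ((t * s * t⁻¹) * q⁻¹ * (t * s * t⁻¹)⁻¹) := by rw [he]; group
    have hmem : y ^ i * s * (y ^ i)⁻¹ * (t * s * t⁻¹)⁻¹ ∈ O z := by
      rw [e]
      exact mul_mem hq ((mem_normalizer_iff.1 (h.S_norm hz hz1 hts) _).1 (inv_mem hq))
    have := mul_inv_eq_one.1 (h.inter hz hz1 hmem (mul_mem (h.conj_pow_mem i hs) (inv_mem hts)))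
    rw [this]
    exact UFour.comm_mem h.sylow hs ht
  have hle : (S : Subgroup G) ≤ Z := hall
  have := card_dvd_of_le hle
  rw [h.sylow.card_S, h.sylow.card_Z] at this
  omega

theorem pow_inj {i j : Fin 5} (hij : (y ^ (i : ℕ))⁻¹ * y ^ (j : ℕ) ∈ O z ⊔ (S : Subgroup G)) :
    i = j := by
  have e : y ^ ((j : ℕ) + 5 - (i : ℕ)) = (y ^ (i : ℕ))⁻¹ * y ^ (j : ℕ) * y ^ 5 := by
    rw [mul_assoc, eq_inv_mul_iff_mul_eq, ← pow_add, ← pow_add,
      show (i : ℕ) + ((j : ℕ) + 5 - (i : ℕ)) = j + 5 by omega]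
  have := h.pow_mem_big hz hz1 (e ▸ mul_mem hij (mem_sup_left (h.y_pow z hz hz1)))
  exact Fin.ext (by omega)

theorem big_norm : centralizer ({z} : Set G) ≤ normalizer ((O z ⊔ (S : Subgroup G) : Subgroup G) : Set G) := by
  intro g hg
  obtain ⟨q, hq, t, ht, i, rfl⟩ := h.dec hz hz1 hg
  refine mul_mem (le_normalizer (mem_sup_left hq)) (mul_mem (le_normalizer (mem_sup_right ht)) ?_)
  refine pow_mem (mem_normalizer_fintype fun x hx => ?_) i
  obtain ⟨q', hq', t', ht', rfl⟩ := h.mem_big hz hz1 hx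
  rw [SetLike.mem_coe, show y * (q' * t') * y⁻¹ = (y * q' * y⁻¹) * (y * t' * y⁻¹) by group]
  exact mul_mem (mem_sup_left ((mem_normalizer_iff.1 (h.y_core hz hz1) q').1 hq'))
    (mem_sup_right ((mem_normalizer_iff.1 h.y_norm t').1 ht'))

/-- Commutators with powers of `y` lie in `O(z) S`. -/
theorem comm_big {g : G} (hg : g ∈ centralizer ({z} : Set G)) (i : ℕ) :
    g * y ^ i * g⁻¹ * (y ^ i)⁻¹ ∈ O z ⊔ (S : Subgroup G) := by
  obtain ⟨q, hq, t, ht, j, rfl⟩ := h.dec hz hz1 hg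
  have e : q * (t * y ^ (j : ℕ)) * y ^ i * (q * (t * y ^ (j : ℕ)))⁻¹ * (y ^ i)⁻¹ =
      (q * t) * (y ^ i * (q * t)⁻¹ * (y ^ i)⁻¹) := by
    rw [show q * (t * y ^ (j : ℕ)) * y ^ i = q * t * (y ^ i * y ^ (j : ℕ)) by
      rw [← pow_add, add_comm, pow_add]; group]
    group
  rw [e]
  have hm : q * t ∈ O z ⊔ (S : Subgroup G) := mul_mem (mem_sup_left hq) (mem_sup_right ht)
  exact mul_mem hm ((mem_normalizer_iff.1
    (h.big_norm hz hz1 (pow_mem (h.y_mem hz) i)) _).1 (inv_mem hm))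

theorem core_subgroup_normal : ((O z).subgroupOf (centralizer ({z} : Set G))).Normal :=
  ⟨fun q hq g => (mem_normalizer_iff.1 (h.core_normal z hz hz1 g.2) _).1 hq⟩

theorem core_subgroup_odd : ¬ 2 ∣ Nat.card ((O z).subgroupOf (centralizer ({z} : Set G))) := by
  rw [Nat.card_congr (subgroupOfEquivOfLe (h.core_le z hz hz1)).toEquiv]
  exact fun h2 => Nat.not_even_iff_odd.2 (h.core_odd z hz hz1) (even_iff_two_dvd.2 h2)

variable [hQn : ((O z).subgroupOf (centralizer ({z} : Set G))).Normal]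
include hQn

/-- The map from `S × ⟨y⟩` onto the centralizer modulo its core. -/
theorem exists_model :
    ∃ e : ↥(S : Subgroup G) × Fin 5 ≃
        (centralizer ({z} : Set G)) ⧸ (O z).subgroupOf (centralizer ({z} : Set G)),
      ∀ (t : (S : Subgroup G)) (i : Fin 5), e (t, i) = QuotientGroup.mk
        (⟨(t : G) * y ^ (i : ℕ), mul_mem (h.S_le hz t.2) (pow_mem (h.y_mem hz) _)⟩ :
          centralizer ({z} : Set G)) := by
  refine ⟨Equiv.ofBijective (fun p : ↥(S : Subgroup G) × Fin 5 => QuotientGroup.mk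
    (⟨(p.1 : G) * y ^ (p.2 : ℕ), mul_mem (h.S_le hz p.1.2) (pow_mem (h.y_mem hz) _)⟩ :
      centralizer ({z} : Set G))) ⟨?_, ?_⟩, fun t i => rfl⟩
  · rintro ⟨t, i⟩ ⟨t', j⟩ he
    have hq : ((t : G) * y ^ (i : ℕ))⁻¹ * ((t' : G) * y ^ (j : ℕ)) ∈ O z :=
      mem_subgroupOf.1 (QuotientGroup.eq.1 he)
    have hij : i = j := by
      refine h.pow_inj hz hz1 ?_
      have hC : y ^ (i : ℕ) ∈ centralizer ({z} : Set G) := pow_mem (h.y_mem hz) _
      have hm := (mem_normalizer_iff''.1 (h.big_norm hz hz1 hC) _).1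
        (mem_sup_right (T := (S : Subgroup G)) (S := O z) (mul_mem (inv_mem t.2) t'.2))
      rw [show (y ^ (i : ℕ))⁻¹ * y ^ (j : ℕ) = ((y ^ (i : ℕ))⁻¹ * ((t : G)⁻¹ * t') * y ^ (i : ℕ))⁻¹ *
        (((t : G) * y ^ (i : ℕ))⁻¹ * ((t' : G) * y ^ (j : ℕ))) by group]
      exact mul_mem (inv_mem hm) (mem_sup_left hq)
    subst hij
    have htt : (t : G)⁻¹ * t' ∈ O z := by
      rw [show (t : G)⁻¹ * t' = y ^ (i : ℕ) *
        (((t : G) * y ^ (i : ℕ))⁻¹ * ((t' : G) * y ^ (i : ℕ))) * (y ^ (i : ℕ))⁻¹ by group]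
      exact (mem_normalizer_iff.1 (pow_mem (h.y_core hz hz1) _) _).1 hq
    exact Prod.ext (Subtype.ext
      (inv_mul_eq_one.1 (h.inter hz hz1 htt (mul_mem (inv_mem t.2) t'.2)))) rfl
  · intro a
    obtain ⟨c, rfl⟩ := QuotientGroup.mk_surjective a
    obtain ⟨q, hq, t, ht, i, hc⟩ := h.dec hz hz1 c.2
    refine ⟨(⟨t, ht⟩, i), QuotientGroup.eq.2 (mem_subgroupOf.2 ?_)⟩
    show (t * y ^ (i : ℕ))⁻¹ * (c : G) ∈ O z
    rw [hc, show (t * y ^ (i : ℕ))⁻¹ * (q * (t * y ^ (i : ℕ))) =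
      (t * y ^ (i : ℕ))⁻¹ * q * (t * y ^ (i : ℕ)) by group]
    exact (mem_normalizer_iff''.1 (mul_mem (h.S_norm hz hz1 ht)
      (pow_mem (h.y_core hz hz1) _)) q).1 hq

/-- The image of a power of `y`. -/
abbrev ybar (z : G) (O : G → Subgroup G) [((O z).subgroupOf (centralizer ({z} : Set G))).Normal]
    (a : centralizer ({z} : Set G)) :
    (centralizer ({z} : Set G)) ⧸ (O z).subgroupOf (centralizer ({z} : Set G)) :=
  QuotientGroup.mk a

theorem card_quotient :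
    Nat.card ((centralizer ({z} : Set G)) ⧸ (O z).subgroupOf (centralizer ({z} : Set G))) = 320 := by
  obtain ⟨e, -⟩ := h.exists_model hz hz1
  rw [← Nat.card_congr e, Nat.card_prod, h.sylow.card_S, Nat.card_fin]

/-- The centralizer of a power of `y` modulo the core. -/
theorem card_centralizer_pow (i : Fin 5) :
    Nat.card (centralizer ({ybar z O ⟨y ^ (i : ℕ), pow_mem (h.y_mem hz) _⟩} :
        Set ((centralizer ({z} : Set G)) ⧸ (O z).subgroupOf (centralizer ({z} : Set G))))) =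
      if i = 0 then 320 else 20 := by
  obtain ⟨e, he⟩ := h.exists_model hz hz1
  split_ifs with hi
  · subst hi
    rw [show centralizer ({ybar z O ⟨y ^ ((0 : Fin 5) : ℕ), pow_mem (h.y_mem hz) _⟩} :
        Set ((centralizer ({z} : Set G)) ⧸ (O z).subgroupOf (centralizer ({z} : Set G)))) = ⊤ from
      eq_top_iff.2 fun a _ => mem_centralizer_singleton_iff.2 (by
        rw [show (⟨y ^ ((0 : Fin 5) : ℕ), pow_mem (h.y_mem hz) _⟩ : centralizer ({z} : Set G)) = 1 from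
          Subtype.ext (by simp)]
        simp [ybar]), Subgroup.card_top, h.card_quotient hz hz1]
  · have key : ∀ (t : (S : Subgroup G)) (j : Fin 5),
        e (t, j) ∈ centralizer ({ybar z O ⟨y ^ (i : ℕ), pow_mem (h.y_mem hz) _⟩} :
          Set ((centralizer ({z} : Set G)) ⧸ (O z).subgroupOf (centralizer ({z} : Set G)))) ↔
        (t : G) ∈ Z := by
      intro t j
      rw [mem_centralizer_singleton_iff, he]
      show QuotientGroup.mk (_ * _ : centralizer ({z} : Set G)) = QuotientGroup.mk (_ * _) ↔ _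
      rw [QuotientGroup.eq, mem_subgroupOf]
      simp only [Subgroup.coe_mul, Subgroup.coe_inv]
      have e1 : ((t : G) * y ^ (j : ℕ) * y ^ (i : ℕ))⁻¹ * (y ^ (i : ℕ) * ((t : G) * y ^ (j : ℕ))) =
          (y ^ ((i : ℕ) + j))⁻¹ * ((t : G)⁻¹ * (y ^ (i : ℕ) * t * (y ^ (i : ℕ))⁻¹)) *
            y ^ ((i : ℕ) + j) := by
        rw [show (t : G) * y ^ (j : ℕ) * y ^ (i : ℕ) = t * y ^ ((i : ℕ) + j) by
          rw [mul_assoc, ← pow_add, add_comm], pow_add]
        group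
      rw [e1]
      constructor
      · intro hm
        have hm' := (mem_normalizer_iff.1 (pow_mem (h.y_core hz hz1) ((i : ℕ) + j)) _).1 hm
        rw [show ∀ a b : G, a * (a⁻¹ * b * a) * a⁻¹ = b from fun a b => by group] at hm'
        have h1 := h.inter hz hz1 hm' (mul_mem (inv_mem t.2) (h.conj_pow_mem _ t.2))
        refine h.pow_free (j := (i : ℕ)) ?_ t.2 ?_
        · intro h5
          exact hi (Fin.ext (by have := i.2; simp only [Fin.val_zero]; omega))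
        · rw [← inv_mul_eq_one.1 h1, mul_inv_cancel]
          exact one_mem Z
      · intro htZ
        rw [((show Commute y (t : G) from h.y_central t htZ).pow_left _).eq, mul_inv_cancel_right]
        simp
    have e2 : Z × Fin 5 ≃ (centralizer ({ybar z O ⟨y ^ (i : ℕ), pow_mem (h.y_mem hz) _⟩} :
        Set ((centralizer ({z} : Set G)) ⧸ (O z).subgroupOf (centralizer ({z} : Set G))))) :=
      { toFun := fun p => ⟨e (⟨p.1, h.sylow.Z_le p.1.2⟩, p.2), (key _ _).2 p.1.2⟩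
        invFun := fun a => (⟨((e.symm a.1).1 : G),
          (key (e.symm a.1).1 (e.symm a.1).2).1 (by rw [Prod.mk.eta, e.apply_symm_apply]; exact a.2)⟩,
          (e.symm a.1).2)
        left_inv := fun p => by
          refine Prod.ext (Subtype.ext ?_) ?_ <;> simp
        right_inv := fun a => Subtype.ext (by
          show e ((e.symm a.1).1, (e.symm a.1).2) = a.1
          rw [Prod.mk.eta, e.apply_symm_apply]) }
    rw [← Nat.card_congr e2, Nat.card_prod, h.sylow.card_Z, Nat.card_fin]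

/-- Different powers of `y` are not conjugate modulo the core. -/
theorem conj_pow_eq {i j : Fin 5}
    (hc : IsConj (ybar z O ⟨y ^ (i : ℕ), pow_mem (h.y_mem hz) _⟩)
      (ybar z O ⟨y ^ (j : ℕ), pow_mem (h.y_mem hz) _⟩)) : i = j := by
  obtain ⟨a, ha⟩ := isConj_iff.1 hc
  obtain ⟨g, rfl⟩ := QuotientGroup.mk_surjective a
  have hq : ((g : G) * y ^ (i : ℕ) * (g : G)⁻¹)⁻¹ * y ^ (j : ℕ) ∈ O z :=
    mem_subgroupOf.1 (QuotientGroup.eq.1 ha)
  refine h.pow_inj hz hz1 ?_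
  have hm := h.comm_big hz hz1 g.2 (i : ℕ)
  have hn := (mem_normalizer_iff''.1 (h.big_norm hz hz1 (pow_mem (h.y_mem hz) (i : ℕ))) _).1 hm
  rw [show (y ^ (i : ℕ))⁻¹ * y ^ (j : ℕ) =
    ((y ^ (i : ℕ))⁻¹ * ((g : G) * y ^ (i : ℕ) * (g : G)⁻¹ * (y ^ (i : ℕ))⁻¹) * y ^ (i : ℕ)) *
      (((g : G) * y ^ (i : ℕ) * (g : G)⁻¹)⁻¹ * y ^ (j : ℕ)) by group]
  exact mul_mem hn (mem_sup_left hq)

/-- The centralizer of the 2-core lies in it. -/
theorem constrained :
    centralizer (Cfsg.pCore 2 ((centralizer ({z} : Set G)) ⧸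
        (O z).subgroupOf (centralizer ({z} : Set G))) :
        Set ((centralizer ({z} : Set G)) ⧸ (O z).subgroupOf (centralizer ({z} : Set G)))) ≤
      Cfsg.pCore 2 ((centralizer ({z} : Set G)) ⧸ (O z).subgroupOf (centralizer ({z} : Set G))) := by
  haveI : Fact (Nat.Prime 2) := ⟨Nat.prime_two⟩
  set π := QuotientGroup.mk' ((O z).subgroupOf (centralizer ({z} : Set G))) with hπ
  set T := ((S : Subgroup G).subgroupOf (centralizer ({z} : Set G))).map π with hT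
  have hTn : T.Normal := by
    refine ⟨fun a ha b => ?_⟩
    obtain ⟨s, hs, rfl⟩ := mem_map.1 ha
    obtain ⟨g, rfl⟩ := QuotientGroup.mk_surjective b
    obtain ⟨q, hq, t, ht, i, hg⟩ := h.dec hz hz1 g.2
    have hgm : π g = π ⟨t * y ^ (i : ℕ), mul_mem (h.S_le hz ht) (pow_mem (h.y_mem hz) _)⟩ := by
      have hq' : (⟨q, h.core_le z hz hz1 hq⟩ : centralizer ({z} : Set G)) ∈
          (O z).subgroupOf (centralizer ({z} : Set G)) := hq
      rw [show g = ⟨q, h.core_le z hz hz1 hq⟩ *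
        ⟨t * y ^ (i : ℕ), mul_mem (h.S_le hz ht) (pow_mem (h.y_mem hz) _)⟩ from Subtype.ext hg,
        map_mul, show π ⟨q, h.core_le z hz hz1 hq⟩ = 1 from (QuotientGroup.eq_one_iff _).2 hq', one_mul]
    show π g * π s * (π g)⁻¹ ∈ T
    rw [hgm, ← map_inv, ← map_mul, ← map_mul]
    refine mem_map_of_mem π (mem_subgroupOf.2 ?_)
    show t * y ^ (i : ℕ) * (s : G) * (t * y ^ (i : ℕ))⁻¹ ∈ (S : Subgroup G)
    rw [show t * y ^ (i : ℕ) * (s : G) * (t * y ^ (i : ℕ))⁻¹ =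
      t * (y ^ (i : ℕ) * s * (y ^ (i : ℕ))⁻¹) * t⁻¹ by group]
    exact mul_mem (mul_mem ht (h.conj_pow_mem _ (mem_subgroupOf.1 hs))) (inv_mem ht)
  have hTp : IsPGroup 2 T :=
    (S.2.of_equiv (subgroupOfEquivOfLe (h.S_le hz)).symm).map π
  have hTle : T ≤ Cfsg.pCore 2 _ := haveI := hTn; Cores.le_pCore hTp
  intro a ha
  refine hTle ?_
  obtain ⟨e, he⟩ := h.exists_model hz hz1
  obtain ⟨⟨t, j⟩, rfl⟩ := e.surjective a
  have hcom : ∀ s : G, ∀ hs : s ∈ (S : Subgroup G),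
      Commute (e (t, j)) (π ⟨s, h.S_le hz hs⟩) := fun s hs =>
    (mem_centralizer_iff.1 ha _ (hTle (mem_map_of_mem π (mem_subgroupOf.2 hs)))).symm
  have hj : j = 0 := by
    by_contra hj
    have hall : ∀ s ∈ (S : Subgroup G), s ∈ Z := by
      intro s hs
      have hq := hcom s hs
      rw [Commute, SemiconjBy, he] at hq
      have hq' : ((t : G) * y ^ (j : ℕ) * s)⁻¹ * (s * ((t : G) * y ^ (j : ℕ))) ∈ O z :=
        mem_subgroupOf.1 (QuotientGroup.eq.1 hq)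
      have hn : (t : G) * y ^ (j : ℕ) ∈ normalizer (O z : Set G) :=
        mul_mem (h.S_norm hz hz1 t.2) (pow_mem (h.y_core hz hz1) _)
      have hm := (mem_normalizer_iff.1 hn _).1 hq'
      rw [show (t : G) * y ^ (j : ℕ) * (((t : G) * y ^ (j : ℕ) * s)⁻¹ * (s * ((t : G) * y ^ (j : ℕ)))) *
        ((t : G) * y ^ (j : ℕ))⁻¹ =
        (t * (y ^ (j : ℕ) * s * (y ^ (j : ℕ))⁻¹) * (t : G)⁻¹)⁻¹ * s by group] at hm
      have hys := h.conj_pow_mem (j : ℕ) hs
      have h1 := inv_mul_eq_one.1 (h.inter hz hz1 hm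
        (mul_mem (inv_mem (mul_mem (mul_mem t.2 hys) (inv_mem t.2))) hs))
      refine h.pow_free (j := (j : ℕ)) ?_ hs ?_
      · intro h5
        exact hj (Fin.ext (by have := j.2; simp only [Fin.val_zero]; omega))
      · have hc := UFour.comm_mem h.sylow hys t.2
        rw [h1] at hc
        rw [show y ^ (j : ℕ) * s * (y ^ (j : ℕ))⁻¹ * s⁻¹ = (s * (y ^ (j : ℕ) * s * (y ^ (j : ℕ))⁻¹)⁻¹)⁻¹ by group]
        exact inv_mem hc
    have := card_dvd_of_le (show (S : Subgroup G) ≤ Z from hall)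
    rw [h.sylow.card_S, h.sylow.card_Z] at this
    omega
  subst hj
  rw [he]
  exact mem_map_of_mem π (mem_subgroupOf.2 (by simp))

end Cfsg.Agent.UFourRows.LocalFive
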