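import Cfsg.Agent.Lib.UFourRows.SectionInner
import Cfsg.Agent.Lib.UFourRows.ColumnsLocal
import Cfsg.Agent.Lib.Blocks.InvariantCore
import Cfsg.Agent.Lib.Blocks.Inflation

/-!
The principal block of the centralizer of an involution of the four-group: the characters of the
quotient by the core.
-/

set_option autoImplicit false
set_option linter.style.haveILetI false
set_option linter.unusedSectionVars false

namespace Cfsg.Agent.UFourRows

open Cfsg.Agent.Characters Cfsg.Agent.Blocks Subgroup
open scoped ComplexConjugate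

universe u

open scoped Classical in
/-- Over a core with constrained quotient the principal block is inflated from the quotient. -/
theorem sum_principal_inflate {H : Type u} [Group H] [Finite H] {p : ℕ} [Fact p.Prime]
    {M : Ideal Cfsg.AlgInt} (hM : Cfsg.IsPModular p M) {N : Subgroup H} [N.Normal]
    (hN : ¬ p ∣ Nat.card N)
    (hcent : centralizer (Cfsg.pCore p (H ⧸ N) : Set (H ⧸ N)) ≤ Cfsg.pCore p (H ⧸ N))
    [Fintype (Cfsg.IrrCharacter H)] (a b : H) :
    ∑ η ∈ Finset.univ.filter (fun η => η ∈ Cfsg.principalBlock M H),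
        (η : H → ℂ) a * conj ((η : H → ℂ) b) =
      if IsConj (a : H ⧸ N) (b : H ⧸ N) then (Nat.card (centralizer ({(b : H ⧸ N)} : Set (H ⧸ N))) : ℂ)
      else 0 := by
  haveI := Fintype.ofFinite H
  haveI := Fintype.ofFinite N
  haveI := Fintype.ofFinite (H ⧸ N)
  haveI := Fintype.ofFinite (Cfsg.IrrCharacter (H ⧸ N))
  set π := QuotientGroup.mk' N
  have hπ : Function.Surjective π := QuotientGroup.mk'_surjective N
  let infl : Cfsg.IrrCharacter (H ⧸ N) → Cfsg.IrrCharacter H := fun ψ =>
    ⟨_, isIrrCharacter_comp_surjective π hπ ψ.2⟩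
  have hinj : Function.Injective infl := fun ψ φ e => Subtype.ext (funext fun v => by
    obtain ⟨g, rfl⟩ := hπ v
    exact congrFun (congrArg Subtype.val e) g)
  have hinv : ∀ g : H, conjIrr g (trivIrr N) = trivIrr N := fun g => Subtype.ext (funext fun v => by
    simp [coe_conjIrr, CharTheory.Clifford.conjBy_apply])
  obtain ⟨B, hB, hmem, -, -⟩ := InvariantCore.constrained_block hM hN hcent (trivIrr N) hinv
  have htriv : trivIrr H ∈ B := (hmem _).2 ((constituent_trivIrr_iff _).2 fun n _ => rfl)
  have hBeq : B = Cfsg.principalBlock M H :=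
    block_eq_of_mem hM hB (isPBlock_principal M H) htriv (trivIrr_mem_principal hM)
  have himg : Finset.univ.filter (fun η => η ∈ Cfsg.principalBlock M H) =
      Finset.univ.image infl := by
    ext η
    simp only [Finset.mem_filter, Finset.mem_univ, true_and, Finset.mem_image]
    constructor
    · intro hη
      obtain ⟨ψ, he, -⟩ := exists_deflate_sameBlock hM hN (trivIrr (H ⧸ N)) (ψ := η) hη
      exact ⟨ψ, Subtype.ext he.symm⟩
    · rintro ⟨ψ, rfl⟩
      rw [← hBeq, hmem]
      refine (constituent_trivIrr_iff _).2 fun n hn => ?_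
      show (ψ : H ⧸ N → ℂ) (π n) = (ψ : H ⧸ N → ℂ) (π 1)
      rw [show π n = 1 from (QuotientGroup.eq_one_iff n).2 hn, map_one]
  rw [himg, Finset.sum_image hinj.injOn]
  exact second_orthogonality (G := H ⧸ N) (π a) (π b)

namespace LocalFive

variable {G : Type u} [Group G] [Finite G] {S : Sylow 2 G} {Z : Subgroup G} {O : G → Subgroup G}
  {y z : G} (h : LocalFive S Z O y) (hz : z ∈ Z) (hz1 : z ≠ 1)
  {M : Ideal Cfsg.AlgInt} (hM : Cfsg.IsPModular 2 M)
include h hz hz1 hM

open scoped Classical in
/-- The kernel of the principal block of `C(z)`. -/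
theorem kernel_eq [hQn : ((O z).subgroupOf (centralizer ({z} : Set G))).Normal]
    (a c : centralizer ({z} : Set G)) :
    blockKernelAt (Cfsg.principalBlock M (centralizer ({z} : Set G))) a c =
      (Nat.card (centralizer ({z} : Set G)) : ℂ)⁻¹ *
        if IsConj (ybar z O a) (ybar z O c) then
          (Nat.card (centralizer ({ybar z O c} : Set ((centralizer ({z} : Set G)) ⧸
            (O z).subgroupOf (centralizer ({z} : Set G))))) : ℂ)
        else 0 := by
  haveI : Fact (Nat.Prime 2) := ⟨Nat.prime_two⟩
  haveI := Fintype.ofFinite (Cfsg.IrrCharacter (centralizer ({z} : Set G)))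
  rw [blockKernelAt_eq_sum, ← Finset.sum_filter,
    sum_principal_inflate hM (h.core_subgroup_odd hz hz1) (h.constrained hz hz1) a c]

end LocalFive

end Cfsg.Agent.UFourRows
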