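import Cfsg.Agent.Lib.UFourRows.Data

/-!
Every possible row has, up to a period of the rotation, exactly one representative.
-/

set_option autoImplicit false
set_option maxHeartbeats 0

namespace Cfsg.Agent.UFourRows

def Vec.zero : Vec := ⟨0, 0, 0, 0, 0, 0⟩

/-- The adjugate form of the Gram matrix. -/
def Vec.adjForm (x : Vec) : Int :=
  68 * (x.a * x.a) + 8 * (x.a * x.tot) - 40 * (x.a * x.p) +
    47 * (x.b * x.b + x.c * x.c + x.d * x.d + x.e * x.e) + 3 * (x.tot * x.tot) - 30 * (x.tot * x.p) + 28 * (x.p * x.p)

/-- A type containing its own negative. -/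
def Ty.selfNeg (t : Ty) : Bool := decide (t.x.rot = t.x.neg) || decide (t.x.rot.rot = t.x.neg)

def repIn : List Ty → Vec → Option (Ty × Bool)
  | [], _ => none
  | t :: l, x =>
    if x = t.x then some (t, true)
    else if !t.selfNeg && decide (x = t.x.neg) then some (t, false) else repIn l x

def rep (x : Vec) : Option (Ty × Bool) := repIn table x

def weight (x : Vec) : Int :=
  match rep x with
  | none => 0
  | some (t, _) => t.L

def covered (x : Vec) : Bool :=
  decide (x.adjForm > 188) || decide (x = Vec.zero) ||
    decide (weight x + weight x.rot + weight x.rot.rot + weight x.rot.rot.rot = 4)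

def small : List Int := [-2, -1, 0, 1, 2]

def middle : List Int := [-4, -3, -2, -1, 0, 1, 2, 3, 4]

theorem cover_ok : (small.all fun a => small.all fun b => small.all fun c => small.all fun d => small.all fun e =>
    middle.all fun p => covered ⟨a, b, c, d, e, p⟩) = true := by
  decide +kernel

end Cfsg.Agent.UFourRows
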