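import Cfsg.Agent.Lib.UFourRows.Defs

/-!
The orbit types and the certificates (generated by an exact search).
-/

set_option autoImplicit false

namespace Cfsg.Agent.UFourRows

/-- The orbit types. -/
def table : List Ty := [
  ⟨0, ⟨(-1), (-1), (-1), (-1), 0, (-4)⟩, 4, ⟨4, 3, 64, 3, 2, 2, 16, 12⟩⟩,
  ⟨1, ⟨(-1), (-1), (-1), (-1), 0, (-3)⟩, 4, ⟨4, 3, 36, 3, 2, 2, 12, 9⟩⟩,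
  ⟨2, ⟨(-1), (-1), (-1), (-1), 0, (-2)⟩, 4, ⟨4, 3, 16, 3, 2, 2, 8, 6⟩⟩,
  ⟨3, ⟨(-1), (-1), (-1), (-1), 0, (-1)⟩, 4, ⟨4, 3, 4, 3, 2, 2, 4, 3⟩⟩,
  ⟨4, ⟨(-1), (-1), (-1), 0, 1, (-1)⟩, 4, ⟨4, 3, 4, 1, 0, (-2), 4, 1⟩⟩,
  ⟨5, ⟨(-1), (-1), (-1), 1, 0, (-1)⟩, 4, ⟨4, 3, 4, 1, 0, (-2), 4, 1⟩⟩,
  ⟨6, ⟨(-1), (-1), 0, (-1), 1, (-1)⟩, 4, ⟨4, 3, 4, 1, (-2), 2, 4, 1⟩⟩,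
  ⟨7, ⟨(-1), (-1), (-1), 0, 0, (-3)⟩, 4, ⟨4, 2, 36, 2, 1, 0, 12, 6⟩⟩,
  ⟨8, ⟨(-1), (-1), (-1), 0, 0, (-2)⟩, 4, ⟨4, 2, 16, 2, 1, 0, 8, 4⟩⟩,
  ⟨9, ⟨(-1), (-1), (-1), 0, 0, (-1)⟩, 4, ⟨4, 2, 4, 2, 1, 0, 4, 2⟩⟩,
  ⟨10, ⟨(-1), (-1), 0, 0, 1, (-1)⟩, 4, ⟨4, 2, 4, 0, (-1), 0, 4, 0⟩⟩,
  ⟨11, ⟨(-1), (-1), 0, 1, 0, (-1)⟩, 4, ⟨4, 2, 4, 0, 0, (-2), 4, 0⟩⟩,
  ⟨12, ⟨(-1), (-1), 1, 0, 0, (-1)⟩, 4, ⟨4, 2, 4, 0, (-1), 0, 4, 0⟩⟩,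
  ⟨13, ⟨(-1), 0, 0, 1, 1, 1⟩, 4, ⟨4, 2, 4, (-2), 1, 0, (-4), 2⟩⟩,
  ⟨14, ⟨(-1), (-1), 0, 0, 1, 0⟩, 4, ⟨4, 2, 0, 0, (-1), 0, 0, 0⟩⟩,
  ⟨15, ⟨(-1), (-1), 0, 1, 0, 0⟩, 4, ⟨4, 2, 0, 0, 0, (-2), 0, 0⟩⟩,
  ⟨16, ⟨(-1), (-1), 1, 0, 0, 0⟩, 4, ⟨4, 2, 0, 0, (-1), 0, 0, 0⟩⟩,
  ⟨17, ⟨(-1), 0, 0, 1, 1, 0⟩, 4, ⟨4, 2, 0, (-2), 1, 0, 0, 0⟩⟩,
  ⟨18, ⟨(-1), (-1), 0, 0, 0, (-3)⟩, 4, ⟨4, 1, 36, 1, 0, 0, 12, 3⟩⟩,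
  ⟨19, ⟨(-1), (-1), 0, 0, 0, (-2)⟩, 4, ⟨4, 1, 16, 1, 0, 0, 8, 2⟩⟩,
  ⟨20, ⟨(-1), (-1), 0, 0, 0, (-1)⟩, 4, ⟨4, 1, 4, 1, 0, 0, 4, 1⟩⟩,
  ⟨21, ⟨(-1), 0, 0, 0, 1, (-1)⟩, 4, ⟨4, 1, 4, (-1), 0, 0, 4, (-1)⟩⟩,
  ⟨22, ⟨(-1), 0, 0, 0, 1, 1⟩, 4, ⟨4, 1, 4, (-1), 0, 0, (-4), 1⟩⟩,
  ⟨23, ⟨(-1), (-1), 0, 0, 0, 0⟩, 4, ⟨4, 1, 0, 1, 0, 0, 0, 0⟩⟩,
  ⟨24, ⟨(-1), 0, 0, 0, 1, 0⟩, 4, ⟨4, 1, 0, (-1), 0, 0, 0, 0⟩⟩,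
  ⟨25, ⟨(-1), (-1), 0, (-1), 0, (-3)⟩, 2, ⟨2, 1, 18, 1, 0, 1, 6, 3⟩⟩,
  ⟨26, ⟨(-1), (-1), 0, (-1), 0, (-2)⟩, 2, ⟨2, 1, 8, 1, 0, 1, 4, 2⟩⟩,
  ⟨27, ⟨(-1), (-1), 0, (-1), 0, (-1)⟩, 2, ⟨2, 1, 2, 1, 0, 1, 2, 1⟩⟩,
  ⟨28, ⟨(-1), 0, 1, 0, 1, 1⟩, 2, ⟨2, 1, 2, (-1), 0, 1, (-2), 1⟩⟩,
  ⟨29, ⟨(-1), 0, 1, 0, 1, 0⟩, 2, ⟨2, 1, 0, (-1), 0, 1, 0, 0⟩⟩,
  ⟨30, ⟨(-1), (-1), (-1), (-1), (-1), (-4)⟩, 1, ⟨1, 1, 16, 1, 1, 1, 4, 4⟩⟩,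
  ⟨31, ⟨(-1), (-1), (-1), (-1), (-1), (-3)⟩, 1, ⟨1, 1, 9, 1, 1, 1, 3, 3⟩⟩,
  ⟨32, ⟨(-1), (-1), (-1), (-1), (-1), (-2)⟩, 1, ⟨1, 1, 4, 1, 1, 1, 2, 2⟩⟩,
  ⟨33, ⟨(-1), 0, 0, 0, 0, (-2)⟩, 1, ⟨1, 0, 4, 0, 0, 0, 2, 0⟩⟩,
  ⟨34, ⟨(-1), 0, 0, 0, 0, (-1)⟩, 1, ⟨1, 0, 1, 0, 0, 0, 1, 0⟩⟩,
  ⟨35, ⟨(-1), 0, 0, 0, 0, 1⟩, 1, ⟨1, 0, 1, 0, 0, 0, (-1), 0⟩⟩,
  ⟨36, ⟨(-1), 0, 0, 0, 0, 0⟩, 1, ⟨1, 0, 0, 0, 0, 0, 0, 0⟩⟩,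
  ⟨37, ⟨0, (-2), 0, 0, 0, (-1)⟩, 4, ⟨0, 4, 4, 0, 0, 0, 0, 2⟩⟩,
  ⟨38, ⟨0, (-1), (-1), (-1), 1, (-1)⟩, 4, ⟨0, 4, 4, 0, 0, 0, 0, 2⟩⟩,
  ⟨39, ⟨0, (-1), (-1), 1, 1, 0⟩, 4, ⟨0, 4, 0, 0, 0, (-4), 0, 0⟩⟩,
  ⟨40, ⟨0, (-1), (-1), (-1), 0, (-3)⟩, 4, ⟨0, 3, 36, 0, 2, 2, 0, 9⟩⟩,
  ⟨41, ⟨0, (-1), (-1), (-1), 0, (-2)⟩, 4, ⟨0, 3, 16, 0, 2, 2, 0, 6⟩⟩,
  ⟨42, ⟨0, (-1), (-1), (-1), 0, (-1)⟩, 4, ⟨0, 3, 4, 0, 2, 2, 0, 3⟩⟩,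
  ⟨43, ⟨0, (-1), (-1), 0, 1, (-1)⟩, 4, ⟨0, 3, 4, 0, 0, (-2), 0, 1⟩⟩,
  ⟨44, ⟨0, (-1), (-1), 1, 0, (-1)⟩, 4, ⟨0, 3, 4, 0, 0, (-2), 0, 1⟩⟩,
  ⟨45, ⟨0, (-1), 0, (-1), 1, (-1)⟩, 4, ⟨0, 3, 4, 0, (-2), 2, 0, 1⟩⟩,
  ⟨46, ⟨0, (-1), (-1), (-1), 0, 0⟩, 4, ⟨0, 3, 0, 0, 2, 2, 0, 0⟩⟩,
  ⟨47, ⟨0, (-1), (-1), 0, 1, 0⟩, 4, ⟨0, 3, 0, 0, 0, (-2), 0, 0⟩⟩,
  ⟨48, ⟨0, (-1), (-1), 1, 0, 0⟩, 4, ⟨0, 3, 0, 0, 0, (-2), 0, 0⟩⟩,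
  ⟨49, ⟨0, (-1), 0, (-1), 1, 0⟩, 4, ⟨0, 3, 0, 0, (-2), 2, 0, 0⟩⟩,
  ⟨50, ⟨0, (-1), (-1), 0, 0, (-3)⟩, 4, ⟨0, 2, 36, 0, 1, 0, 0, 6⟩⟩,
  ⟨51, ⟨0, (-1), (-1), 0, 0, (-2)⟩, 4, ⟨0, 2, 16, 0, 1, 0, 0, 4⟩⟩,
  ⟨52, ⟨0, (-1), (-1), 0, 0, (-1)⟩, 4, ⟨0, 2, 4, 0, 1, 0, 0, 2⟩⟩,
  ⟨53, ⟨0, (-1), 0, 0, 1, (-1)⟩, 4, ⟨0, 2, 4, 0, (-1), 0, 0, 0⟩⟩,
  ⟨54, ⟨0, (-1), 0, 0, 1, 1⟩, 4, ⟨0, 2, 4, 0, (-1), 0, 0, 0⟩⟩,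
  ⟨55, ⟨0, (-1), 0, 1, 0, (-1)⟩, 4, ⟨0, 2, 4, 0, 0, (-2), 0, 0⟩⟩,
  ⟨56, ⟨0, (-1), (-1), 0, 0, 0⟩, 4, ⟨0, 2, 0, 0, 1, 0, 0, 0⟩⟩,
  ⟨57, ⟨0, (-1), 0, 0, 1, 0⟩, 4, ⟨0, 2, 0, 0, (-1), 0, 0, 0⟩⟩,
  ⟨58, ⟨0, (-1), 0, 1, 0, 0⟩, 4, ⟨0, 2, 0, 0, 0, (-2), 0, 0⟩⟩,
  ⟨59, ⟨0, (-1), 1, (-1), 1, 0⟩, 2, ⟨0, 2, 0, 0, (-2), 2, 0, 0⟩⟩,
  ⟨60, ⟨0, (-1), 0, (-1), 0, (-3)⟩, 2, ⟨0, 1, 18, 0, 0, 1, 0, 3⟩⟩,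
  ⟨61, ⟨0, (-1), 0, 0, 0, (-2)⟩, 4, ⟨0, 1, 16, 0, 0, 0, 0, 2⟩⟩,
  ⟨62, ⟨0, (-1), (-1), (-1), (-1), (-3)⟩, 1, ⟨0, 1, 9, 0, 1, 1, 0, 3⟩⟩,
  ⟨63, ⟨0, (-1), 0, (-1), 0, (-2)⟩, 2, ⟨0, 1, 8, 0, 0, 1, 0, 2⟩⟩,
  ⟨64, ⟨0, (-1), (-1), (-1), (-1), (-2)⟩, 1, ⟨0, 1, 4, 0, 1, 1, 0, 2⟩⟩,
  ⟨65, ⟨0, (-1), 0, 0, 0, (-1)⟩, 4, ⟨0, 1, 4, 0, 0, 0, 0, 1⟩⟩,
  ⟨66, ⟨0, (-1), 0, 0, 0, 1⟩, 4, ⟨0, 1, 4, 0, 0, 0, 0, (-1)⟩⟩,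
  ⟨67, ⟨0, (-1), 0, (-1), 0, (-1)⟩, 2, ⟨0, 1, 2, 0, 0, 1, 0, 1⟩⟩,
  ⟨68, ⟨0, (-1), (-1), (-1), (-1), (-1)⟩, 1, ⟨0, 1, 1, 0, 1, 1, 0, 1⟩⟩,
  ⟨69, ⟨0, (-1), 0, (-1), 0, 0⟩, 2, ⟨0, 1, 0, 0, 0, 1, 0, 0⟩⟩,
  ⟨70, ⟨0, (-1), 0, 0, 0, 0⟩, 4, ⟨0, 1, 0, 0, 0, 0, 0, 0⟩⟩,
  ⟨71, ⟨0, 0, 0, 0, 0, 4⟩, 1, ⟨0, 0, 16, 0, 0, 0, 0, 0⟩⟩,
  ⟨72, ⟨0, 0, 0, 0, 0, 3⟩, 1, ⟨0, 0, 9, 0, 0, 0, 0, 0⟩⟩,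
  ⟨73, ⟨0, 0, 0, 0, 0, 2⟩, 1, ⟨0, 0, 4, 0, 0, 0, 0, 0⟩⟩,
  ⟨74, ⟨0, 0, 0, 0, 0, 1⟩, 1, ⟨0, 0, 1, 0, 0, 0, 0, 0⟩⟩]

/-- Functions which are nonnegative on every type. -/
def cuts : List G8 := [
  ⟨4, 1, 0, 8, 0, 0, 0, 0⟩,
  ⟨9, 1, 0, (-6), 0, 0, 0, 0⟩,
  ⟨0, 2, 0, 0, 2, 0, 0, 0⟩,
  ⟨0, 2, 0, 0, (-2), 0, 0, 0⟩,
  ⟨0, 2, 0, 0, 0, 2, 0, 0⟩,
  ⟨0, 2, 0, 0, 0, (-2), 0, 0⟩,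
  ⟨9, 0, 1, 0, 0, 0, 6, 0⟩,
  ⟨9, 0, 1, 0, 0, 0, (-6), 0⟩,
  ⟨0, 1, 1, 0, 0, 0, 0, 4⟩,
  ⟨0, 1, 1, 0, 0, 0, 0, (-2)⟩,
  ⟨0, 4, 1, 0, 0, 0, 0, (-4)⟩,
  ⟨0, 9, 1, 0, 0, 0, 0, (-6)⟩]

def cert0 : List Nat × Tree :=
  ([26, 33, 35, 52, 65, 70],
    (.S 0 .L (.S 1 (.S 0 (.S 2 .L (.S 1 .L (.S 1 .L (.S 3 (.S 1 .L (.S 1 .L (.S 2 (.S 1 .L .L) (.S 1 .L (.S 3 .L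
    .L))))) .L)))) .L) (.S 1 .L (.S 0 (.S 2 (.S 1 .L (.S 2 .L (.S 1 .L (.S 3 .L .L)))) .L) (.S 2 .L .L))))))

def cert1 : List Nat × Tree :=
  ([26, 33, 35, 58, 64, 67, 74, 74],
    (.S 0 .L (.S 1 (.S 0 (.S 2 .L (.S 1 .L (.S 4 (.S 1 .L (.S 4 (.S 1 .L (.S 1 .L (.S 2 (.S 1 .L .L) (.S 1 .L (.S 1
    .L (.S 2 .L (.S 5 .L .L))))))) (.S 1 .L (.S 1 .L (.S 2 (.S 1 .L .L) .L))))) .L))) .L) (.S 1 (.S 0 (.S 2 (.S 4 .L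
    (.S 2 .L (.S 2 .L (.S 2 .L (.S 4 (.S 5 .L .L) (.S 5 .L .L)))))) .L) (.S 2 .L .L)) (.S 0 (.S 2 (.S 4 (.S 1 .L (.S
    2 .L (.S 1 (.S 4 .L (.S 2 .L (.S 4 .L (.S 2 .L (.S 5 .L .L))))) (.S 4 .L (.S 1 (.S 2 .L (.S 4 .L (.S 2 .L (.S 5
    .L .L)))) (.S 2 .L (.S 1 (.S 4 .L .L) (.S 1 (.S 4 .L .L) .L)))))))) (.S 1 (.S 2 .L (.S 2 .L (.S 2 .L (.S 4 .L (.S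
    5 (.S 2 .L (.S 4 .L (.S 2 .L .L))) .L))))) .L)) .L) (.S 2 (.S 4 (.S 1 .L .L) .L) .L))))))

def cert2 : List Nat × Tree :=
  ([26, 34, 36, 52, 65, 70, 73],
    (.S 0 .L (.S 0 (.S 6 (.S 6 .L (.S 3 .L .L)) (.S 3 (.S 1 .L (.S 3 (.S 6 .L (.S 6 .L (.S 4 (.S 6 (.S 1 .L (.S 4 (.S
    1 .L (.S 1 .L .L)) .L)) (.S 1 .L (.S 6 (.S 4 (.S 1 .L (.S 1 .L .L)) .L) .L))) .L))) .L)) .L)) .L)))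

def cert3 : List Nat × Tree :=
  ([26, 34, 36, 52, 65, 70, 74, 74, 74, 74],
    (.S 0 .L (.S 0 (.S 3 (.S 1 .L (.S 3 (.S 4 (.S 1 (.S 4 .L .L) (.S 4 (.S 6 (.S 7 .L (.S 8 .L (.S 9 .L (.S 1 (.S 6
    .L (.S 7 (.S 8 (.S 9 (.S 5 .L (.S 6 .L (.S 2 (.S 6 .L (.S 2 .L (.S 6 .L (.S 6 .L (.S 5 (.S 6 .L .L) .L))))) .L)))
    (.S 5 .L (.S 6 .L (.S 9 (.S 2 .L .L) .L)))) (.S 9 (.S 5 .L (.S 6 .L (.S 8 (.S 2 .L .L) .L))) .L)) (.S 8 (.S 9 (.S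
    5 .L (.S 6 .L (.S 7 (.S 2 .L .L) .L))) .L) .L))) (.S 1 (.S 6 .L (.S 7 (.S 8 (.S 9 (.S 5 .L .L) (.S 5 .L .L)) (.S
    9 (.S 5 .L .L) .L)) (.S 8 (.S 9 (.S 5 .L .L) .L) .L))) .L))))) (.S 7 (.S 8 .L (.S 9 .L (.S 1 (.S 7 .L (.S 6 (.S 8
    (.S 9 (.S 5 .L (.S 7 .L (.S 2 (.S 7 .L (.S 2 .L (.S 7 .L (.S 7 .L (.S 5 (.S 7 .L .L) .L))))) .L))) (.S 5 .L (.S 7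
    .L (.S 9 (.S 2 .L .L) .L)))) (.S 9 (.S 5 .L (.S 7 .L (.S 8 (.S 2 .L .L) .L))) .L)) (.S 8 (.S 9 (.S 5 .L (.S 7 .L
    (.S 6 (.S 2 .L .L) .L))) .L) .L))) (.S 1 (.S 7 .L (.S 6 (.S 8 (.S 9 (.S 5 .L .L) (.S 5 .L .L)) (.S 9 (.S 5 .L .L)
    .L)) (.S 8 (.S 9 (.S 5 .L .L) .L) .L))) .L)))) (.S 8 (.S 9 .L (.S 1 (.S 8 .L (.S 6 (.S 7 (.S 9 (.S 5 .L (.S 8 .L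
    (.S 2 (.S 8 .L (.S 2 .L (.S 8 .L (.S 8 .L (.S 5 (.S 8 .L .L) .L))))) .L))) (.S 5 .L (.S 8 .L (.S 9 (.S 2 .L .L)
    .L)))) (.S 9 (.S 5 .L (.S 8 .L (.S 7 (.S 2 .L .L) .L))) .L)) (.S 7 (.S 9 (.S 5 .L (.S 8 .L (.S 6 (.S 2 .L .L)
    .L))) .L) .L))) (.S 1 (.S 8 .L (.S 6 (.S 7 (.S 9 (.S 5 .L .L) (.S 5 .L .L)) (.S 9 (.S 5 .L .L) .L)) (.S 7 (.S 9
    (.S 5 .L .L) .L) .L))) .L))) (.S 9 (.S 1 (.S 9 .L (.S 6 (.S 7 (.S 8 (.S 5 .L (.S 9 .L (.S 2 (.S 9 .L (.S 2 .L (.S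
    9 .L (.S 9 .L (.S 5 (.S 9 .L .L) .L))))) .L))) (.S 5 .L (.S 9 .L (.S 8 (.S 2 .L .L) .L)))) (.S 8 (.S 5 .L (.S 9
    .L (.S 7 (.S 2 .L .L) .L))) .L)) (.S 7 (.S 8 (.S 5 .L (.S 9 .L (.S 6 (.S 2 .L .L) .L))) .L) .L))) (.S 1 (.S 9 .L
    (.S 6 (.S 7 (.S 8 (.S 5 .L .L) (.S 5 .L .L)) (.S 8 (.S 5 .L .L) .L)) (.S 7 (.S 8 (.S 5 .L .L) .L) .L))) .L)) (.S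
    1 .L (.S 1 .L .L)))))) .L)) .L) .L)) .L) .L)))

def cert4 : List Nat × Tree :=
  ([26, 34, 36, 55, 64, 67, 74, 74],
    (.S 0 .L (.S 0 (.S 4 (.S 4 (.S 3 (.S 1 .L (.S 5 .L .L)) .L) .L) .L) .L)))

def cert5 : List Nat × Tree :=
  ([26, 34, 36, 58, 62, 69, 74, 74, 74],
    (.S 0 .L (.S 4 (.S 0 (.S 4 .L (.S 4 .L (.S 4 (.S 1 .L (.S 1 .L (.S 5 .L .L))) (.S 1 .L (.S 4 (.S 1 (.S 5 .L (.S 6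
    .L (.S 7 .L (.S 8 .L .L)))) (.S 5 .L .L)) (.S 4 (.S 1 (.S 5 .L .L) .L) .L)))))) .L) .L)))

def cert6 : List Nat × Tree :=
  ([26, 34, 36, 58, 63, 68, 74, 74, 74],
    (.S 0 .L (.S 0 (.S 4 (.S 4 (.S 1 .L .L) (.S 1 .L (.S 4 (.S 1 .L (.S 6 (.S 7 (.S 8 .L (.S 1 (.S 6 .L (.S 7 .L (.S
    8 (.S 6 (.S 7 .L (.S 2 .L .L)) (.S 7 (.S 2 .L .L) (.S 2 .L .L))) (.S 6 .L (.S 7 .L (.S 8 (.S 2 .L .L) (.S 2 .L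
    .L))))))) .L)) (.S 8 (.S 1 (.S 6 .L (.S 8 .L (.S 7 (.S 6 (.S 8 .L (.S 2 .L .L)) (.S 8 (.S 2 .L .L) (.S 2 .L .L)))
    (.S 6 .L (.S 8 .L (.S 7 (.S 2 .L .L) (.S 2 .L .L))))))) .L) (.S 1 (.S 6 (.S 7 (.S 8 .L (.S 8 (.S 2 .L .L) (.S 2
    .L .L))) (.S 8 (.S 7 (.S 2 .L .L) (.S 2 .L .L)) (.S 7 (.S 8 (.S 2 .L .L) .L) .L))) (.S 7 (.S 8 .L (.S 6 (.S 8 .L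
    (.S 2 .L .L)) (.S 8 .L (.S 2 .L .L)))) (.S 8 (.S 6 (.S 7 .L (.S 2 .L .L)) (.S 7 .L (.S 2 .L .L))) (.S 6 (.S 7 (.S
    8 .L (.S 2 .L .L)) (.S 8 (.S 2 .L .L) (.S 2 .L .L))) (.S 7 (.S 8 .L (.S 2 .L .L)) (.S 8 (.S 2 .L .L) (.S 2 .L
    .L))))))) .L))) (.S 7 (.S 8 (.S 1 (.S 7 .L (.S 8 .L (.S 6 (.S 7 (.S 8 .L (.S 2 .L .L)) (.S 8 (.S 2 .L .L) (.S 2
    .L .L))) (.S 7 .L (.S 8 .L (.S 6 (.S 2 .L .L) (.S 2 .L .L))))))) .L) (.S 1 (.S 7 (.S 6 (.S 8 .L (.S 8 (.S 2 .L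
    .L) (.S 2 .L .L))) (.S 8 (.S 6 (.S 2 .L .L) (.S 2 .L .L)) (.S 6 (.S 8 (.S 2 .L .L) .L) .L))) (.S 6 (.S 8 .L (.S 7
    (.S 8 .L (.S 2 .L .L)) (.S 8 .L (.S 2 .L .L)))) (.S 8 (.S 7 (.S 6 .L (.S 2 .L .L)) (.S 6 .L (.S 2 .L .L))) (.S 7
    (.S 6 (.S 8 .L (.S 2 .L .L)) (.S 8 (.S 2 .L .L) (.S 2 .L .L))) (.S 6 (.S 8 .L (.S 2 .L .L)) (.S 8 (.S 2 .L .L)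
    (.S 2 .L .L))))))) .L)) (.S 8 (.S 1 (.S 8 (.S 6 (.S 7 .L (.S 7 (.S 2 .L .L) (.S 2 .L .L))) (.S 7 (.S 6 (.S 2 .L
    .L) (.S 2 .L .L)) (.S 6 (.S 7 (.S 2 .L .L) .L) .L))) (.S 6 (.S 7 .L (.S 8 (.S 7 .L (.S 2 .L .L)) (.S 7 .L (.S 2
    .L .L)))) (.S 7 (.S 8 (.S 6 .L (.S 2 .L .L)) (.S 6 .L (.S 2 .L .L))) (.S 8 (.S 6 (.S 7 .L (.S 2 .L .L)) (.S 7 (.S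
    2 .L .L) (.S 2 .L .L))) (.S 6 (.S 7 .L (.S 2 .L .L)) (.S 7 (.S 2 .L .L) (.S 2 .L .L))))))) .L) (.S 1 (.S 6 .L (.S
    7 .L (.S 8 .L (.S 6 .L (.S 7 .L (.S 8 .L (.S 2 .L .L))))))) .L))))) .L))) .L) .L)))

def cert7 : List Nat × Tree :=
  ([26, 34, 36, 58, 64, 67, 73, 74, 74],
    (.S 0 .L (.S 0 (.S 6 (.S 4 (.S 6 .L (.S 4 .L .L)) .L) (.S 4 (.S 4 (.S 1 .L (.S 6 (.S 5 .L .L) (.S 5 .L .L))) .L)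
    .L)) .L)))

def cert8 : List Nat × Tree :=
  ([26, 34, 36, 58, 64, 67, 74, 74, 74, 74, 74, 74],
    (.S 0 .L (.S 0 (.S 4 (.S 4 (.S 1 .L (.S 5 .L .L)) .L) .L) .L)))

def cert9 : List Nat × Tree :=
  ([27, 33, 34, 52, 65, 65, 74, 74],
    .L)

def cert10 : List Nat × Tree :=
  ([27, 33, 34, 58, 62, 67, 74, 74, 74],
    .L)

def cert11 : List Nat × Tree :=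
  ([27, 33, 34, 58, 63, 64, 74, 74],
    .L)

def cert12 : List Nat × Tree :=
  ([30, 34, 34, 35, 58, 67, 69],
    .L)

def cert13 : List Nat × Tree :=
  ([30, 34, 36, 36, 58, 67, 69, 74, 74],
    .L)

def cert14 : List Nat × Tree :=
  ([30, 34, 36, 36, 65, 70, 70, 70],
    .L)

def cert15 : List Nat × Tree :=
  ([31, 33, 34, 35, 37, 74, 74],
    (.S 1 .L (.S 0 .L (.S 1 (.S 3 (.S 0 (.S 3 .L (.S 2 (.S 4 .L .L) (.S 4 .L .L))) .L) (.S 0 (.S 2 (.S 4 (.S 3 (.S 4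
    .L .L) (.S 4 .L .L)) .L) .L) (.S 0 (.S 2 (.S 4 .L .L) .L) .L))) (.S 3 .L (.S 0 (.S 1 (.S 2 .L .L) .L) (.S 1 (.S 0
    (.S 2 .L .L) (.S 0 (.S 2 .L .L) (.S 2 .L .L))) .L)))))))

def cert16 : List Nat × Tree :=
  ([31, 33, 34, 35, 38, 74, 74],
    (.S 1 .L (.S 0 (.S 0 .L (.S 1 .L .L)) (.S 1 (.S 3 (.S 0 (.S 3 .L (.S 2 .L (.S 3 .L (.S 4 .L .L)))) .L) (.S 0 (.S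
    2 (.S 4 .L .L) .L) (.S 0 (.S 2 (.S 4 .L .L) .L) .L))) .L))))

def cert17 : List Nat × Tree :=
  ([31, 33, 34, 35, 52, 57, 74, 74],
    (.S 1 .L (.S 0 (.S 0 .L (.S 1 .L .L)) (.S 1 (.S 3 (.S 0 (.S 3 .L (.S 4 .L .L)) .L) (.S 0 (.S 4 (.S 2 (.S 3 (.S 4
    .L .L) (.S 4 .L .L)) .L) .L) (.S 0 (.S 4 .L .L) .L))) (.S 3 .L (.S 0 (.S 1 (.S 4 (.S 2 .L .L) .L) .L) (.S 1 (.S 0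
    (.S 4 (.S 2 .L .L) .L) (.S 4 .L .L)) .L)))))))

def cert18 : List Nat × Tree :=
  ([31, 33, 34, 35, 58, 67, 67, 74, 74],
    (.S 1 .L (.S 0 (.S 0 .L (.S 1 .L .L)) (.S 1 (.S 3 (.S 0 (.S 3 .L (.S 2 (.S 3 .L .L) (.S 3 .L (.S 3 .L (.S 5 (.S 6
    .L (.S 3 .L (.S 3 .L (.S 2 .L .L)))) (.S 6 (.S 3 .L (.S 3 .L (.S 2 .L .L))) .L)))))) .L) (.S 0 (.S 2 (.S 3 (.S 2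
    .L (.S 5 (.S 6 (.S 5 (.S 6 .L .L) .L) (.S 5 .L (.S 2 .L (.S 7 (.S 8 (.S 2 .L (.S 6 .L .L)) (.S 2 .L (.S 6 .L (.S
    5 .L .L)))) (.S 8 (.S 2 .L (.S 6 .L (.S 5 .L .L))) (.S 2 .L (.S 6 .L (.S 5 .L .L)))))))) (.S 6 (.S 6 .L (.S 2 .L
    (.S 7 (.S 8 (.S 2 .L (.S 5 .L .L)) (.S 2 .L (.S 5 .L (.S 6 .L .L)))) (.S 8 (.S 2 .L (.S 5 .L (.S 6 .L .L))) (.S 2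
    .L (.S 5 .L (.S 6 .L .L))))))) .L))) (.S 2 .L (.S 3 (.S 5 (.S 6 (.S 5 .L .L) (.S 5 .L .L)) (.S 6 (.S 6 .L .L)
    .L)) (.S 5 (.S 6 (.S 3 (.S 5 .L .L) (.S 3 (.S 5 .L .L) (.S 3 (.S 5 .L .L) (.S 5 .L .L)))) .L) .L)))) .L) (.S 0
    (.S 2 (.S 3 (.S 2 .L (.S 5 (.S 6 .L (.S 5 .L (.S 2 .L (.S 7 .L (.S 8 .L (.S 2 .L (.S 6 .L .L))))))) (.S 6 (.S 6
    .L (.S 2 .L (.S 7 .L (.S 8 .L (.S 2 .L (.S 5 .L .L)))))) .L))) (.S 2 .L (.S 3 (.S 5 .L (.S 6 .L .L)) (.S 5 .L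
    .L)))) .L) .L))) (.S 3 .L (.S 0 (.S 1 (.S 2 .L .L) .L) (.S 1 (.S 0 (.S 2 .L .L) (.S 0 (.S 2 .L .L) (.S 2 .L .L)))
    .L)))))))

def cert19 : List Nat × Tree :=
  ([31, 33, 36, 36, 37, 73],
    (.S 1 .L (.S 0 .L (.S 1 (.S 5 .L (.S 0 (.S 4 .L .L) (.S 0 (.S 4 (.S 4 .L .L) .L) (.S 0 (.S 4 .L .L) .L)))) .L))))

def cert20 : List Nat × Tree :=
  ([31, 33, 36, 36, 37, 74, 74, 74, 74],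
    (.S 1 .L (.S 0 .L (.S 1 (.S 0 (.S 4 (.S 4 .L .L) .L) (.S 0 (.S 4 .L .L) .L)) .L))))

def cert21 : List Nat × Tree :=
  ([31, 33, 36, 36, 38, 73],
    .L)

def cert22 : List Nat × Tree :=
  ([31, 33, 36, 36, 38, 74, 74, 74, 74],
    .L)

def cert23 : List Nat × Tree :=
  ([31, 33, 36, 36, 52, 53],
    (.S 1 .L (.S 0 .L (.S 1 (.S 0 (.S 5 (.S 4 .L .L) .L) (.S 0 (.S 5 (.S 4 .L .L) .L) .L)) .L))))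

def cert24 : List Nat × Tree :=
  ([31, 33, 36, 36, 52, 54],
    (.S 1 .L (.S 0 .L (.S 1 (.S 0 (.S 5 .L (.S 4 .L .L)) (.S 0 (.S 5 .L (.S 4 .L .L)) .L)) .L))))

def cert25 : List Nat × Tree :=
  ([31, 33, 36, 36, 52, 57, 73],
    (.S 1 .L (.S 0 .L (.S 1 (.S 6 .L (.S 0 (.S 4 .L .L) (.S 0 (.S 4 (.S 4 .L .L) .L) (.S 4 .L .L)))) .L))))

def cert26 : List Nat × Tree :=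
  ([31, 33, 36, 36, 52, 57, 74, 74, 74, 74],
    (.S 1 .L (.S 0 .L (.S 1 (.S 0 (.S 4 (.S 4 .L .L) .L) (.S 0 (.S 4 .L .L) .L)) .L))))

def cert27 : List Nat × Tree :=
  ([31, 33, 36, 36, 55, 67, 67],
    (.S 1 .L (.S 0 .L (.S 1 (.S 0 (.S 4 (.S 5 (.S 6 .L .L) .L) .L) (.S 0 (.S 4 (.S 5 (.S 6 .L .L) .L) .L) .L)) .L))))

def cert28 : List Nat × Tree :=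
  ([31, 33, 36, 36, 58, 63, 69],
    (.S 1 .L (.S 0 .L (.S 1 .L (.S 5 (.S 0 (.S 1 .L (.S 1 (.S 5 .L .L) .L)) .L) .L)))))

def cert29 : List Nat × Tree :=
  ([31, 33, 36, 36, 58, 67, 67, 73],
    (.S 1 .L (.S 0 .L (.S 1 (.S 7 .L (.S 0 (.S 7 (.S 5 (.S 6 .L .L) .L) (.S 5 (.S 6 .L .L) .L)) (.S 0 (.S 7 (.S 5 (.S
    6 (.S 5 .L .L) .L) .L) (.S 5 (.S 6 .L .L) .L)) (.S 0 (.S 7 (.S 5 (.S 6 .L .L) .L) .L) (.S 0 (.S 7 (.S 5 .L .L)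
    .L) .L))))) .L))))

def cert30 : List Nat × Tree :=
  ([31, 33, 36, 36, 58, 67, 67, 74, 74, 74, 74],
    (.S 1 .L (.S 0 .L (.S 1 (.S 0 (.S 5 (.S 6 (.S 5 (.S 6 .L .L) .L) .L) .L) (.S 0 (.S 5 (.S 6 .L .L) .L) .L)) .L))))

def cert31 : List Nat × Tree :=
  ([31, 33, 36, 36, 65, 65, 70, 70],
    (.S 1 .L (.S 0 .L (.S 1 .L .L))))

def cert32 : List Nat × Tree :=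
  ([31, 34, 34, 36, 37, 73, 74, 74],
    .L)

def cert33 : List Nat × Tree :=
  ([31, 34, 34, 36, 37, 74, 74, 74, 74, 74, 74],
    .L)

def cert34 : List Nat × Tree :=
  ([31, 34, 34, 36, 38, 73, 74, 74],
    .L)

def cert35 : List Nat × Tree :=
  ([31, 34, 34, 36, 38, 74, 74, 74, 74, 74, 74],
    .L)

def cert36 : List Nat × Tree :=
  ([31, 34, 34, 36, 52, 53, 74, 74],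
    .L)

def cert37 : List Nat × Tree :=
  ([31, 34, 34, 36, 52, 54, 74, 74],
    .L)

def cert38 : List Nat × Tree :=
  ([31, 34, 34, 36, 52, 57, 73, 74, 74],
    .L)

def cert39 : List Nat × Tree :=
  ([31, 34, 34, 36, 52, 57, 74, 74, 74, 74, 74, 74],
    .L)

def cert40 : List Nat × Tree :=
  ([31, 34, 34, 36, 55, 67, 67, 74, 74],
    .L)

def cert41 : List Nat × Tree :=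
  ([31, 34, 34, 36, 58, 63, 69, 74, 74],
    .L)

def cert42 : List Nat × Tree :=
  ([31, 34, 34, 36, 58, 67, 67, 73, 74, 74],
    .L)

def cert43 : List Nat × Tree :=
  ([31, 34, 34, 36, 58, 67, 67, 74, 74, 74, 74, 74, 74],
    .L)

def cert44 : List Nat × Tree :=
  ([31, 34, 34, 36, 65, 65, 70, 70, 74, 74],
    .L)

def cert45 : List Nat × Tree :=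
  ([32, 33, 34, 36, 58, 63, 67, 74, 74],
    (.S 1 .L .L))

def cert46 : List Nat × Tree :=
  ([32, 33, 34, 36, 65, 65, 65, 70],
    .L)

def cert47 : List Nat × Tree :=
  ([32, 34, 34, 34, 55, 63, 67],
    .L)

def cert48 : List Nat × Tree :=
  ([32, 34, 34, 34, 58, 63, 67, 73],
    .L)

def cert49 : List Nat × Tree :=
  ([32, 34, 34, 34, 58, 63, 67, 74, 74, 74, 74],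
    .L)

def cert50 : List Nat × Tree :=
  ([32, 34, 34, 34, 65, 65, 65, 70, 74, 74],
    .L)

def certs : List (List Nat × Tree) := [
  cert0, cert1, cert2, cert3, cert4, cert5, cert6, cert7, cert8, cert9, cert10, cert11, cert12, cert13,
  cert14, cert15, cert16, cert17, cert18, cert19, cert20, cert21, cert22, cert23, cert24, cert25, cert26,
  cert27, cert28, cert29, cert30, cert31, cert32, cert33, cert34, cert35, cert36, cert37, cert38, cert39,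
  cert40, cert41, cert42, cert43, cert44, cert45, cert46, cert47, cert48, cert49, cert50]

end Cfsg.Agent.UFourRows
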