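import Mathlib

/-!
Rows of the principal block for a Sylow 2-subgroup of type U3(4): the finite search.
-/

set_option autoImplicit false

namespace Cfsg.Agent.UFourRows

/-- A row: five coordinates and a sixth one. -/
structure Vec where
  a : Int
  b : Int
  c : Int
  d : Int
  e : Int
  p : Int
deriving DecidableEq

namespace Vec

/-- The Galois rotation. -/
def rot (x : Vec) : Vec := ⟨x.a, x.c, x.d, x.e, x.b, x.p⟩

def neg (x : Vec) : Vec := ⟨-x.a, -x.b, -x.c, -x.d, -x.e, -x.p⟩

def tot (x : Vec) : Int := x.b + x.c + x.d + x.e

def U (x : Vec) : Int := x.a + x.tot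

/-- The value at the involution. -/
def s (x : Vec) : Int := 5 * x.p - x.U

/-- The value at the element of order four. -/
def k (x : Vec) : Int := x.p - x.U

/-- The degree is `64 m + off`. -/
def off (x : Vec) : Int := -11 * x.p - x.U

end Vec

/-- Eight numbers. -/
structure G8 where
  q0 : Int
  q1 : Int
  q2 : Int
  q3 : Int
  q4 : Int
  q5 : Int
  q6 : Int
  q7 : Int
deriving DecidableEq

namespace G8

def add (u v : G8) : G8 :=
  ⟨u.q0 + v.q0, u.q1 + v.q1, u.q2 + v.q2, u.q3 + v.q3, u.q4 + v.q4, u.q5 + v.q5, u.q6 + v.q6, u.q7 + v.q7⟩

def sub (u v : G8) : G8 :=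
  ⟨u.q0 - v.q0, u.q1 - v.q1, u.q2 - v.q2, u.q3 - v.q3, u.q4 - v.q4, u.q5 - v.q5, u.q6 - v.q6, u.q7 - v.q7⟩

def zero : G8 := ⟨0, 0, 0, 0, 0, 0, 0, 0⟩

def dot (f v : G8) : Int :=
  f.q0 * v.q0 + f.q1 * v.q1 + f.q2 * v.q2 + f.q3 * v.q3 + f.q4 * v.q4 + f.q5 * v.q5 + f.q6 * v.q6 + f.q7 * v.q7

end G8

namespace Vec

/-- The invariant quadratic functions, summed over a period of the rotation (four times the averages). -/
def gram4 (x : Vec) : G8 :=
  ⟨4 * (x.a * x.a), x.b * x.b + x.c * x.c + x.d * x.d + x.e * x.e, 4 * (x.p * x.p), x.a * x.tot,
    x.b * x.c + x.c * x.d + x.d * x.e + x.e * x.b, 2 * (x.b * x.d + x.c * x.e), 4 * (x.a * x.p), x.p * x.tot⟩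

end Vec

/-- A type of unit: a representative, the length of its orbit, and the quadratic invariants of the orbit. -/
structure Ty where
  id : Nat
  x : Vec
  L : Int
  v : G8

/-- A unit: a type, a sign and a multiplicity. -/
structure Item where
  t : Ty
  sgn : Bool
  m : Int

def Ty.vec (t : Ty) (sgn : Bool) : Vec := if sgn then t.x else t.x.neg

/-- The least multiplicity allowed. -/
def lo (x : Vec) : Int :=
  max (max (max 1 (1 - x.k)) (max (max (1 + x.a) (1 + x.b)) (max (1 + x.c) (max (1 + x.d) (1 + x.e)))))
    ((x.p + 7) / 4)

/-- Six coefficients: three for the rational equations, three for the linear ones. -/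
structure Six (α : Type) where
  h0 : α
  h1 : α
  h2 : α
  h3 : α
  h4 : α
  h5 : α

def coef (L : Int) (x : Vec) : Six Int :=
  let w := L * (x.s * x.s)
  ⟨w * (4 * x.a - x.tot), w * x.k, w * x.a, L * x.a, L * x.tot, L * x.p⟩

def scale : Int := 1000000

/-- Bounds for `v * scale / D`, for `D` at least `64 a + off`, with equality if `exact`. -/
def ratLo (v D : Int) (exact : Bool) : Int := if exact || v < 0 then (v * scale) / D else 0

def ratHi (v D : Int) (exact : Bool) : Int := if exact || 0 < v then -((-(v * scale)) / D) else 0

def linLo (v a : Int) (exact : Bool) : Option Int := if exact || 0 ≤ v then some (v * a) else none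

def linHi (v a : Int) (exact : Bool) : Option Int := if exact || v ≤ 0 then some (v * a) else none

/-- What is known about one unit: a sign, a lower bound, and whether it is an equality. -/
structure Known where
  sgn : Bool
  a : Int
  exact : Bool

def knownLo (t : Ty) (kn : Known) : Six (Option Int) :=
  let x := t.vec kn.sgn
  let c := coef t.L x
  let D := 64 * kn.a + x.off
  ⟨some (ratLo c.h0 D kn.exact), some (ratLo c.h1 D kn.exact), some (ratLo c.h2 D kn.exact),
    linLo c.h3 kn.a kn.exact, linLo c.h4 kn.a kn.exact, linLo c.h5 kn.a kn.exact⟩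

def knownHi (t : Ty) (kn : Known) : Six (Option Int) :=
  let x := t.vec kn.sgn
  let c := coef t.L x
  let D := 64 * kn.a + x.off
  ⟨some (ratHi c.h0 D kn.exact), some (ratHi c.h1 D kn.exact), some (ratHi c.h2 D kn.exact),
    linHi c.h3 kn.a kn.exact, linHi c.h4 kn.a kn.exact, linHi c.h5 kn.a kn.exact⟩

def initKnown (t : Ty) (sgn : Bool) : Known := ⟨sgn, lo (t.vec sgn), false⟩

def optMin : Option Int → Option Int → Option Int
  | some u, some v => some (min u v)
  | _, _ => none

def optMax : Option Int → Option Int → Option Int
  | some u, some v => some (max u v)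
  | _, _ => none

def optAdd : Option Int → Option Int → Option Int
  | some u, some v => some (u + v)
  | _, _ => none

def Six.map₂ {α β γ : Type} (f : α → β → γ) (u : Six α) (v : Six β) : Six γ :=
  ⟨f u.h0 v.h0, f u.h1 v.h1, f u.h2 v.h2, f u.h3 v.h3, f u.h4 v.h4, f u.h5 v.h5⟩

/-- A slot: a type with, possibly, what is known. -/
def slotLo : Ty × Option Known → Six (Option Int)
  | (t, some kn) => knownLo t kn
  | (t, none) => Six.map₂ optMin (knownLo t (initKnown t true)) (knownLo t (initKnown t false))

def slotHi : Ty × Option Known → Six (Option Int)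
  | (t, some kn) => knownHi t kn
  | (t, none) => Six.map₂ optMax (knownHi t (initKnown t true)) (knownHi t (initKnown t false))

def sixZero : Six (Option Int) := ⟨some 0, some 0, some 0, some 0, some 0, some 0⟩

def totLo : List (Ty × Option Known) → Six (Option Int)
  | [] => sixZero
  | s :: l => Six.map₂ optAdd (slotLo s) (totLo l)

def totHi : List (Ty × Option Known) → Six (Option Int)
  | [] => sixZero
  | s :: l => Six.map₂ optAdd (slotHi s) (totHi l)

def above : Option Int → Int → Bool
  | some u, T => T < u
  | none, _ => false

def below : Option Int → Int → Bool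
  | some u, T => u < T
  | none, _ => false

/-- One of the six conditions cannot hold. -/
def refuted (l : List (Ty × Option Known)) : Bool :=
  let u := totLo l
  let v := totHi l
  above u.h0 (4 * scale) || below v.h0 (4 * scale) || above u.h1 (-scale) || below v.h1 (-scale) ||
    below v.h2 scale || above u.h3 1 || below v.h3 1 || above u.h4 4 || below v.h4 4 || above u.h5 4 ||
    below v.h5 4

/-- A certificate. -/
inductive Tree where
  | L : Tree
  | S : Nat → Tree → Tree → Tree

def setKnown : List (Ty × Option Known) → Nat → Known → List (Ty × Option Known)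
  | [], _, _ => []
  | (t, _) :: l, 0, kn => (t, some kn) :: l
  | s :: l, n + 1, kn => s :: setKnown l n kn

def check : Tree → List (Ty × Option Known) → Bool
  | Tree.L, l => refuted l
  | Tree.S i A B, l =>
    match l[i]? with
    | none => false
    | some (t, none) => check A (setKnown l i (initKnown t true)) && check B (setKnown l i (initKnown t false))
    | some (_, some kn) =>
      !kn.exact && check A (setKnown l i ⟨kn.sgn, kn.a, true⟩) && check B (setKnown l i ⟨kn.sgn, kn.a + 1, false⟩)

def findTree : List (List Nat × Tree) → List Nat → Option Tree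
  | [], _ => none
  | (key, T) :: rest, ids => if key == ids then some T else findTree rest ids

def leafOK (certs : List (List Nat × Tree)) (pre : List Ty) : Bool :=
  match findTree certs (pre.map Ty.id) with
  | none => false
  | some T => check T (pre.map fun t => (t, none))

def fitsAll (F : List G8) (r : G8) : Bool := F.all fun f => decide (0 ≤ f.dot r)

/-- The search over all multisets of types with prescribed invariants. -/
def search (F : List G8) (certs : List (List Nat × Tree)) : Nat → List Ty → G8 → List Ty → Bool
  | 0, _, _, _ => false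
  | n + 1, l, r, pre =>
    if r = G8.zero then leafOK certs pre.reverse
    else
      match l with
      | [] => true
      | t :: l' =>
        if 0 < r.q0 && decide (t.v.q0 = 0) then true
        else if 0 < r.q1 && decide (t.v.q0 = 0) && decide (t.v.q1 = 0) then true
        else
          (if t.v.q0 ≤ r.q0 && t.v.q1 ≤ r.q1 && t.v.q2 ≤ r.q2 then
            (if fitsAll F (r.sub t.v) then search F certs n (t :: l') (r.sub t.v) (t :: pre) else true)
          else true) && search F certs n l' r pre

end Cfsg.Agent.UFourRows
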