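import Cfsg.Agent.Lib.UFourRows.Pin

/-!
A group `S ⋊ 5` with `S` of type U3(4): its conjugacy classes meeting `Z × 5` and two multiplicities.
-/

set_option autoImplicit false
set_option linter.all false

namespace Cfsg.Agent.UFourRows

open Subgroup Cfsg.Agent.Characters
open scoped ComplexConjugate

universe u

variable {L : Type u} [Group L] [Finite L]

/-- `L = S ⋊ ⟨y⟩` with `y` of order five, fixing exactly `Z` in `S` modulo `Z`. -/
structure Ext (S Z : Subgroup L) (y : L) : Prop where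
  Z_le : Z ≤ S
  card_Z : Nat.card Z = 4
  central : ∀ w ∈ Z, ∀ g : L, g * w = w * g
  pin : Pin (Z.subgroupOf S)
  y_pow : y ^ 5 = 1
  y_norm : ∀ t ∈ S, y * t * y⁻¹ ∈ S
  y_free : ∀ t ∈ S, y * t * y⁻¹ * t⁻¹ ∈ Z → t ∈ Z
  gen : ∀ g : L, ∃ t ∈ S, ∃ i : ℕ, g = t * y ^ i

namespace Ext

variable {S Z : Subgroup L} {y : L} (h : Ext S Z y)
include h

theorem pow_norm : ∀ (i : ℕ), ∀ t ∈ S, y ^ i * t * (y ^ i)⁻¹ ∈ S := by
  intro i
  induction i with
  | zero => intro t ht; simpa using ht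
  | succ i ih =>
    intro t ht
    rw [show y ^ (i + 1) * t * (y ^ (i + 1))⁻¹ = y * (y ^ i * t * (y ^ i)⁻¹) * y⁻¹ by
      rw [pow_succ']; group]
    exact h.y_norm _ (ih t ht)

theorem ymod (n : ℕ) : y ^ (n % 5) = y ^ n := (pow_eq_pow_mod n h.y_pow).symm

theorem y_notMem : y ∉ S := by
  intro hy
  have h1 : orderOf y ∣ 5 := orderOf_dvd_of_pow_eq_one h.y_pow
  have h2 : orderOf y ∣ 64 := by
    have := Subgroup.orderOf_dvd_natCard S hy
    rwa [h.pin.card_P] at this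
  have h3 : y = 1 := orderOf_eq_one_iff.1 (Nat.eq_one_of_dvd_coprimes (by norm_num) h1 h2)
  have hle : S ≤ Z := fun t ht => h.y_free t ht (by rw [h3]; simp)
  have h4 := Subgroup.card_le_of_le hle
  rw [h.pin.card_P, h.card_Z] at h4
  omega

theorem of_pow_mem {i : ℕ} (hi : y ^ i ∈ S) : i % 5 = 0 := by
  by_contra hne
  have hcop : Nat.Coprime i 5 := ((Nat.prime_five.coprime_iff_not_dvd).2 (fun hd => hne
    (Nat.mod_eq_zero_of_dvd hd))).symm
  obtain ⟨k, hk⟩ := Nat.exists_mul_mod_eq_one_of_coprime hcop (by norm_num)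
  refine h.y_notMem ?_
  have h2 := Subgroup.pow_mem S hi k
  rwa [← pow_mul, ← h.ymod, hk.2, pow_one] at h2

theorem free_pow {i : ℕ} (hi : i % 5 ≠ 0) {t : L} (ht : t ∈ S)
    (hc : y ^ i * t * (y ^ i)⁻¹ * t⁻¹ ∈ Z) : t ∈ Z := by
  have hall : ∀ k : ℕ, y ^ (i * k) * t * (y ^ (i * k))⁻¹ * t⁻¹ ∈ Z := by
    intro k
    induction k with
    | zero => simp
    | succ k ih =>
      set z₁ := y ^ (i * k) * t * (y ^ (i * k))⁻¹ * t⁻¹ with hz₁
      have e : y ^ (i * k) * t * (y ^ (i * k))⁻¹ = z₁ * t := by rw [hz₁]; group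
      rw [show i * (k + 1) = i + i * k by ring, pow_add,
        show y ^ i * y ^ (i * k) * t * (y ^ i * y ^ (i * k))⁻¹ * t⁻¹ =
          y ^ i * (y ^ (i * k) * t * (y ^ (i * k))⁻¹) * (y ^ i)⁻¹ * t⁻¹ by group, e,
        ← mul_assoc, h.central z₁ ih (y ^ i), mul_assoc z₁, mul_assoc z₁, mul_assoc z₁]
      exact mul_mem ih hc
  have hcop : Nat.Coprime i 5 := ((Nat.prime_five.coprime_iff_not_dvd).2 (fun hd => hi
    (Nat.mod_eq_zero_of_dvd hd))).symm
  obtain ⟨k, hk⟩ := Nat.exists_mul_mod_eq_one_of_coprime hcop (by norm_num)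
  refine h.y_free t ht ?_
  have h1 := hall k
  rwa [← h.ymod (i * k), hk.2, pow_one] at h1

theorem bijective : Function.Bijective (fun p : S × Fin 5 => (p.1 : L) * y ^ (p.2 : ℕ)) := by
  constructor
  · rintro ⟨t, i⟩ ⟨t', i'⟩ e
    simp only at e
    have hle : ∀ {a b : Fin 5} {s s' : S}, (b : ℕ) ≤ (a : ℕ) →
        (s : L) * y ^ (a : ℕ) = (s' : L) * y ^ (b : ℕ) → a = b := by
      intro a b s s' hab e'
      have hm : y ^ ((a : ℕ) - b) ∈ S := by
        rw [show y ^ ((a : ℕ) - b) = (s : L)⁻¹ * s' by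
          rw [eq_inv_mul_iff_mul_eq]
          refine mul_right_cancel (b := y ^ (b : ℕ)) ?_
          rw [mul_assoc, ← pow_add, Nat.sub_add_cancel hab, e']]
        exact mul_mem (inv_mem s.2) s'.2
      have h1 := h.of_pow_mem hm
      apply Fin.ext
      omega
    have hi : i = i' := by
      rcases le_total (i' : ℕ) (i : ℕ) with hab | hab
      · exact hle hab e
      · exact (hle hab e.symm).symm
    subst hi
    rw [mul_left_inj] at e
    rw [Subtype.ext e]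
  · intro g
    obtain ⟨t, ht, i, rfl⟩ := h.gen g
    exact ⟨⟨⟨t, ht⟩, ⟨i % 5, Nat.mod_lt _ (by norm_num)⟩⟩, by simp [h.ymod]⟩

theorem card_L : Nat.card L = 320 := by
  rw [← Nat.card_eq_of_bijective _ h.bijective, Nat.card_prod, h.pin.card_P, Nat.card_eq_fintype_card,
    Fintype.card_fin]

theorem sum_eq [Fintype L] [Fintype S] (F : L → ℂ) : ∑ g, F g = ∑ i : Fin 5, ∑ t : S, F ((t : L) * y ^ (i : ℕ)) := by
  rw [← (Equiv.ofBijective _ h.bijective).sum_comp F, Fintype.sum_prod_type, Finset.sum_comm]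
  rfl

/-- The exponent of `y` in an element. -/
theorem exists_lin {ζ : ℂ} (hζ : ζ ^ 5 = 1) (j : ℕ) :
    ∃ ν : L →* ℂ, ∀ t ∈ S, ∀ i : ℕ, ν (t * y ^ i) = ζ ^ (i * j) := by
  set e := Equiv.ofBijective _ h.bijective with he
  have hexp : ∀ t ∈ S, ∀ i : ℕ, ζ ^ (((e.symm (t * y ^ i)).2 : ℕ) * j) = ζ ^ (i * j) := by
    intro t ht i
    have h1 : e.symm (t * y ^ i) = (⟨t, ht⟩, ⟨i % 5, Nat.mod_lt _ (by norm_num)⟩) := by
      rw [Equiv.symm_apply_eq, he, Equiv.ofBijective_apply]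
      simp [h.ymod]
    rw [h1, pow_mul, pow_mul, ← pow_eq_pow_mod i hζ]
  refine ⟨{ toFun := fun g => ζ ^ (((e.symm g).2 : ℕ) * j), map_one' := ?_, map_mul' := ?_ }, hexp⟩
  · have := hexp 1 (one_mem S) 0
    simpa using this
  · intro a b
    obtain ⟨t, ht, i, rfl⟩ := h.gen a
    obtain ⟨t', ht', i', rfl⟩ := h.gen b
    rw [show t * y ^ i * (t' * y ^ i') = (t * (y ^ i * t' * (y ^ i)⁻¹)) * y ^ (i + i') by
        rw [pow_add]; group,
      hexp _ (mul_mem ht (h.pow_norm i t' ht')), hexp t ht, hexp t' ht', add_mul, pow_add]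

theorem isConj_point {ζ : ℂ} (hζ : IsPrimitiveRoot ζ 5) {p q : Z × Fin 5}
    (hc : IsConj ((p.1 : L) * y ^ (p.2 : ℕ)) ((q.1 : L) * y ^ (q.2 : ℕ))) : p = q := by
  obtain ⟨⟨w, hw⟩, i⟩ := p
  obtain ⟨⟨w', hw'⟩, i'⟩ := q
  obtain ⟨ν, hν⟩ := h.exists_lin hζ.pow_eq_one 1
  obtain ⟨c, hc⟩ := isConj_iff.1 hc
  have h1 := congrArg ν hc
  rw [map_mul, map_mul, mul_right_comm, ← map_mul, mul_inv_cancel, map_one, one_mul,
    hν w (h.Z_le hw), hν w' (h.Z_le hw'), mul_one, mul_one] at h1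
  have hi : i = i' := Fin.ext (hζ.pow_inj i.2 i'.2 h1)
  subst hi
  obtain ⟨t, ht, l, rfl⟩ := h.gen c
  have h2 : w * (t * y ^ (i : ℕ) * t⁻¹) = w' * y ^ (i : ℕ) := by
    rw [← hc]
    calc w * (t * y ^ (i : ℕ) * t⁻¹) = t * w * y ^ (i : ℕ) * t⁻¹ := by rw [h.central w hw t]; group
      _ = t * (y ^ l * w * (y ^ l)⁻¹) * (y ^ l * y ^ (i : ℕ) * (y ^ l)⁻¹) * t⁻¹ := by
        rw [h.central w hw (y ^ l), ((Commute.refl y).pow_pow l (i : ℕ)).eq]; group
      _ = t * y ^ l * (w * y ^ (i : ℕ)) * (t * y ^ l)⁻¹ := by group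
  have hww : w = w' := by
    by_cases hi0 : (i : ℕ) = 0
    · simpa [hi0] using h2
    · have h3 : y ^ (i : ℕ) * t * (y ^ (i : ℕ))⁻¹ * t⁻¹ ∈ Z := by
        have e : t * y ^ (i : ℕ) * t⁻¹ = w⁻¹ * w' * y ^ (i : ℕ) := by
          rw [mul_assoc (w⁻¹), ← h2]; group
        rw [show y ^ (i : ℕ) * t * (y ^ (i : ℕ))⁻¹ * t⁻¹ = (t * y ^ (i : ℕ) * t⁻¹ * (y ^ (i : ℕ))⁻¹)⁻¹
          by group, e, mul_inv_cancel_right]
        exact inv_mem (mul_mem (inv_mem hw) hw')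
      have htZ := h.free_pow (by have := i.2; omega) ht h3
      rw [← h.central t htZ (y ^ (i : ℕ)), mul_inv_cancel_right] at h2
      exact mul_right_cancel h2
  simp [hww]

theorem card_cent (p : Z × Fin 5) :
    Nat.card (centralizer ({(p.1 : L) * y ^ (p.2 : ℕ)} : Set L)) = if p.2 = 0 then 320 else 20 := by
  obtain ⟨⟨w, hw⟩, i⟩ := p
  by_cases hi : i = 0
  · rw [if_pos hi, hi, ← h.card_L]
    rw [show centralizer ({w * y ^ ((0 : Fin 5) : ℕ)} : Set L) = ⊤ from eq_top_iff.2 fun g _ =>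
      mem_centralizer_singleton_iff.2 (by simpa using h.central w hw g), card_top]
  rw [if_neg hi]
  have hi5 : (i : ℕ) % 5 ≠ 0 := by
    have := i.2
    have : (i : ℕ) ≠ 0 := fun e => hi (Fin.ext e)
    omega
  have hmem : ∀ q : Z × Fin 5,
      (q.1 : L) * y ^ (q.2 : ℕ) ∈ centralizer ({w * y ^ (i : ℕ)} : Set L) := by
    rintro ⟨⟨v, hv⟩, l⟩
    refine mem_centralizer_singleton_iff.2 ?_
    show v * y ^ (l : ℕ) * (w * y ^ (i : ℕ)) = w * y ^ (i : ℕ) * (v * y ^ (l : ℕ))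
    calc v * y ^ (l : ℕ) * (w * y ^ (i : ℕ)) = v * (y ^ (l : ℕ) * w) * y ^ (i : ℕ) := by group
      _ = v * w * (y ^ (l : ℕ) * y ^ (i : ℕ)) := by rw [h.central w hw]; group
      _ = w * v * (y ^ (i : ℕ) * y ^ (l : ℕ)) := by
        rw [h.central w hw v, ((Commute.refl y).pow_pow (l : ℕ) (i : ℕ)).eq]
      _ = w * (v * y ^ (i : ℕ)) * y ^ (l : ℕ) := by group
      _ = _ := by rw [← h.central v hv]; group
  have hbij : Function.Bijective (fun q : Z × Fin 5 =>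
      (⟨(q.1 : L) * y ^ (q.2 : ℕ), hmem q⟩ : centralizer ({w * y ^ (i : ℕ)} : Set L))) := by
    constructor
    · intro a b e
      have e' := congrArg Subtype.val e
      have h1 := h.bijective.1 (a₁ := (⟨a.1, h.Z_le a.1.2⟩, a.2)) (a₂ := (⟨b.1, h.Z_le b.1.2⟩, b.2)) e'
      simp only [Prod.mk.injEq, Subtype.mk.injEq] at h1
      exact Prod.ext (Subtype.ext h1.1) h1.2
    · rintro ⟨c, hc⟩
      obtain ⟨⟨⟨t, ht⟩, l⟩, rfl⟩ := h.bijective.2 c
      have hc' : t * y ^ (l : ℕ) * (w * y ^ (i : ℕ)) = w * y ^ (i : ℕ) * (t * y ^ (l : ℕ)) :=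
        mem_centralizer_singleton_iff.1 hc
      have h2 : t * y ^ (i : ℕ) = y ^ (i : ℕ) * t := by
        refine mul_left_cancel (a := w) (mul_right_cancel (b := y ^ (l : ℕ)) ?_)
        calc w * (t * y ^ (i : ℕ)) * y ^ (l : ℕ) = t * w * (y ^ (i : ℕ) * y ^ (l : ℕ)) := by
              rw [h.central w hw t]; group
          _ = t * (y ^ (l : ℕ) * w) * y ^ (i : ℕ) := by
              rw [h.central w hw (y ^ (l : ℕ)), ((Commute.refl y).pow_pow (i : ℕ) (l : ℕ)).eq]; group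
          _ = t * y ^ (l : ℕ) * (w * y ^ (i : ℕ)) := by group
          _ = w * (y ^ (i : ℕ) * t) * y ^ (l : ℕ) := by rw [hc']; group
      have htZ : t ∈ Z := h.free_pow hi5 ht (by rw [← h2]; simp)
      exact ⟨(⟨t, htZ⟩, l), rfl⟩
  rw [← Nat.card_eq_of_bijective _ hbij, Nat.card_prod, h.card_Z, Nat.card_eq_fintype_card,
    Fintype.card_fin]

/-- A class function summed over a coset `S y^i`. -/
theorem sum_coset [Fintype S] [Fintype Z] {F : L → ℂ} (hF : Cfsg.IsClassFunction L F) {i : ℕ}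
    (hi : i % 5 ≠ 0) : ∑ t : S, F ((t : L) * y ^ i) = 16 * ∑ w : Z, F ((w : L) * y ^ i) := by
  classical
  haveI := h.pin.normal
  set W := Z.subgroupOf S with hW
  have hWc : Nat.card W = 4 := h.pin.card_W
  have hV : Nat.card (↥S ⧸ W) = 16 := by
    have h1 := Subgroup.card_eq_card_quotient_mul_card_subgroup W
    rw [h.pin.card_P, hWc] at h1
    omega
  have hmem : ∀ p : (↥S ⧸ W) × Z,
      (p.1.out : L) * (p.2 : L) * (y ^ i * (p.1.out : L)⁻¹ * (y ^ i)⁻¹) ∈ S := fun p =>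
    mul_mem (mul_mem p.1.out.2 (h.Z_le p.2.2)) (h.pow_norm i _ (inv_mem p.1.out.2))
  have hbij : Function.Bijective (fun p : (↥S ⧸ W) × Z =>
      (⟨(p.1.out : L) * (p.2 : L) * (y ^ i * (p.1.out : L)⁻¹ * (y ^ i)⁻¹), hmem p⟩ : S)) := by
    rw [Nat.bijective_iff_injective_and_card]
    refine ⟨fun a b e => ?_, by rw [Nat.card_prod, hV, h.card_Z, h.pin.card_P]⟩
    obtain ⟨q, w⟩ := a
    obtain ⟨q', w'⟩ := b
    have e' := congrArg Subtype.val e
    simp only at e'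
    set x : L := (q.out : L)
    set x' : L := (q'.out : L)
    have h1 : x * ((w : L) * y ^ i) * x⁻¹ = x' * ((w' : L) * y ^ i) * x'⁻¹ := by
      have := congrArg (· * y ^ i) e'
      simpa [mul_assoc] using this
    set v := x'⁻¹ * x with hv
    have h2 : v * y ^ i * v⁻¹ = (w : L)⁻¹ * w' * y ^ i := by
      rw [mul_assoc (w : L)⁻¹, eq_inv_mul_iff_mul_eq]
      calc (w : L) * (v * y ^ i * v⁻¹) = v * w * y ^ i * v⁻¹ := by rw [h.central _ w.2 v]; group
        _ = x'⁻¹ * (x * ((w : L) * y ^ i) * x⁻¹) * x' := by rw [hv]; group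
        _ = (w' : L) * y ^ i := by rw [h1]; group
    have hvZ : v ∈ Z := by
      refine h.free_pow hi (mul_mem (inv_mem q'.out.2) q.out.2) ?_
      rw [show y ^ i * v * (y ^ i)⁻¹ * v⁻¹ = (v * y ^ i * v⁻¹ * (y ^ i)⁻¹)⁻¹ by group, h2,
        mul_inv_cancel_right]
      exact inv_mem (mul_mem (inv_mem w.2) w'.2)
    have hq : q = q' := by
      rw [← QuotientGroup.out_eq' q, ← QuotientGroup.out_eq' q', QuotientGroup.eq, mem_subgroupOf]
      rw [show ((q.out⁻¹ * q'.out : S) : L) = v⁻¹ by rw [hv]; simp [x, x']]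
      exact inv_mem hvZ
    subst hq
    have hv1 : v = 1 := by rw [hv]; exact inv_mul_cancel x
    rw [hv1, one_mul, inv_one, mul_one, eq_comm, mul_eq_right, inv_mul_eq_one] at h2
    rw [Subtype.ext h2]
  haveI := Fintype.ofFinite (↥S ⧸ W)
  rw [← hbij.sum_comp (fun t : S => F ((t : L) * y ^ i)), Fintype.sum_prod_type]
  have hterm : ∀ (q : ↥S ⧸ W) (w : Z),
      F ((q.out : L) * (w : L) * (y ^ i * (q.out : L)⁻¹ * (y ^ i)⁻¹) * y ^ i) = F ((w : L) * y ^ i) := by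
    intro q w
    rw [← hF ((w : L) * y ^ i) (q.out : L)]
    congr 1
    group
  simp only [hterm]
  rw [Finset.sum_const, Finset.card_univ, ← Nat.card_eq_fintype_card, hV, nsmul_eq_mul]
  norm_num

end Ext

end Cfsg.Agent.UFourRows
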