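import Cfsg.Agent.Lib.UFourRows.Sound

/-!
Rows permuted by the rotation give units, so they cannot exist.
-/

set_option autoImplicit false
set_option linter.all false

namespace Cfsg.Agent.UFourRows

open Finset

universe u

/-- The product with a coefficient vector. -/
def Vec.dot (c x : Vec) : Int := c.a * x.a + c.b * x.b + c.c * x.c + c.d * x.d + c.e * x.e + c.p * x.p

/-- The quadratic form of the rows other than the trivial one. -/
def Vec.form (c : Vec) : Int :=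
  4 * (c.a * c.a) + 4 * (c.b * c.b + c.c * c.c + c.d * c.d + c.e * c.e) + c.tot * c.tot + 2 * (c.a * c.tot) +
    21 * (c.p * c.p) + 10 * (c.p * (c.a + c.tot))

/-- A system of rows with all the lower bounds on multiplicities. -/
structure Rows (ι : Type u) [Fintype ι] where
  x : ι → Vec
  m : ι → Int
  next : ι → ι
  next_bij : Function.Bijective next
  x_next : ∀ i, x (next i) = (x i).rot
  m_next : ∀ i, m (next i) = m i
  gram : ∀ c : Vec, ∑ i, c.dot (x i) ^ 2 = c.form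
  lin0 : ∑ i, m i * (x i).a = 1
  lin1 : ∑ i, m i * (x i).tot = 4
  lin2 : ∑ i, m i * (x i).p = 4
  eqA : ∑ i, (((x i).s * (x i).s * (4 * (x i).a - (x i).tot) : Int) : ℚ) / ((64 * m i + (x i).off : Int) : ℚ) = 4
  eqK : ∑ i, (((x i).s * (x i).s * (x i).k : Int) : ℚ) / ((64 * m i + (x i).off : Int) : ℚ) = -1
  eqE : 1 ≤ ∑ i, (((x i).s * (x i).s * (x i).a : Int) : ℚ) / ((64 * m i + (x i).off : Int) : ℚ)
  one_le : ∀ i, 1 ≤ m i
  trivial_le : ∀ i, 1 ≤ m i + (x i).k
  plane_le : ∀ i, 1 + (x i).a ≤ m i ∧ 1 + (x i).b ≤ m i ∧ 1 + (x i).c ≤ m i ∧ 1 + (x i).d ≤ m i ∧ 1 + (x i).e ≤ m i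
  four_le : ∀ i, 4 ≤ 4 * m i - (x i).p

theorem repIn_some : ∀ {l : List Ty} {x : Vec} {t : Ty} {b : Bool}, repIn l x = some (t, b) →
    t ∈ l ∧ x = t.vec b := by
  intro l
  induction l with
  | nil => intro x t b h; simp [repIn] at h
  | cons s l ih =>
    intro x t b h
    simp only [repIn] at h
    by_cases h1 : x = s.x
    · rw [if_pos h1] at h
      obtain ⟨rfl, rfl⟩ := Prod.mk.injEq _ _ _ _ ▸ Option.some.inj h
      exact ⟨List.mem_cons_self .., by rw [Ty.vec, if_pos rfl]; exact h1⟩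
    rw [if_neg h1] at h
    by_cases h2 : (!s.selfNeg && decide (x = s.x.neg)) = true
    · rw [if_pos h2] at h
      obtain ⟨rfl, rfl⟩ := Prod.mk.injEq _ _ _ _ ▸ Option.some.inj h
      simp only [Bool.and_eq_true, decide_eq_true_eq] at h2
      exact ⟨List.mem_cons_self .., by rw [Ty.vec, if_neg Bool.false_ne_true]; exact h2.2⟩
    rw [if_neg h2] at h
    obtain ⟨h3, h4⟩ := ih h
    exact ⟨List.mem_cons_of_mem _ h3, h4⟩

theorem mem_small {a : Int} (h : a * a ≤ 5) : a ∈ small := by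
  have h1 : -2 ≤ a := by nlinarith
  have h2 : a ≤ 2 := by nlinarith
  simp only [small, List.mem_cons, List.not_mem_nil, or_false]
  omega

theorem mem_middle {a : Int} (h : a * a ≤ 21) : a ∈ middle := by
  have h1 : -4 ≤ a := by nlinarith
  have h2 : a ≤ 4 := by nlinarith
  simp only [middle, List.mem_cons, List.not_mem_nil, or_false]
  omega

namespace Rows

variable {ι : Type u} [Fintype ι] (R : Rows ι)

theorem sq_le (i : ι) (c : Vec) : c.dot (R.x i) ^ 2 ≤ c.form :=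
  R.gram c ▸ Finset.single_le_sum (f := fun j => c.dot (R.x j) ^ 2) (fun j _ => sq_nonneg _) (Finset.mem_univ i)

theorem weight_eq_four (i : ι) (h : R.x i ≠ Vec.zero) :
    weight (R.x i) + weight (R.x i).rot + weight (R.x i).rot.rot + weight (R.x i).rot.rot.rot = 4 := by
  obtain ⟨a, b, c, d, e, p, hx⟩ : ∃ a b c d e p, R.x i = ⟨a, b, c, d, e, p⟩ := ⟨_, _, _, _, _, _, rfl⟩
  have h0 : ∀ v : Vec, v.dot ⟨a, b, c, d, e, p⟩ ^ 2 ≤ v.form := fun v => hx ▸ R.sq_le i v
  have ha := h0 ⟨1, 0, 0, 0, 0, 0⟩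
  have hb := h0 ⟨0, 1, 0, 0, 0, 0⟩
  have hc := h0 ⟨0, 0, 1, 0, 0, 0⟩
  have hd := h0 ⟨0, 0, 0, 1, 0, 0⟩
  have he := h0 ⟨0, 0, 0, 0, 1, 0⟩
  have hp := h0 ⟨0, 0, 0, 0, 0, 1⟩
  simp only [Vec.dot, Vec.form, Vec.tot] at ha hb hc hd he hp
  norm_num at ha hb hc hd he hp
  have key := cover_ok
  simp only [List.all_eq_true] at key
  have hcov := key a (mem_small (by nlinarith)) b (mem_small (by nlinarith)) c (mem_small (by nlinarith))
    d (mem_small (by nlinarith)) e (mem_small (by nlinarith)) p (mem_middle (by nlinarith))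
  rw [← hx] at hcov
  simp only [covered, Bool.or_eq_true, decide_eq_true_eq] at hcov
  rcases hcov with (hq | hz) | hw
  · exfalso
    have hN := h0 ⟨68 * a + 4 * (b + c + d + e) - 20 * p, 4 * a + 47 * b + 3 * (b + c + d + e) - 15 * p,
      4 * a + 47 * c + 3 * (b + c + d + e) - 15 * p, 4 * a + 47 * d + 3 * (b + c + d + e) - 15 * p,
      4 * a + 47 * e + 3 * (b + c + d + e) - 15 * p, -20 * a - 15 * (b + c + d + e) + 28 * p⟩
    rw [hx] at hq
    set Q := Vec.adjForm ⟨a, b, c, d, e, p⟩ with hQ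
    have hN' : Q ^ 2 ≤ 188 * Q := by
      refine le_trans (le_of_eq ?_) (hN.trans (le_of_eq ?_))
      · rw [hQ]; simp only [Vec.dot, Vec.adjForm, Vec.tot]; ring
      · rw [hQ]; simp only [Vec.form, Vec.adjForm, Vec.tot]; ring
    nlinarith [hN', hq]
  · exact absurd hz h
  · exact hw

theorem sum_weight {β : Type*} [Ring β] [CharZero β] [NoZeroDivisors β] (g : Vec → Int → β)
    (hrot : ∀ x m, g x.rot m = g x m) (hzero : ∀ m, g Vec.zero m = 0) :
    ∑ i, (weight (R.x i) : β) * g (R.x i) (R.m i) = ∑ i, g (R.x i) (R.m i) := by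
  have hsh : ∀ w : Vec → Int, ∑ i, (w (R.x i) : β) * g (R.x i) (R.m i) =
      ∑ i, (w (R.x i).rot : β) * g (R.x i) (R.m i) := fun w => by
    conv_lhs => rw [← R.next_bij.sum_comp fun i => (w (R.x i) : β) * g (R.x i) (R.m i)]
    exact Finset.sum_congr rfl fun i _ => by rw [R.x_next, R.m_next, hrot]
  have h1 := hsh weight
  have h2 := hsh fun x => weight x.rot
  have h3 := hsh fun x => weight x.rot.rot
  have key : (4 : β) * ∑ i, (weight (R.x i) : β) * g (R.x i) (R.m i) = 4 * ∑ i, g (R.x i) (R.m i) := by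
    calc (4 : β) * ∑ i, (weight (R.x i) : β) * g (R.x i) (R.m i)
        = ∑ i, ((weight (R.x i) + weight (R.x i).rot + weight (R.x i).rot.rot + weight (R.x i).rot.rot.rot : Int) : β) *
            g (R.x i) (R.m i) := by
          push_cast
          simp only [add_mul, Finset.sum_add_distrib]
          rw [← h3, ← h2, ← h1]
          noncomm_ring
      _ = _ := by
          rw [Finset.mul_sum]
          refine Finset.sum_congr rfl fun i _ => ?_
          by_cases h : R.x i = Vec.zero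
          · rw [h, hzero, mul_zero, mul_zero]
          · rw [R.weight_eq_four i h]; norm_num
  exact mul_left_cancel₀ (by exact_mod_cast (by norm_num : (4 : Int) ≠ 0)) key

theorem lo_le (i : ι) : lo (R.x i) ≤ R.m i := by
  have h1 := R.one_le i
  have h2 := R.trivial_le i
  have h3 := R.plane_le i
  have h4 := R.four_le i
  simp only [lo, max_le_iff]
  omega

/-- The units of the system. -/
noncomputable def units : List Item :=
  (Finset.univ : Finset ι).toList.filterMap fun i => (rep (R.x i)).map fun tb => ⟨tb.1, tb.2, R.m i⟩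

theorem sum_units {β : Type*} [Ring β] (val : Item → β) (g : Vec → Int → β)
    (hv : ∀ u : Item, u.t ∈ table → val u = (u.t.L : β) * g u.vec u.m) :
    (R.units.map val).sum = ∑ i, (weight (R.x i) : β) * g (R.x i) (R.m i) := by
  rw [← Finset.sum_map_toList, units]
  induction (Finset.univ : Finset ι).toList with
  | nil => simp
  | cons i l ih =>
    simp only [List.filterMap_cons, List.map_cons, List.sum_cons, ← ih]
    rcases hr : rep (R.x i) with _ | ⟨t, b⟩
    · simp [weight, hr]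
    · obtain ⟨ht, hx⟩ := repIn_some hr
      simp only [Option.map_some, List.map_cons, List.sum_cons, weight, hr]
      rw [hv _ ht, Item.vec, ← hx]

theorem valid_units {u : Item} (hu : u ∈ R.units) : u.Valid := by
  obtain ⟨i, -, hi⟩ := List.mem_filterMap.1 hu
  rcases hr : rep (R.x i) with _ | ⟨t, b⟩
  · simp [hr] at hi
  · rw [hr] at hi
    cases hi
    obtain ⟨ht, hx⟩ := repIn_some hr
    exact ⟨ht, by rw [Item.vec, ← hx]; exact R.lo_le i⟩

theorem sum_all {β : Type*} [Ring β] [CharZero β] [NoZeroDivisors β] (val : Item → β) (g : Vec → Int → β)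
    (hv : ∀ u : Item, u.t ∈ table → val u = (u.t.L : β) * g u.vec u.m)
    (hrot : ∀ x m, g x.rot m = g x m) (hzero : ∀ m, g Vec.zero m = 0) :
    (R.units.map val).sum = ∑ i, g (R.x i) (R.m i) :=
  (R.sum_units val g hv).trans (R.sum_weight g hrot hzero)

theorem tot_rot (x : Vec) : x.rot.tot = x.tot := by simp [Vec.rot, Vec.tot]; ring

theorem U_rot (x : Vec) : x.rot.U = x.U := by simp [Vec.U, tot_rot, show x.rot.a = x.a from rfl]

theorem sys : Sys R.units where
  valid u hu := R.valid_units hu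
  e0 := (R.sum_all Item.r0
    (fun x m => ((x.s * x.s * (4 * x.a - x.tot) : Int) : ℚ) / ((64 * m + x.off : Int) : ℚ))
    (fun u _ => by simp [Item.r0, Item.den, Item.cf, coef]; ring)
    (fun x m => by simp only [Vec.s, Vec.off, U_rot, tot_rot]; rfl)
    fun m => by simp [Vec.zero, Vec.s, Vec.U, Vec.tot]).trans R.eqA
  e1 := (R.sum_all Item.r1 (fun x m => ((x.s * x.s * x.k : Int) : ℚ) / ((64 * m + x.off : Int) : ℚ))
    (fun u _ => by simp [Item.r1, Item.den, Item.cf, coef]; ring)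
    (fun x m => by simp only [Vec.s, Vec.k, Vec.off, U_rot]; rfl)
    fun m => by simp [Vec.zero, Vec.s, Vec.U, Vec.tot]).trans R.eqK
  e2 := le_of_le_of_eq R.eqE (R.sum_all Item.r2
    (fun x m => ((x.s * x.s * x.a : Int) : ℚ) / ((64 * m + x.off : Int) : ℚ))
    (fun u _ => by simp [Item.r2, Item.den, Item.cf, coef]; ring)
    (fun x m => by simp only [Vec.s, Vec.off, U_rot]; rfl)
    fun m => by simp [Vec.zero]).symm
  e3 := (R.sum_all Item.z3 (fun x m => m * x.a)
    (fun u _ => by simp [Item.z3, Item.cf, coef]; ring) (fun x m => rfl)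
    fun m => by simp [Vec.zero]).trans R.lin0
  e4 := (R.sum_all Item.z4 (fun x m => m * x.tot)
    (fun u _ => by simp [Item.z4, Item.cf, coef]; ring) (fun x m => by simp only [tot_rot])
    fun m => by simp [Vec.zero, Vec.tot]).trans R.lin1
  e5 := (R.sum_all Item.z5 (fun x m => m * x.p)
    (fun u _ => by simp [Item.z5, Item.cf, coef]; ring) (fun x m => rfl)
    fun m => by simp [Vec.zero]).trans R.lin2

theorem four_gSum (q : G8 → Int) (gq : Vec → Int)
    (hv : ∀ t ∈ table, ∀ b : Bool, 4 * q t.v = t.L * gq (t.vec b))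
    (hrot : ∀ x : Vec, gq x.rot = gq x) (hzero : gq Vec.zero = 0) :
    4 * gSum q R.units = ∑ i, gq (R.x i) := by
  have h := R.sum_units (fun u => 4 * q u.t.v) (fun x _ => gq x) fun u hu => by
    rw [hv _ hu u.sgn]; rfl
  rw [gSum, ← List.sum_map_mul_left, h]
  exact R.sum_weight (fun x _ => gq x) (fun x _ => hrot x) fun _ => hzero

theorem total : Total R.units ⟨4, 5, 21, 1, 1, 1, 5, 5⟩ := by
  have hg : ∀ c : Vec, ∑ i, c.dot (R.x i) ^ 2 = c.form := R.gram
  have key : ∀ t ∈ table, ∀ b : Bool, (⟨4 * t.v.q0, 4 * t.v.q1, 4 * t.v.q2, 4 * t.v.q3, 4 * t.v.q4, 4 * t.v.q5,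
      4 * t.v.q6, 4 * t.v.q7⟩ : G8) = ⟨t.L * (t.vec b).gram4.q0, t.L * (t.vec b).gram4.q1, t.L * (t.vec b).gram4.q2,
        t.L * (t.vec b).gram4.q3, t.L * (t.vec b).gram4.q4, t.L * (t.vec b).gram4.q5, t.L * (t.vec b).gram4.q6,
        t.L * (t.vec b).gram4.q7⟩ := by
    intro t ht b
    rw [(table_facts ht).1]
    cases b <;> simp [Ty.vec, Vec.neg, Vec.gram4, Vec.tot] <;> (try constructor) <;> ring_nf <;> trivial
  refine ⟨?_, ?_, ?_, ?_, ?_, ?_, ?_, ?_⟩
  · have h := R.four_gSum G8.q0 (fun x => x.gram4.q0) (fun t ht b => congrArg G8.q0 (key t ht b)) (fun _ => rfl) rfl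
    have h2 : ∀ i, 2 * (R.x i).gram4.q0 =
      (8 : Int) * Vec.dot ⟨1, 0, 0, 0, 0, 0⟩ (R.x i) ^ 2 := fun i => by
      simp only [Vec.gram4, Vec.dot, Vec.tot]; ring
    have h3 := Finset.sum_congr (rfl : (Finset.univ : Finset ι) = _) fun i _ => h2 i
    simp only [Finset.sum_add_distrib, ← Finset.mul_sum, hg] at h3
    norm_num [Vec.form, Vec.tot] at h3
    show gSum G8.q0 R.units = 4
    omega
  · have h := R.four_gSum G8.q1 (fun x => x.gram4.q1) (fun t ht b => congrArg G8.q1 (key t ht b)) (fun x => by simp only [Vec.gram4, Vec.rot, Vec.tot]; ring) rfl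
    have h2 : ∀ i, 2 * (R.x i).gram4.q1 =
      (2 : Int) * Vec.dot ⟨0, 1, 0, 0, 0, 0⟩ (R.x i) ^ 2 + (2 : Int) * Vec.dot ⟨0, 0, 1, 0, 0, 0⟩ (R.x i) ^ 2 + (2 : Int) * Vec.dot ⟨0, 0, 0, 1, 0, 0⟩ (R.x i) ^ 2 + (2 : Int) * Vec.dot ⟨0, 0, 0, 0, 1, 0⟩ (R.x i) ^ 2 := fun i => by
      simp only [Vec.gram4, Vec.dot, Vec.tot]; ring
    have h3 := Finset.sum_congr (rfl : (Finset.univ : Finset ι) = _) fun i _ => h2 i
    simp only [Finset.sum_add_distrib, ← Finset.mul_sum, hg] at h3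
    norm_num [Vec.form, Vec.tot] at h3
    show gSum G8.q1 R.units = 5
    omega
  · have h := R.four_gSum G8.q2 (fun x => x.gram4.q2) (fun t ht b => congrArg G8.q2 (key t ht b)) (fun _ => rfl) rfl
    have h2 : ∀ i, 2 * (R.x i).gram4.q2 =
      (8 : Int) * Vec.dot ⟨0, 0, 0, 0, 0, 1⟩ (R.x i) ^ 2 := fun i => by
      simp only [Vec.gram4, Vec.dot, Vec.tot]; ring
    have h3 := Finset.sum_congr (rfl : (Finset.univ : Finset ι) = _) fun i _ => h2 i
    simp only [Finset.sum_add_distrib, ← Finset.mul_sum, hg] at h3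
    norm_num [Vec.form, Vec.tot] at h3
    show gSum G8.q2 R.units = 21
    omega
  · have h := R.four_gSum G8.q3 (fun x => x.gram4.q3) (fun t ht b => congrArg G8.q3 (key t ht b)) (fun x => by simp only [Vec.gram4, Vec.rot, Vec.tot]; ring) rfl
    have h2 : ∀ i, 2 * (R.x i).gram4.q3 =
      (1 : Int) * Vec.dot ⟨1, 1, 1, 1, 1, 0⟩ (R.x i) ^ 2 + (-1 : Int) * Vec.dot ⟨1, 0, 0, 0, 0, 0⟩ (R.x i) ^ 2 + (-1 : Int) * Vec.dot ⟨0, 1, 1, 1, 1, 0⟩ (R.x i) ^ 2 := fun i => by
      simp only [Vec.gram4, Vec.dot, Vec.tot]; ring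
    have h3 := Finset.sum_congr (rfl : (Finset.univ : Finset ι) = _) fun i _ => h2 i
    simp only [Finset.sum_add_distrib, ← Finset.mul_sum, hg] at h3
    norm_num [Vec.form, Vec.tot] at h3
    show gSum G8.q3 R.units = 1
    omega
  · have h := R.four_gSum G8.q4 (fun x => x.gram4.q4) (fun t ht b => congrArg G8.q4 (key t ht b)) (fun x => by simp only [Vec.gram4, Vec.rot, Vec.tot]; ring) rfl
    have h2 : ∀ i, 2 * (R.x i).gram4.q4 =
      (1 : Int) * Vec.dot ⟨0, 1, 1, 1, 1, 0⟩ (R.x i) ^ 2 + (-1 : Int) * Vec.dot ⟨0, 1, 0, 1, 0, 0⟩ (R.x i) ^ 2 + (-1 : Int) * Vec.dot ⟨0, 0, 1, 0, 1, 0⟩ (R.x i) ^ 2 := fun i => by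
      simp only [Vec.gram4, Vec.dot, Vec.tot]; ring
    have h3 := Finset.sum_congr (rfl : (Finset.univ : Finset ι) = _) fun i _ => h2 i
    simp only [Finset.sum_add_distrib, ← Finset.mul_sum, hg] at h3
    norm_num [Vec.form, Vec.tot] at h3
    show gSum G8.q4 R.units = 1
    omega
  · have h := R.four_gSum G8.q5 (fun x => x.gram4.q5) (fun t ht b => congrArg G8.q5 (key t ht b)) (fun x => by simp only [Vec.gram4, Vec.rot, Vec.tot]; ring) rfl
    have h2 : ∀ i, 2 * (R.x i).gram4.q5 =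
      (2 : Int) * Vec.dot ⟨0, 1, 0, 1, 0, 0⟩ (R.x i) ^ 2 + (2 : Int) * Vec.dot ⟨0, 0, 1, 0, 1, 0⟩ (R.x i) ^ 2 + (-2 : Int) * Vec.dot ⟨0, 1, 0, 0, 0, 0⟩ (R.x i) ^ 2 + (-2 : Int) * Vec.dot ⟨0, 0, 1, 0, 0, 0⟩ (R.x i) ^ 2 + (-2 : Int) * Vec.dot ⟨0, 0, 0, 1, 0, 0⟩ (R.x i) ^ 2 + (-2 : Int) * Vec.dot ⟨0, 0, 0, 0, 1, 0⟩ (R.x i) ^ 2 := fun i => by
      simp only [Vec.gram4, Vec.dot, Vec.tot]; ring
    have h3 := Finset.sum_congr (rfl : (Finset.univ : Finset ι) = _) fun i _ => h2 i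
    simp only [Finset.sum_add_distrib, ← Finset.mul_sum, hg] at h3
    norm_num [Vec.form, Vec.tot] at h3
    show gSum G8.q5 R.units = 1
    omega
  · have h := R.four_gSum G8.q6 (fun x => x.gram4.q6) (fun t ht b => congrArg G8.q6 (key t ht b)) (fun _ => rfl) rfl
    have h2 : ∀ i, 2 * (R.x i).gram4.q6 =
      (4 : Int) * Vec.dot ⟨1, 0, 0, 0, 0, 1⟩ (R.x i) ^ 2 + (-4 : Int) * Vec.dot ⟨1, 0, 0, 0, 0, 0⟩ (R.x i) ^ 2 + (-4 : Int) * Vec.dot ⟨0, 0, 0, 0, 0, 1⟩ (R.x i) ^ 2 := fun i => by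
      simp only [Vec.gram4, Vec.dot, Vec.tot]; ring
    have h3 := Finset.sum_congr (rfl : (Finset.univ : Finset ι) = _) fun i _ => h2 i
    simp only [Finset.sum_add_distrib, ← Finset.mul_sum, hg] at h3
    norm_num [Vec.form, Vec.tot] at h3
    show gSum G8.q6 R.units = 5
    omega
  · have h := R.four_gSum G8.q7 (fun x => x.gram4.q7) (fun t ht b => congrArg G8.q7 (key t ht b)) (fun x => by simp only [Vec.gram4, Vec.rot, Vec.tot]; ring) rfl
    have h2 : ∀ i, 2 * (R.x i).gram4.q7 =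
      (1 : Int) * Vec.dot ⟨0, 1, 1, 1, 1, 1⟩ (R.x i) ^ 2 + (-1 : Int) * Vec.dot ⟨0, 1, 1, 1, 1, 0⟩ (R.x i) ^ 2 + (-1 : Int) * Vec.dot ⟨0, 0, 0, 0, 0, 1⟩ (R.x i) ^ 2 := fun i => by
      simp only [Vec.gram4, Vec.dot, Vec.tot]; ring
    have h3 := Finset.sum_congr (rfl : (Finset.univ : Finset ι) = _) fun i _ => h2 i
    simp only [Finset.sum_add_distrib, ← Finset.mul_sum, hg] at h3
    norm_num [Vec.form, Vec.tot] at h3
    show gSum G8.q7 R.units = 5
    omega

/-- There is no such system. -/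
theorem false_of_rows (R : Rows ι) : False := no_units R.total R.sys

end Rows

end Cfsg.Agent.UFourRows
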