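import Cfsg.Agent.Lib.UFourRows.Sums
import Cfsg.Agent.Lib.UFourRows.Units
import Cfsg.Agent.Lib.PrimeBlock.SubTwo.Squares
import Cfsg.Agent.Lib.Blocks.Block

/-!
In a simple group with the local data and the columns, the cores of the centralisers of involutions are trivial.
-/

set_option autoImplicit false
set_option linter.all false

namespace Cfsg.Agent.UFourRows

open Subgroup Cfsg.Agent.Characters Cfsg.Agent.CIT
open scoped ComplexConjugate

universe u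

variable {G : Type u} [Group G] [Finite G] [Fintype (Cfsg.IrrCharacter G)] {M : Ideal Cfsg.AlgInt}

/-- Twists by a coprime power stay in the principal block. -/
theorem twist_mem {k : ℕ} (hk : k.Coprime (Nat.card G)) {χ χ' : Cfsg.IrrCharacter G}
    (he : ∀ g, (χ' : G → ℂ) g = (χ : G → ℂ) (g ^ k)) (hχ : χ ∈ prinSet M G) : χ' ∈ prinSet M G := by
  rw [mem_prinSet] at hχ ⊢
  intro g
  have hcen : centralizer ({g ^ k} : Set G) = centralizer ({g} : Set G) := by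
    have hcop : k.Coprime (orderOf g) := Nat.Coprime.coprime_dvd_right (orderOf_dvd_natCard g) hk
    obtain ⟨l, hl⟩ := exists_pow_eq_self_of_coprime hcop
    refine le_antisymm (fun c hc => ?_) (fun c hc => ?_)
    · have hc' : Commute c (g ^ k) := mem_centralizer_singleton_iff.1 hc
      have h2 := hc'.pow_right l
      rw [hl] at h2
      exact mem_centralizer_singleton_iff.2 h2.eq
    · have hc' : Commute c g := mem_centralizer_singleton_iff.1 hc
      exact mem_centralizer_singleton_iff.2 (hc'.pow_right k).eq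
  have h1 := hχ (g ^ k)
  simp only [Cfsg.centralChar, hcen] at h1 ⊢
  rw [he g, he 1, one_pow]
  exact h1

/-- In a simple group a nontrivial irreducible character is faithful. -/
theorem exists_ne_one_value [IsSimpleGroup G] {χ : Cfsg.IrrCharacter G} (hne : χ ≠ trivIrr G)
    {K : Subgroup G} (hK : K ≠ ⊥) : ∃ q ∈ K, (χ : G → ℂ) q ≠ (χ : G → ℂ) 1 := by
  haveI := charKernel_normal (irr_isCharacter χ)
  rcases IsSimpleGroup.eq_bot_or_eq_top_of_normal _ (charKernel_normal (irr_isCharacter χ)) with hb | ht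
  · by_contra! hall
    refine hK (eq_bot_iff.2 fun q hq => ?_)
    have hmem : q ∈ charKernel (χ : G → ℂ) (irr_isCharacter χ) := mem_charKernel.2 (hall q hq)
    rwa [hb] at hmem
  · exfalso
    haveI := Fintype.ofFinite G
    have h1 := classInner_irr χ (trivIrr G)
    rw [if_neg hne, classInner_def] at h1
    simp only [trivIrr_coe, map_one, mul_one] at h1
    rw [Finset.sum_congr rfl fun g _ => mem_charKernel.1 (ht ▸ mem_top g :
      g ∈ charKernel (χ : G → ℂ) (irr_isCharacter χ)), Finset.sum_const, Finset.card_univ,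
      ← Nat.card_eq_fintype_card, nsmul_eq_mul, inv_mul_cancel_left₀ natCard_ne_zero] at h1
    exact irr_one_ne_zero χ.2 h1

open scoped Classical in
/-- **The cores are trivial.** -/
theorem core_trivial [IsSimpleGroup G] (hM : Cfsg.IsPModular 2 M) {S : Sylow 2 G} {Z : Subgroup G}
    {O : G → Subgroup G} {y z s : G} (h : LocalFive S Z O y)
    (hcst : ∀ w ∈ Z, w ≠ 1 → SingularConst M S Z O y w) (hz : z ∈ Z) (hz1 : z ≠ 1)
    (hs : s ∈ (S : Subgroup G)) (hsZ : s ∉ Z) (hcol : Columns M y z s) : O z = ⊥ := by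
  by_contra hO
  set ζ : ℂ := Complex.exp (2 * Real.pi * Complex.I / ((5 : ℕ) : ℂ)) with hζdef
  have hζ : IsPrimitiveRoot ζ 5 := Complex.isPrimitiveRoot_exp 5 (by norm_num)
  have hrow : ∀ χ : Cfsg.IrrCharacter G,
      ∃ (D sv kv m p : ℤ) (d : Fin 5 → ℤ), χ ∈ prinSet M G →
        0 < D ∧ (χ : G → ℂ) 1 = (D : ℂ) ∧ (χ : G → ℂ) z = (sv : ℂ) ∧
        (χ : G → ℂ) s = (kv : ℂ) ∧ D + 3 * sv - 4 * kv = 64 * m ∧ sv - kv = 4 * p ∧
        (∀ j : Fin 5, ∑ i : Fin 5, fval (χ : G → ℂ) z y i * conj (ζ ^ ((i : ℕ) * (j : ℕ))) = 5 * (d j : ℂ)) ∧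
        ((∃ q ∈ O z, (χ : G → ℂ) q ≠ (χ : G → ℂ) 1) →
          1 ≤ m ∧ 1 ≤ m + kv ∧ 4 ≤ 4 * m - p ∧ ∀ j, 1 + (p - d j) ≤ m) := by
    intro χ
    by_cases hχ : χ ∈ prinSet M G
    · obtain ⟨D, sv, kv, m, p, d, hh⟩ := exists_row h hcst hχ hz hz1 hs hsZ hζ
      exact ⟨D, sv, kv, m, p, d, fun _ => hh⟩
    · exact ⟨0, 0, 0, 0, 0, fun _ => 0, fun h' => absurd h' hχ⟩
  choose D sv kv m p d hfacts using hrow
  have hD0 : ∀ χ ∈ prinSet M G, 0 < D χ := fun χ hχ => (hfacts χ hχ).1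
  have hD : ∀ χ ∈ prinSet M G, (χ : G → ℂ) 1 = (D χ : ℂ) := fun χ hχ => (hfacts χ hχ).2.1
  have hsv : ∀ χ ∈ prinSet M G, (χ : G → ℂ) z = (sv χ : ℂ) := fun χ hχ => (hfacts χ hχ).2.2.1
  have hkv : ∀ χ ∈ prinSet M G, (χ : G → ℂ) s = (kv χ : ℂ) := fun χ hχ => (hfacts χ hχ).2.2.2.1
  have hm : ∀ χ ∈ prinSet M G, D χ + 3 * sv χ - 4 * kv χ = 64 * m χ :=
    fun χ hχ => (hfacts χ hχ).2.2.2.2.1
  have hp : ∀ χ ∈ prinSet M G, sv χ - kv χ = 4 * p χ := fun χ hχ => (hfacts χ hχ).2.2.2.2.2.1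
  have hd : ∀ χ ∈ prinSet M G, ∀ j : Fin 5, ∑ i : Fin 5,
      fval (χ : G → ℂ) z y i * conj (ζ ^ ((i : ℕ) * (j : ℕ))) = 5 * (d χ j : ℂ) :=
    fun χ hχ => (hfacts χ hχ).2.2.2.2.2.2.1
  have hineq : ∀ χ ∈ prinSet M G, (∃ q ∈ O z, (χ : G → ℂ) q ≠ (χ : G → ℂ) 1) →
      1 ≤ m χ ∧ 1 ≤ m χ + kv χ ∧ 4 ≤ 4 * m χ - p χ ∧ ∀ j, 1 + (p χ - d χ j) ≤ m χ :=
    fun χ hχ => (hfacts χ hχ).2.2.2.2.2.2.2
  clear hfacts
  set B := prinSet M G with hB
  have T : Totals B D sv kv d := totals hcol hζ hD hsv hkv hd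
  have hp4 : ∀ χ ∈ B, 4 * p χ = ∑ j, d χ j - kv χ := fun χ hχ => by
    rw [T.sum_d χ hχ, hp χ hχ]
  -- the trivial character
  set t₀ := trivIrr G with ht₀
  have ht₀B : t₀ ∈ B := mem_prinSet.2 (Cfsg.Agent.Blocks.trivIrr_mem_principal hM)
  have htD : D t₀ = 1 := by
    have h1 := hD t₀ ht₀B
    simp [ht₀] at h1
    exact_mod_cast h1.symm
  have htsv : sv t₀ = 1 := by
    have h1 := hsv t₀ ht₀B
    simp [ht₀] at h1
    exact_mod_cast h1.symm
  have htkv : kv t₀ = 1 := by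
    have h1 := hkv t₀ ht₀B
    simp [ht₀] at h1
    exact_mod_cast h1.symm
  have htm : m t₀ = 0 := by have h1 := hm t₀ ht₀B; rw [htD, htsv, htkv] at h1; omega
  have htp : p t₀ = 0 := by have h1 := hp t₀ ht₀B; rw [htsv, htkv] at h1; omega
  have htd : ∀ j, d t₀ j = if j = 0 then 1 else 0 := by
    intro j
    have h1 := hd t₀ ht₀B j
    simp only [fval, ht₀, trivIrr_coe, one_mul, root_sum_left hζ] at h1
    have h2 : ((if j = 0 then (5 : ℤ) else 0 : ℤ) : ℂ) = ((5 * d t₀ j : ℤ) : ℂ) := by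
      push_cast
      rw [← h1]
    have h3 := Int.cast_injective h2
    split_ifs at h3 ⊢ <;> omega
  -- the vectors
  set x : Cfsg.IrrCharacter G → Vec := fun χ =>
    ⟨p χ - d χ 0, p χ - d χ 1, p χ - d χ 2, p χ - d χ 4, p χ - d χ 3, p χ⟩ with hx
  have hd5 : ∀ χ ∈ B, d χ 0 + d χ 1 + d χ 2 + d χ 3 + d χ 4 = sv χ := fun χ hχ => by
    rw [← T.sum_d χ hχ, Fin.sum_univ_five]
  have hxs : ∀ χ ∈ B, (x χ).s = sv χ := fun χ hχ => by
    have := hd5 χ hχ
    simp only [hx, Vec.s, Vec.U, Vec.tot]; omega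
  have hxk : ∀ χ ∈ B, (x χ).k = kv χ := fun χ hχ => by
    have := hd5 χ hχ
    have := hp χ hχ
    simp only [hx, Vec.k, Vec.U, Vec.tot]; omega
  have hxoff : ∀ χ ∈ B, 64 * m χ + (x χ).off = D χ := fun χ hχ => by
    have := hd5 χ hχ
    have := hp χ hχ
    have := hm χ hχ
    simp only [hx, Vec.off, Vec.U, Vec.tot]; omega
  have htx : x t₀ = ⟨-1, 0, 0, 0, 0, 0⟩ := by simp [hx, htd, htp]
  -- the Galois twist
  obtain ⟨k, hkgt, hkp, hkmod⟩ :=
    Nat.forall_exists_prime_gt_and_modEq (Nat.card G) (q := 20) (a := 13) (by norm_num) (by norm_num)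
  have hk20 : k % 20 = 13 := by simpa [Nat.ModEq] using hkmod
  have hkcop : k.Coprime (Nat.card G) :=
    hkp.coprime_iff_not_dvd.2 fun hdvd => absurd (Nat.le_of_dvd Nat.card_pos hdvd) (by omega)
  let tw : Cfsg.IrrCharacter G → Cfsg.IrrCharacter G := fun χ =>
    ⟨fun g => (χ : G → ℂ) (g ^ k), Cfsg.Agent.PrimeBlock.SubTwo.isIrr_comp_pow hkcop χ.2⟩
  have htw : ∀ χ g, ((tw χ : Cfsg.IrrCharacter G) : G → ℂ) g = (χ : G → ℂ) (g ^ k) := fun _ _ => rfl
  have htwB : ∀ χ ∈ B, tw χ ∈ B := fun χ hχ => twist_mem hkcop (htw χ) hχ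
  have htwinj : Function.Injective tw := by
    intro a b e
    refine Subtype.ext (funext fun g => ?_)
    obtain ⟨g', rfl⟩ := (powCoprime (Nat.Coprime.symm hkcop)).surjective g
    exact congrFun (congrArg Subtype.val e) g'
  have htwt : tw t₀ = t₀ := Subtype.ext (funext fun g => by simp [tw, ht₀])
  have hz2 : z ^ 2 = 1 := by rw [sq]; exact UFour.mul_self_eq_one h.sylow hz
  have hs4 : s ^ 4 = 1 := by
    rw [show (4 : ℕ) = 2 * 2 from rfl, pow_mul, sq, sq]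
    exact UFour.mul_self_eq_one h.sylow (h.sylow.sq s hs)
  have hzk : z ^ k = z := by
    rw [pow_eq_pow_mod k hz2, show k % 2 = 1 by omega, pow_one]
  have hsk : s ^ k = s := by
    rw [pow_eq_pow_mod k hs4, show k % 4 = 1 by omega, pow_one]
  have htwD : ∀ χ ∈ B, D (tw χ) = D χ ∧ sv (tw χ) = sv χ ∧ kv (tw χ) = kv χ := by
    intro χ hχ
    refine ⟨?_, ?_, ?_⟩ <;> apply Int.cast_injective (α := ℂ)
    · rw [← hD _ (htwB χ hχ), ← hD χ hχ, htw, one_pow]
    · rw [← hsv _ (htwB χ hχ), ← hsv χ hχ, htw, hzk]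
    · rw [← hkv _ (htwB χ hχ), ← hkv χ hχ, htw, hsk]
  have htwm : ∀ χ ∈ B, m (tw χ) = m χ ∧ p (tw χ) = p χ := by
    intro χ hχ
    obtain ⟨e1, e2, e3⟩ := htwD χ hχ
    have := hm χ hχ
    have := hm _ (htwB χ hχ)
    have := hp χ hχ
    have := hp _ (htwB χ hχ)
    omega
  have htwd : ∀ χ ∈ B, ∀ j : Fin 5, d (tw χ) j = d χ (2 * j) := by
    intro χ hχ j
    apply Int.cast_injective (α := ℂ)
    apply mul_left_cancel₀ (by norm_num : (5 : ℂ) ≠ 0)
    rw [← hd _ (htwB χ hχ) j, ← hd χ hχ (2 * j)]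
    let e3 : Fin 5 ≃ Fin 5 :=
      { toFun := fun i => 3 * i, invFun := fun i => 2 * i, left_inv := by decide, right_inv := by decide }
    rw [← e3.sum_comp (fun i : Fin 5 => fval (χ : G → ℂ) z y i * conj (ζ ^ ((i : ℕ) * ((2 * j : Fin 5) : ℕ))))]
    refine Finset.sum_congr rfl fun i _ => ?_
    congr 1
    · show (χ : G → ℂ) ((z * y ^ (i : ℕ)) ^ k) = (χ : G → ℂ) (z * y ^ ((3 * i : Fin 5) : ℕ))
      have hc : Commute z y := (h.y_central z hz).symm
      rw [(hc.pow_right (i : ℕ)).mul_pow, hzk, ← pow_mul, value_periodic h hcst hχ hz hz1]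
      congr 3
      rw [Fin.val_mul, show ((3 : Fin 5) : ℕ) = 3 from rfl, Nat.mul_mod (i : ℕ) k, show k % 5 = 3 by omega,
        Nat.mul_mod 3 (i : ℕ), mul_comm]
    · congr 1
      have hdec : ∀ i j : Fin 5,
          ((i : ℕ) * (j : ℕ)) % 5 = (((3 * i : Fin 5) : ℕ) * ((2 * j : Fin 5) : ℕ)) % 5 := by decide
      show ζ ^ ((i : ℕ) * (j : ℕ)) = ζ ^ (((3 * i : Fin 5) : ℕ) * ((2 * j : Fin 5) : ℕ))
      rw [pow_eq_pow_mod ((i : ℕ) * (j : ℕ)) hζ.pow_eq_one, hdec i j, ← pow_eq_pow_mod _ hζ.pow_eq_one]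
  -- the index type
  set N := B.erase t₀ with hN
  have hNB : ∀ i : ↥N, (i : Cfsg.IrrCharacter G) ∈ B := fun i => (Finset.mem_erase.1 i.2).2
  have hNne : ∀ i : ↥N, (i : Cfsg.IrrCharacter G) ≠ t₀ := fun i => (Finset.mem_erase.1 i.2).1
  have hmemN : ∀ i : ↥N, tw i ∈ N := fun i => Finset.mem_erase.2
    ⟨fun e => hNne i (htwinj (e.trans htwt.symm)), htwB i (hNB i)⟩
  have hgood : ∀ i : ↥N, 1 ≤ m i ∧ 1 ≤ m i + kv i ∧ 4 ≤ 4 * m i - p i ∧ ∀ j, 1 + (p i - d i j) ≤ m i :=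
    fun i => hineq i (hNB i) (exists_ne_one_value (hNne i) hO)
  have hsumZ : ∀ F : Cfsg.IrrCharacter G → ℤ, ∑ i : ↥N, F i = ∑ χ ∈ B, F χ - F t₀ := fun F => by
    rw [Finset.sum_coe_sort N F, ← Finset.add_sum_erase B F ht₀B]; ring
  have hsumQ : ∀ F : Cfsg.IrrCharacter G → ℚ, ∑ i : ↥N, F i = ∑ χ ∈ B, F χ - F t₀ := fun F => by
    rw [Finset.sum_coe_sort N F, ← Finset.add_sum_erase B F ht₀B]; ring
  have hmd : ∀ j, ∑ χ ∈ B, m χ * d χ j = 3 := T.mult_d hm
  have hmk : ∑ χ ∈ B, m χ * kv χ = -1 := T.mult_k hm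
  have hmp : ∑ χ ∈ B, m χ * p χ = 4 := by
    have h1 : 4 * ∑ χ ∈ B, m χ * p χ = ∑ χ ∈ B, (∑ j, m χ * d χ j - m χ * kv χ) := by
      rw [Finset.mul_sum]
      refine Finset.sum_congr rfl fun χ hχ => ?_
      rw [← Finset.mul_sum, mul_left_comm, hp4 χ hχ]; ring
    rw [Finset.sum_sub_distrib, Finset.sum_comm, Finset.sum_congr rfl fun j _ => hmd j, hmk,
      Finset.sum_const, Finset.card_univ, Fintype.card_fin] at h1
    simp only [nsmul_eq_mul] at h1
    omega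
  have hmu : ∀ j, ∑ χ ∈ B, m χ * (p χ - d χ j) = 1 := fun j => by
    simp only [mul_sub]
    rw [Finset.sum_sub_distrib, hmp, hmd]; rfl
  obtain ⟨R, hR0, hRd⟩ := T.ratd
  have hRk := T.ratk
  have hRp : ∑ χ ∈ B, ((sv χ * sv χ * p χ : ℤ) : ℚ) / (D χ : ℚ) = 5 * R / 4 := by
    have h1 : ∀ χ ∈ B, ((sv χ * sv χ * p χ : ℤ) : ℚ) / (D χ : ℚ) =
        ((∑ j, ((sv χ * sv χ * d χ j : ℤ) : ℚ) / (D χ : ℚ)) -
          ((sv χ * sv χ * kv χ : ℤ) : ℚ) / (D χ : ℚ)) / 4 := by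
      intro χ hχ
      have h2 : ((4 * p χ : ℤ) : ℚ) = ((∑ j, d χ j - kv χ : ℤ) : ℚ) := by rw [hp4 χ hχ]
      push_cast at h2 ⊢
      rw [← Finset.sum_div, ← Finset.mul_sum, ← sub_div, ← mul_sub, ← h2]
      ring
    rw [Finset.sum_congr rfl h1, ← Finset.sum_div, Finset.sum_sub_distrib, Finset.sum_comm,
      Finset.sum_congr rfl fun j _ => hRd j, hRk, Finset.sum_const, Finset.card_univ, Fintype.card_fin]
    simp [nsmul_eq_mul]
  have hRu : ∀ j, ∑ χ ∈ B, ((sv χ * sv χ * (p χ - d χ j) : ℤ) : ℚ) / (D χ : ℚ) = R / 4 := fun j => by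
    simp only [mul_sub, Int.cast_sub, sub_div]
    rw [Finset.sum_sub_distrib, hRp, hRd]
    ring
  have hfrac : ∀ i : ↥N, ((64 * m i + (x i).off : ℤ) : ℚ) = (D i : ℚ) := fun i => by rw [hxoff _ (hNB i)]
  let R' : Rows ↥N :=
    { x := fun i => x i
      m := fun i => m i
      next := fun i => ⟨tw i, hmemN i⟩
      next_bij := Finite.injective_iff_bijective.1 fun a b e =>
        Subtype.ext (htwinj (congrArg Subtype.val e :))
      x_next := fun i => by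
        simp only [hx, Vec.rot, (htwm _ (hNB i)).2, htwd _ (hNB i)]
        rfl
      m_next := fun i => (htwm _ (hNB i)).1
      gram := fun c => by
        rw [hsumZ fun χ => c.dot (x χ) ^ 2]
        set T' : ℤ := c.a + c.b + c.c + c.d + c.e + c.p with hT'
        let α : Fin 5 → ℤ := ![T' - 4 * c.a, T' - 4 * c.b, T' - 4 * c.c, T' - 4 * c.e, T' - 4 * c.d]
        have hq := T.quad α (-T')
        have he : ∀ χ ∈ B, ∑ j, α j * d χ j + -T' * kv χ = 4 * c.dot (x χ) := by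
          intro χ hχ
          have h4 := hp4 χ hχ
          rw [Fin.sum_univ_five] at h4 ⊢
          simp only [α, Matrix.cons_val, Vec.dot, hx]
          linear_combination -T' * h4
        rw [Finset.sum_congr rfl fun χ hχ => by rw [he χ hχ, mul_pow], ← Finset.mul_sum] at hq
        simp only [Fin.sum_univ_five, α, Matrix.cons_val] at hq
        have h16 : (16 : ℤ) * ∑ χ ∈ B, c.dot (x χ) ^ 2 = 16 * (c.form + c.a * c.a) := by
          rw [show (16 : ℤ) = 4 ^ 2 by norm_num, hq, hT']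
          simp only [Vec.form, Vec.tot]
          ring
        have h1 := mul_left_cancel₀ (by norm_num) h16
        rw [h1, htx]
        simp only [Vec.dot]
        ring
      lin0 := by
        rw [hsumZ fun χ => m χ * (x χ).a, htm, zero_mul, sub_zero]
        exact hmu 0
      lin1 := by
        rw [hsumZ fun χ => m χ * (x χ).tot, htm, zero_mul, sub_zero]
        simp only [hx, Vec.tot, mul_add, Finset.sum_add_distrib]
        rw [hmu 1, hmu 2, hmu 4, hmu 3]; rfl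
      lin2 := by
        rw [hsumZ fun χ => m χ * (x χ).p, htm, zero_mul, sub_zero]
        exact hmp
      eqA := by
        rw [Finset.sum_congr rfl fun i _ => by rw [hfrac i, hxs _ (hNB i)],
          hsumQ fun χ => ((sv χ * sv χ * (4 * (x χ).a - (x χ).tot) : ℤ) : ℚ) / (D χ : ℚ)]
        rw [Finset.sum_congr rfl (g := fun χ =>
          4 * (((sv χ * sv χ * (p χ - d χ 0) : ℤ) : ℚ) / (D χ : ℚ)) -
            (((sv χ * sv χ * (p χ - d χ 1) : ℤ) : ℚ) / (D χ : ℚ) +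
            ((sv χ * sv χ * (p χ - d χ 2) : ℤ) : ℚ) / (D χ : ℚ) +
            ((sv χ * sv χ * (p χ - d χ 4) : ℤ) : ℚ) / (D χ : ℚ) +
            ((sv χ * sv χ * (p χ - d χ 3) : ℤ) : ℚ) / (D χ : ℚ))) fun χ _ => by
          simp only [hx, Vec.tot]; push_cast; ring]
        rw [Finset.sum_sub_distrib, ← Finset.mul_sum, Finset.sum_add_distrib, Finset.sum_add_distrib,
          Finset.sum_add_distrib, hRu, hRu, hRu, hRu, hRu, htx, htsv, htD]
        simp [Vec.tot]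
        ring
      eqK := by
        rw [Finset.sum_congr rfl fun i _ => by rw [hfrac i, hxs _ (hNB i), hxk _ (hNB i)],
          hsumQ fun χ => ((sv χ * sv χ * kv χ : ℤ) : ℚ) / (D χ : ℚ), hRk, htsv, htkv, htD]
        simp
      eqE := by
        rw [Finset.sum_congr rfl fun i _ => by rw [hfrac i, hxs _ (hNB i)],
          hsumQ fun χ => ((sv χ * sv χ * (x χ).a : ℤ) : ℚ) / (D χ : ℚ)]
        rw [show ∑ χ ∈ B, ((sv χ * sv χ * (x χ).a : ℤ) : ℚ) / (D χ : ℚ) = R / 4 from hRu 0,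
          htx, htsv, htD]
        simp
        linarith
      one_le := fun i => (hgood i).1
      trivial_le := fun i => by rw [hxk _ (hNB i)]; exact (hgood i).2.1
      plane_le := fun i => ⟨(hgood i).2.2.2 0, (hgood i).2.2.2 1, (hgood i).2.2.2 2, (hgood i).2.2.2 4,
        (hgood i).2.2.2 3⟩
      four_le := fun i => (hgood i).2.2.1 }
  exact R'.false_of_rows

end Cfsg.Agent.UFourRows
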