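import Cfsg.Agent.Lib.UFourRows.Extension

/-!
The inequality between multiplicities on `Z × 5` in `S ⋊ 5`.
-/

set_option autoImplicit false
set_option linter.all false

namespace Cfsg.Agent.UFourRows

open Subgroup Cfsg.Agent.Characters
open scoped ComplexConjugate

universe u

variable {L : Type u} [Group L] [Finite L] {S Z : Subgroup L} {y : L}

namespace Ext

variable (h : Ext S Z y)
include h

theorem eta_sq (η : Z →* ℂ) (w : Z) : η w * η w = 1 := by
  rw [← map_mul, show w * w = 1 from ?_, map_one]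
  exact Subtype.ext (by simpa using congrArg Subtype.val (h.pin.sq_one ⟨w, h.Z_le w.2⟩ w.2))

theorem eta_conj (η : Z →* ℂ) (w : Z) : conj (η w) = η w := by
  rcases mul_self_eq_one_iff.1 (h.eta_sq η w) with e | e <;> simp [e]

/-- A multiplicity on `Z × 5`. -/
theorem mult_zy [Fintype Z] (η : Z →* ℂ) {ζ : ℂ} (hζ : ζ ^ 5 = 1) (j : ℕ) {χ : L → ℂ}
    (hχ : Cfsg.IsCharacter L χ) :
    ∃ M : ℤ, ∑ w : Z, ∑ i : Fin 5, η w * conj (ζ ^ ((i : ℕ) * j)) * χ ((w : L) * y ^ (i : ℕ)) =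
      20 * (M : ℂ) := by
  classical
  let f : (↥Z × Multiplicative (ZMod 5)) →* L :=
    { toFun := fun p => (p.1 : L) * y ^ (Multiplicative.toAdd p.2).val
      map_one' := by simp
      map_mul' := fun a b => by
        show ((a.1 * b.1 : Z) : L) * y ^ (Multiplicative.toAdd a.2 + Multiplicative.toAdd b.2).val = _
        rw [ZMod.val_add, h.ymod, pow_add, Subgroup.coe_mul, mul_assoc, ← mul_assoc (b.1 : L),
          ← h.central _ b.1.2, mul_assoc, ← mul_assoc (a.1 : L)] }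
  let ρ : (↥Z × Multiplicative (ZMod 5)) →* ℂ :=
    { toFun := fun p => η p.1 * ζ ^ ((Multiplicative.toAdd p.2).val * j)
      map_one' := by simp
      map_mul' := fun a b => by
        show η (a.1 * b.1) * ζ ^ ((Multiplicative.toAdd a.2 + Multiplicative.toAdd b.2).val * j) = _
        rw [ZMod.val_add, pow_mul, ← pow_eq_pow_mod _ hζ, ← pow_mul, add_mul, pow_add, map_mul]
        ring }
  have hE : Nat.card (↥Z × Multiplicative (ZMod 5)) = 20 := by
    rw [Nat.card_prod, h.card_Z, Nat.card_congr Multiplicative.toAdd, Nat.card_zmod]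
  obtain ⟨n, hn⟩ := classInner_char_nat (isCharacter_comp f hχ)
    (isCharacter_of_isIrr (isIrrCharacter_monoidHom ρ))
  refine ⟨n, ?_⟩
  rw [classInner_def, hE] at hn
  have hs : ∑ p : ↥Z × Multiplicative (ZMod 5), (χ ∘ f) p * conj (ρ p) =
      ∑ w : Z, ∑ i : Fin 5, η w * conj (ζ ^ ((i : ℕ) * j)) * χ ((w : L) * y ^ (i : ℕ)) := by
    refine (Fintype.sum_prod_type _).trans (Finset.sum_congr rfl fun w _ => ?_)
    refine Fintype.sum_equiv Multiplicative.toAdd _
      (fun i : Fin 5 => η w * conj (ζ ^ ((i : ℕ) * j)) * χ ((w : L) * y ^ (i : ℕ))) fun i => ?_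
    show χ ((w : L) * y ^ (Multiplicative.toAdd i).val) * conj (η w * ζ ^ ((Multiplicative.toAdd i).val * j)) = _
    rw [map_mul, h.eta_conj]
    show _ = η w * conj (ζ ^ ((Multiplicative.toAdd i).val * j)) * χ ((w : L) * y ^ (Multiplicative.toAdd i).val)
    ring
  rw [hs] at hn
  push_cast at hn ⊢
  linear_combination 20 * hn

/-- The coefficients of the functional of multiplicity in the extension of the big character of `S`. -/
noncomputable def coef (η : Z →* ℂ) (ζ : ℂ) (j : ℕ) (p : Z × Fin 5) : ℂ :=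
  η p.1 * ((if p.2 = 0 then 1 / 16 else 0) - conj (ζ ^ ((p.2 : ℕ) * j)) / 20)

omit h in
/-- The functional. -/
noncomputable def cfun (y : L) [Fintype Z] (η : Z →* ℂ) (ζ : ℂ) (j : ℕ) (F : L → ℂ) : ℂ :=
  ∑ p : Z × Fin 5, coef η ζ j p * F ((p.1 : L) * y ^ (p.2 : ℕ))

omit h in
theorem cfun_eq [Fintype Z] (η : Z →* ℂ) (ζ : ℂ) (j : ℕ) (F : L → ℂ) :
    cfun y η ζ j F = (∑ w : Z, η w * F (w : L)) / 16 -
      (∑ w : Z, ∑ i : Fin 5, η w * conj (ζ ^ ((i : ℕ) * j)) * F ((w : L) * y ^ (i : ℕ))) / 20 := by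
  rw [cfun, Fintype.sum_prod_type, Finset.sum_div, Finset.sum_div, ← Finset.sum_sub_distrib]
  refine Finset.sum_congr rfl fun w _ => ?_
  simp only [coef, sub_mul, mul_sub, Finset.sum_sub_distrib, Finset.sum_div]
  congr 1
  · rw [Finset.sum_eq_single (0 : Fin 5)]
    · simp; ring
    · intro i _ hi; simp [hi]
    · simp
  · exact Finset.sum_congr rfl fun i _ => by ring

theorem cfun_int [Fintype Z] {η : Z →* ℂ} (hη : η ≠ 1) {ζ : ℂ} (hζ : ζ ^ 5 = 1) (j : ℕ) {χ : L → ℂ}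
    (hχ : Cfsg.IsCharacter L χ) : ∃ n : ℤ, cfun y η ζ j χ = n := by
  classical
  haveI := Fintype.ofFinite (Z.subgroupOf S)
  set e := subgroupOfEquivOfLe h.Z_le
  obtain ⟨n, hn⟩ := h.pin.central_mult (η.comp e.toMonoidHom) (fun e' => hη (MonoidHom.ext fun w => by
    simpa using DFunLike.congr_fun e' (e.symm w))) (isCharacter_restrict S hχ)
  obtain ⟨M, hM⟩ := h.mult_zy η hζ j hχ
  refine ⟨n - M, ?_⟩
  rw [cfun_eq, hM]
  have hs : ∑ w : Z, η w * χ (w : L) = 16 * (n : ℂ) := by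
    rw [← hn]
    exact (Fintype.sum_equiv e.toEquiv _ _ fun w => rfl).symm
  rw [hs]
  push_cast
  ring

theorem cfun_norm [Fintype Z] [Fintype (Cfsg.IrrCharacter L)] (η : Z →* ℂ) {ζ : ℂ}
    (hζ : IsPrimitiveRoot ζ 5) (j : ℕ) :
    ∑ χ : Cfsg.IrrCharacter L, cfun y η ζ j (χ : L → ℂ) * conj (cfun y η ζ j (χ : L → ℂ)) = 1 := by
  classical
  simp only [cfun, map_sum, map_mul, Finset.sum_mul_sum]
  rw [Finset.sum_comm]
  simp only [Finset.sum_comm (γ := Cfsg.IrrCharacter L)]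
  have hpq : ∀ p q : Z × Fin 5, ∑ χ : Cfsg.IrrCharacter L,
      coef η ζ j p * (χ : L → ℂ) ((p.1 : L) * y ^ (p.2 : ℕ)) *
        (conj (coef η ζ j q) * conj ((χ : L → ℂ) ((q.1 : L) * y ^ (q.2 : ℕ)))) =
      if p = q then coef η ζ j p * conj (coef η ζ j p) * (if p.2 = 0 then 320 else 20) else 0 := by
    intro p q
    rw [Finset.sum_congr rfl fun χ _ => mul_mul_mul_comm _ _ _ _, ← Finset.mul_sum, second_orthogonality]
    by_cases e : p = q
    · subst e
      rw [if_pos (IsConj.refl _), if_pos rfl, h.card_cent]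
      push_cast
      rfl
    · rw [if_neg fun hc => e (h.isConj_point hζ hc), if_neg e, mul_zero]
  simp only [hpq, Finset.sum_ite_eq, Finset.mem_univ, if_true]
  rw [Fintype.sum_prod_type]
  have hterm : ∀ (w : Z) (i : Fin 5),
      coef η ζ j (w, i) * conj (coef η ζ j (w, i)) * (if i = 0 then 320 else 20) = 1 / 20 := by
    intro w i
    have hun : ζ ^ ((i : ℕ) * j) * conj (ζ ^ ((i : ℕ) * j)) = 1 := by
      rw [Complex.mul_conj', norm_pow, Complex.norm_eq_one_of_pow_eq_one hζ.pow_eq_one (by norm_num)]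
      simp
    have hη2 := h.eta_sq η w
    by_cases hi : i = 0
    · subst hi
      simp only [coef, Fin.val_zero, zero_mul, pow_zero, if_true, map_mul, map_sub, map_div₀, map_one,
        Complex.conj_ofNat, h.eta_conj]
      linear_combination (1 / 20 : ℂ) * hη2
    · simp only [coef, if_neg hi, map_mul, map_sub, map_div₀, map_zero, Complex.conj_conj,
        Complex.conj_ofNat, h.eta_conj]
      linear_combination (η w * η w / 20 : ℂ) * hun + (1 / 20 : ℂ) * hη2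
  simp only [hterm, Finset.sum_const, Finset.card_univ, ← Nat.card_eq_fintype_card, h.card_Z]
  simp
  norm_num

theorem cfun_deg [Fintype Z] [Fintype (Cfsg.IrrCharacter L)] (η : Z →* ℂ) {ζ : ℂ}
    (hζ : IsPrimitiveRoot ζ 5) (j : ℕ) :
    ∑ χ : Cfsg.IrrCharacter L, cfun y η ζ j (χ : L → ℂ) * (χ : L → ℂ) 1 = 4 := by
  classical
  simp only [cfun, Finset.sum_mul]
  rw [Finset.sum_comm]
  have h1 : ∀ χ : Cfsg.IrrCharacter L,
      (χ : L → ℂ) 1 = conj ((χ : L → ℂ) (((1 : Z) : L) * y ^ ((0 : Fin 5) : ℕ))) := fun χ => by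
    obtain ⟨d, hd⟩ := char_one_nat (irr_isCharacter χ)
    simp [hd]
  have hp : ∀ p : Z × Fin 5, ∑ χ : Cfsg.IrrCharacter L,
      coef η ζ j p * (χ : L → ℂ) ((p.1 : L) * y ^ (p.2 : ℕ)) * (χ : L → ℂ) 1 =
      if p = (1, 0) then coef η ζ j p * 320 else 0 := by
    intro p
    rw [Finset.sum_congr rfl fun χ _ => by rw [h1 χ, mul_assoc], ← Finset.mul_sum, second_orthogonality]
    by_cases e : p = (1, 0)
    · subst e
      rw [if_pos (IsConj.refl _), if_pos rfl, h.card_cent (1, 0)]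
      simp
    · rw [if_neg fun hc => e (h.isConj_point hζ (q := (1, 0)) hc), if_neg e, mul_zero]
  rw [Finset.sum_congr rfl fun p _ => hp p]
  simp only [Finset.sum_ite_eq', Finset.mem_univ, if_true, coef]
  simp
  norm_num

/-- The functional is a multiplicity. -/
theorem cfun_nat [Fintype Z] {η : Z →* ℂ} (hη : η ≠ 1) {ζ : ℂ} (hζ : IsPrimitiveRoot ζ 5) (j : ℕ)
    {A : L → ℂ} (hA : Cfsg.IsCharacter L A) : ∃ t : ℕ, cfun y η ζ j A = t := by
  classical
  haveI := Fintype.ofFinite (Cfsg.IrrCharacter L)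
  choose c hc using fun χ : Cfsg.IrrCharacter L => h.cfun_int hη hζ.pow_eq_one j (irr_isCharacter χ)
  choose d hd0 hd using fun χ : Cfsg.IrrCharacter L => irr_one_pos χ.2
  have hnorm : ∑ χ, c χ * c χ = 1 := by
    have h1 := h.cfun_norm η hζ j
    simp only [hc, map_intCast] at h1
    exact_mod_cast h1
  have hdeg : ∑ χ, c χ * (d χ : ℤ) = 4 := by
    have h1 := h.cfun_deg η hζ j
    simp only [hc, hd] at h1
    exact_mod_cast h1
  have hpos : ∀ χ, 0 ≤ c χ := by
    intro χ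
    by_contra hn
    push Not at hn
    have hzero : ∀ ψ, ψ ≠ χ → c ψ = 0 := by
      intro ψ hψ
      have h2 := Finset.sum_le_sum_of_subset_of_nonneg (f := fun ξ => c ξ * c ξ)
        (Finset.subset_univ {χ, ψ}) fun ξ _ _ => mul_self_nonneg _
      rw [Finset.sum_pair hψ.symm, hnorm] at h2
      nlinarith [mul_self_nonneg (c ψ)]
    rw [Finset.sum_eq_single χ (fun ψ _ hψ => by simp [hzero ψ hψ]) (by simp)] at hdeg
    have := hd0 χ
    nlinarith
  obtain ⟨m, rfl⟩ := char_eq_sum_nat hA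
  refine ⟨∑ χ, m χ * (c χ).toNat, ?_⟩
  simp only [cfun, Finset.sum_apply, Pi.smul_apply, smul_eq_mul, Finset.mul_sum]
  rw [Finset.sum_comm]
  push_cast
  refine Finset.sum_congr rfl fun χ _ => ?_
  have hto : ((c χ).toNat : ℂ) = (c χ : ℂ) := by exact_mod_cast Int.toNat_of_nonneg (hpos χ)
  rw [hto, ← hc χ, cfun, Finset.mul_sum]
  exact Finset.sum_congr rfl fun p _ => by ring

/-- The multiplicities of a character with few values. -/
theorem ineq {A : L → ℂ} (hA : Cfsg.IsCharacter L A) {D s k : ℂ} {f : Fin 5 → ℂ} (hD : A 1 = D)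
    (hs : ∀ w ∈ Z, w ≠ 1 → A w = s) (hk : ∀ t ∈ S, t ∉ Z → A t = k)
    (hf : ∀ w ∈ Z, w ≠ 1 → ∀ i : Fin 5, A (w * y ^ (i : ℕ)) = f i)
    {ζ : ℂ} (hζ : IsPrimitiveRoot ζ 5) (j : ℕ) :
    ∃ d : ℤ, ∑ i : Fin 5, f i * conj (ζ ^ ((i : ℕ) * j)) = 5 * (d : ℂ) ∧
      ∃ q : ℕ, 5 * D - s + 60 * k + 64 * (5 * (d : ℂ) - s) = 320 * (q : ℂ) := by
  classical
  haveI := Fintype.ofFinite L
  haveI := Fintype.ofFinite S
  haveI := Fintype.ofFinite Z
  have hcomm : ∀ a b : Z, a * b = b * a := fun a b => Subtype.ext (h.central _ b.2 _)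
  haveI := Cfsg.Agent.Blocks.Star.finite_dual hcomm
  haveI : Nontrivial (Z →* ℂ) := Finite.one_lt_card_iff_nontrivial.1 (by
    rw [Cfsg.Agent.Blocks.Star.card_dual hcomm, h.card_Z]; norm_num)
  obtain ⟨η, hη⟩ := exists_ne (1 : Z →* ℂ)
  have hη0 : ∑ w : Z, η w = 0 := Cfsg.Agent.Blocks.Star.sum_hom_zero hη
  have hsplit : ∀ (F : Z → ℂ) (c : ℂ), (∀ w : Z, w ≠ 1 → F w = c) →
      ∑ w, F w = F 1 + 3 * c ∧ ∑ w, η w * F w = F 1 - c := by
    intro F c hF
    have hF' : ∀ w : Z, F w = c + if w = 1 then F 1 - c else 0 := fun w => by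
      by_cases e : w = 1
      · subst e; simp
      · rw [hF w e, if_neg e, add_zero]
    constructor
    · rw [Finset.sum_congr rfl fun w _ => hF' w, Finset.sum_add_distrib, Finset.sum_ite_eq',
        Finset.sum_const, Finset.card_univ, ← Nat.card_eq_fintype_card, h.card_Z]
      simp; ring
    · rw [Finset.sum_congr rfl fun w _ => by rw [hF' w, mul_add, mul_ite, mul_zero],
        Finset.sum_add_distrib, ← Finset.sum_mul, hη0, zero_mul, zero_add, Finset.sum_ite_eq']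
      simp
  obtain ⟨w₀, hw₀⟩ : ∃ w : Z, w ≠ 1 := by
    haveI : Nontrivial Z := Finite.one_lt_card_iff_nontrivial.1 (by rw [h.card_Z]; norm_num)
    exact exists_ne 1
  have hne : ∀ w : Z, w ≠ 1 → (w : L) ≠ 1 := fun w hw e => hw (Subtype.ext e)
  have hf0 : f 0 = s := by
    rw [← hf _ w₀.2 (hne w₀ hw₀) 0, Fin.val_zero, pow_zero, mul_one, hs _ w₀.2 (hne w₀ hw₀)]
  -- the multiplicities
  obtain ⟨M₁, hM₁⟩ := h.mult_zy 1 hζ.pow_eq_one j hA
  obtain ⟨Me, hMe⟩ := h.mult_zy η hζ.pow_eq_one j hA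
  have hW : ∀ i : Fin 5, ∑ w : Z, A ((w : L) * y ^ (i : ℕ)) = A (y ^ (i : ℕ)) + 3 * f i ∧
      ∑ w : Z, η w * A ((w : L) * y ^ (i : ℕ)) = A (y ^ (i : ℕ)) - f i := by
    intro i
    have h1 := hsplit (fun w : Z => A ((w : L) * y ^ (i : ℕ))) (f i) fun w hw => hf _ w.2 (hne w hw) i
    simpa using h1
  have hd : ∑ i : Fin 5, f i * conj (ζ ^ ((i : ℕ) * j)) = 5 * ((M₁ - Me : ℤ) : ℂ) := by
    have e1 : ∑ w : Z, ∑ i : Fin 5,
        (1 : Z →* ℂ) w * conj (ζ ^ ((i : ℕ) * j)) * A ((w : L) * y ^ (i : ℕ)) =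
        ∑ i : Fin 5, conj (ζ ^ ((i : ℕ) * j)) * (A (y ^ (i : ℕ)) + 3 * f i) := by
      rw [Finset.sum_comm]
      refine Finset.sum_congr rfl fun i _ => ?_
      rw [← (hW i).1, Finset.mul_sum]
      exact Finset.sum_congr rfl fun w _ => by simp
    have e2 : ∑ w : Z, ∑ i : Fin 5,
        η w * conj (ζ ^ ((i : ℕ) * j)) * A ((w : L) * y ^ (i : ℕ)) =
        ∑ i : Fin 5, conj (ζ ^ ((i : ℕ) * j)) * (A (y ^ (i : ℕ)) - f i) := by
      rw [Finset.sum_comm]
      refine Finset.sum_congr rfl fun i _ => ?_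
      rw [← (hW i).2, Finset.mul_sum]
      exact Finset.sum_congr rfl fun w _ => by ring
    have e3 : ∑ i : Fin 5, f i * conj (ζ ^ ((i : ℕ) * j)) =
        ((∑ i : Fin 5, conj (ζ ^ ((i : ℕ) * j)) * (A (y ^ (i : ℕ)) + 3 * f i)) -
          ∑ i : Fin 5, conj (ζ ^ ((i : ℕ) * j)) * (A (y ^ (i : ℕ)) - f i)) / 4 := by
      rw [← Finset.sum_sub_distrib, Finset.sum_div]
      exact Finset.sum_congr rfl fun i _ => by ring
    rw [e3, ← e1, ← e2, hM₁, hMe]
    push_cast
    ring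
  refine ⟨M₁ - Me, hd, ?_⟩
  -- the linear part
  obtain ⟨ν, hν⟩ := h.exists_lin hζ.pow_eq_one j
  obtain ⟨l, hl⟩ := classInner_char_nat hA (isCharacter_of_isIrr (isIrrCharacter_monoidHom ν))
  obtain ⟨t, ht⟩ := h.cfun_nat hη hζ j hA
  refine ⟨l + t, ?_⟩
  have hS0 : ∑ x : S, A (x : L) = D + 3 * s + 60 * k := by
    have h1 := h.pin.sum_three (ψ := fun x : S => A (x : L)) (D := D) (s := s) (k := k) hD
      (fun w hw hw1 => hs _ hw fun e => hw1 (Subtype.ext e)) (fun x hx => hk _ x.2 hx)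
      (fun _ => 1) (fun _ _ => rfl)
    simp only [mul_one, Finset.sum_const, Finset.card_univ, ← Nat.card_eq_fintype_card, h.pin.card_P,
      nsmul_eq_mul, Nat.cast_ofNat] at h1
    linear_combination h1
  have hl' : ∑ i : Fin 5, conj (ζ ^ ((i : ℕ) * j)) *
      (if i = 0 then D + 3 * s + 60 * k else 16 * (A (y ^ (i : ℕ)) + 3 * f i)) = 320 * (l : ℂ) := by
    rw [classInner_def, h.card_L, h.sum_eq] at hl
    rw [← hl, Nat.cast_ofNat, ← mul_assoc, mul_inv_cancel₀ (by norm_num : (320 : ℂ) ≠ 0), one_mul]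
    refine Finset.sum_congr rfl fun i _ => ?_
    rw [Finset.sum_congr rfl fun x _ => by rw [hν _ x.2, mul_comm], ← Finset.mul_sum]
    by_cases hi : i = 0
    · subst hi; simp [hS0]
    · rw [if_neg hi, h.sum_coset (char_isClassFunction hA) (by
        have := i.2
        have : (i : ℕ) ≠ 0 := fun e => hi (Fin.ext e)
        omega), (hW i).1]
  have ht' : (20 * (D - s) : ℂ) - 16 * ∑ i : Fin 5, conj (ζ ^ ((i : ℕ) * j)) * (A (y ^ (i : ℕ)) - f i) =
      320 * (t : ℂ) := by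
    rw [← ht, cfun_eq]
    have e0 : ∑ w : Z, η w * A (w : L) = D - s := by
      have h1 := (hW 0).2
      simp only [Fin.val_zero, pow_zero, mul_one, hf0, hD] at h1
      exact h1
    have e1 : ∑ w : Z, ∑ i : Fin 5, η w * conj (ζ ^ ((i : ℕ) * j)) * A ((w : L) * y ^ (i : ℕ)) =
        ∑ i : Fin 5, conj (ζ ^ ((i : ℕ) * j)) * (A (y ^ (i : ℕ)) - f i) := by
      rw [Finset.sum_comm]
      refine Finset.sum_congr rfl fun i _ => ?_
      rw [← (hW i).2, Finset.mul_sum]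
      exact Finset.sum_congr rfl fun w _ => by ring
    rw [e0, e1]
    ring
  push_cast
  have hd' := hd
  simp only [Fin.sum_univ_five] at hl' ht' hd'
  simp only [Fin.val_zero, zero_mul, pow_zero, map_one, one_mul, mul_one, Fin.reduceEq, if_true,
    if_false, hD, hf0, add_zero] at hl' ht' hd'
  push_cast at hd'
  linear_combination hl' + ht' - 64 * hd'

end Ext

end Cfsg.Agent.UFourRows
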