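import Cfsg.Agent.Lib.Characters.Kernel
import Cfsg.Agent.Lib.Characters.Schur
import Cfsg.Agent.Lib.Blocks.Star.Dual

/-!
Two multiplicities in a group of type U3(4) of order 64.
-/

set_option autoImplicit false
set_option linter.all false

namespace Cfsg.Agent.UFourRows

open Subgroup Cfsg.Agent.Characters
open scoped ComplexConjugate

universe u

variable {P : Type u} [Group P] [Finite P]

/-- An irreducible character on a translate by a central element. -/
theorem exists_central_scalar {ξ : P → ℂ} (hξ : Cfsg.IsIrrCharacter P ξ) {z : P}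
    (hz : ∀ g : P, g * z = z * g) : ∃ ω : ℂ, ∀ g : P, ξ (z * g) = ω * ξ g := by
  obtain ⟨d, ρ, hρ, rfl⟩ := hξ
  obtain ⟨k, hk⟩ := schur_scalar ρ (ρ z) fun g v => by
    rw [← Module.End.mul_apply, ← Module.End.mul_apply, ← map_mul, ← map_mul, hz g]
  exact ⟨k, fun g => by simp [Representation.character, hk, Module.End.mul_eq_comp,
    LinearMap.smul_comp]⟩

/-- A group of order 64 with the central four-group `W` of all commutators. -/
structure Pin (W : Subgroup P) : Prop where
  central : ∀ w ∈ W, ∀ t : P, t * w = w * t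
  sq_one : ∀ w ∈ W, w * w = 1
  card_P : Nat.card P = 64
  card_W : Nat.card W = 4
  comm : ∀ s t : P, t * s * t⁻¹ * s⁻¹ ∈ W
  conj_full : ∀ t : P, t ∉ W → ∀ w ∈ W, ∃ s : P, s * t * s⁻¹ = t * w

namespace Pin

variable {W : Subgroup P} (h : Pin W)
include h

theorem normal : W.Normal :=
  ⟨fun w hw t => by rw [h.central w hw t, mul_inv_cancel_right]; exact hw⟩

theorem exists_W : ∃ w ∈ W, w ≠ (1 : P) := by
  haveI : Nontrivial W := Finite.one_lt_card_iff_nontrivial.1 (by rw [h.card_W]; norm_num)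
  obtain ⟨w, hw⟩ := exists_ne (1 : W)
  exact ⟨w, w.2, fun e => hw (Subtype.ext e)⟩

theorem sum_W [DecidableEq P] [Fintype W] (c d : ℂ) : ∑ w : W, (if (w : P) = 1 then c else d) = c + 3 * d := by
  classical
  rw [← Finset.add_sum_erase _ _ (Finset.mem_univ (1 : W)), if_pos (OneMemClass.coe_one W),
    Finset.sum_congr rfl (g := fun _ => d) fun (w : W) hw =>
      if_neg fun e : (w : P) = 1 => (Finset.mem_erase.1 hw).1 (Subtype.ext e),
    Finset.sum_const, Finset.card_erase_of_mem (Finset.mem_univ _), Finset.card_univ,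
    ← Nat.card_eq_fintype_card, h.card_W, nsmul_eq_mul]
  norm_num

/-- The sum of a function with three values against a function trivial on `W`. -/
theorem sum_three [Fintype P] {ψ : P → ℂ} {D s k : ℂ} (hD : ψ 1 = D)
    (hs : ∀ w ∈ W, w ≠ 1 → ψ w = s) (hk : ∀ t ∉ W, ψ t = k) (μ : P → ℂ) (hμ : ∀ w ∈ W, μ w = 1) :
    ∑ t, ψ t * μ t = (D + 3 * s - 4 * k) + k * ∑ t, μ t := by
  classical
  have h1 : ∀ t : P, ψ t * μ t = k * μ t +
      (if t ∈ W then (if t = 1 then D - k else s - k) else 0) := by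
    intro t
    by_cases ht : t ∈ W
    · rw [if_pos ht, hμ t ht]
      by_cases ht1 : t = 1
      · rw [if_pos ht1, ht1, hD]; ring
      · rw [if_neg ht1, hs t ht ht1]; ring
    · rw [if_neg ht, hk t ht]; ring
  haveI : Fintype W := Fintype.ofFinite W
  rw [Finset.sum_congr rfl fun t _ => h1 t, Finset.sum_add_distrib, ← Finset.mul_sum,
    ← Finset.sum_filter,
    Finset.sum_subtype (p := fun t => t ∈ W) (Finset.univ.filter fun t => t ∈ W) (fun t => by simp) _,
    h.sum_W]
  ring

theorem linear_mult {ψ : P → ℂ} (hψ : Cfsg.IsCharacter P ψ) {D s k : ℂ} (hD : ψ 1 = D)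
    (hs : ∀ w ∈ W, w ≠ 1 → ψ w = s) (hk : ∀ t ∉ W, ψ t = k) :
    ∃ a m : ℕ, D + 3 * s + 60 * k = 64 * (a : ℂ) ∧ D + 3 * s - 4 * k = 64 * (m : ℂ) := by
  classical
  haveI := Fintype.ofFinite P
  haveI := h.normal
  have hVcard : Nat.card (P ⧸ W) = 16 := by
    have h1 := Subgroup.card_eq_card_quotient_mul_card_subgroup W
    rw [h.card_P, h.card_W] at h1
    omega
  have hcomm : ∀ a b : P ⧸ W, a * b = b * a := by
    intro a b
    obtain ⟨s, rfl⟩ := QuotientGroup.mk_surjective a
    obtain ⟨t, rfl⟩ := QuotientGroup.mk_surjective b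
    rw [← QuotientGroup.mk_mul, ← QuotientGroup.mk_mul, QuotientGroup.eq]
    have h1 := h.comm s⁻¹ t⁻¹
    rw [show (s * t)⁻¹ * (t * s) = t⁻¹ * s⁻¹ * t * s by group]
    simpa using h1
  haveI := Cfsg.Agent.Blocks.Star.finite_dual hcomm
  have h16 : Nat.card ((P ⧸ W) →* ℂ) = 16 := by
    rw [Cfsg.Agent.Blocks.Star.card_dual hcomm, hVcard]
  haveI : Nontrivial ((P ⧸ W) →* ℂ) := Finite.one_lt_card_iff_nontrivial.1 (by rw [h16]; norm_num)
  obtain ⟨μ, hμ⟩ := exists_ne (1 : (P ⧸ W) →* ℂ)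
  set ν : P →* ℂ := μ.comp (QuotientGroup.mk' W) with hν
  obtain ⟨a, ha⟩ := classInner_char_nat hψ (isCharacter_one (G := P))
  obtain ⟨m, hm⟩ := classInner_char_nat hψ (isCharacter_of_isIrr (isIrrCharacter_monoidHom ν))
  refine ⟨a, m, ?_, ?_⟩
  · rw [classInner_def, h.card_P] at ha
    simp only [map_one] at ha
    rw [h.sum_three hD hs hk (fun _ => 1) fun _ _ => rfl, Finset.sum_const, Finset.card_univ,
      ← Nat.card_eq_fintype_card, h.card_P] at ha
    simp only [nsmul_eq_mul, mul_one, Nat.cast_ofNat] at ha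
    linear_combination 64 * ha
  · have hWν : ∀ w ∈ W, ν w = 1 := fun w hw => by
      rw [hν, MonoidHom.comp_apply, QuotientGroup.mk'_apply,
        (QuotientGroup.eq_one_iff w).2 hw, map_one]
    have hne : ν ≠ 1 := fun e => hμ (MonoidHom.ext fun q => by
      obtain ⟨t, rfl⟩ := QuotientGroup.mk_surjective q
      exact DFunLike.congr_fun e t)
    rw [classInner_def, h.card_P] at hm
    rw [h.sum_three hD hs hk (fun t => conj (ν t)) fun w hw => by rw [hWν w hw, map_one],
      ← map_sum, Cfsg.Agent.Blocks.Star.sum_hom_zero hne, map_zero, mul_zero, add_zero] at hm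
    simp only [Nat.cast_ofNat] at hm
    linear_combination 64 * hm

theorem central_irr (η : W →* ℂ) (hη : η ≠ 1) [Fintype W] {ξ : P → ℂ} (hξ : Cfsg.IsIrrCharacter P ξ) :
    ∃ n : ℤ, ∑ w : W, η w * ξ w = 16 * (n : ℂ) := by
  classical
  haveI := Fintype.ofFinite P
  obtain ⟨d, hd0, hd⟩ := irr_one_pos hξ
  have hd' : (d : ℂ) ≠ 0 := Nat.cast_ne_zero.2 hd0.ne'
  choose ω hω using fun w : W =>
    exists_central_scalar hξ (z := (w : P)) fun t => h.central w w.2 t
  have hω1 : ∀ w : W, ξ w = ω w * d := fun w => by rw [← hd, ← hω w 1, mul_one]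
  set f : W →* ℂ :=
    { toFun := fun w => η w * ω w
      map_one' := by
        have h1 := hω1 1
        rw [OneMemClass.coe_one, hd] at h1
        rw [map_one, one_mul]
        exact (mul_right_cancel₀ hd' (by rw [one_mul, ← h1]))
      map_mul' := fun a b => by
        have h1 := hω1 (a * b)
        rw [Subgroup.coe_mul, hω a b, hω1 b] at h1
        rw [map_mul, mul_right_cancel₀ hd' (show ω (a * b) * d = ω a * ω b * d by rw [← h1]; ring)]
        ring } with hf
  have hsum : ∑ w : W, η w * ξ w = (∑ w : W, f w) * d := by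
    rw [Finset.sum_mul]
    exact Finset.sum_congr rfl fun w _ => by rw [hω1]; show η w * (ω w * d) = η w * ω w * d; ring
  by_cases hf1 : f = 1
  swap
  · exact ⟨0, by rw [hsum, Cfsg.Agent.Blocks.Star.sum_hom_zero hf1]; simp⟩
  obtain ⟨w₀, hw₀⟩ : ∃ w : W, η w ≠ 1 := by
    by_contra! hc
    exact hη (MonoidHom.ext hc)
  have hηω : ∀ w, η w * ω w = 1 := fun w => DFunLike.congr_fun hf1 w
  have hω2 : ω w₀ ≠ 1 := fun e => hw₀ (by simpa [e] using hηω w₀)
  have hvan : ∀ t : P, t ∉ W → ξ t = 0 := by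
    intro t ht
    obtain ⟨s, hs⟩ := h.conj_full t ht w₀ w₀.2
    have h1 : ξ t = ω w₀ * ξ t := by
      rw [← hω w₀ t, ← h.central w₀ w₀.2 t, ← hs, char_isClassFunction (isCharacter_of_isIrr hξ) t s]
    by_contra h0
    exact hω2 ((mul_eq_right₀ h0).1 h1.symm)
  have hun : ∀ w : W, ω w * conj (ω w) = 1 := by
    intro w
    have hη2 : η w * η w = 1 := by
      rw [← map_mul, show w * w = 1 from Subtype.ext (h.sq_one w w.2), map_one]
    have hωη : ω w = η w := by
      calc ω w = η w * η w * ω w := by rw [hη2, one_mul]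
        _ = η w := by rw [mul_assoc, hηω, mul_one]
    rw [hωη]
    rcases mul_self_eq_one_iff.1 hη2 with e | e <;> simp [e]
  have h64 : (4 : ℂ) * (d * d) = 64 := by
    have h1 := classInner_isIrr_self hξ
    rw [classInner_def, h.card_P, inv_mul_eq_iff_eq_mul₀ (by norm_num),
      ← Finset.sum_filter_of_ne (p := fun t => t ∈ W) (fun t _ hne => by
        by_contra ht; exact hne (by rw [hvan t ht, zero_mul])),
      Finset.sum_subtype (p := fun t => t ∈ W) (Finset.univ.filter fun t => t ∈ W) (fun t => by simp) _] at h1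
    rw [Finset.sum_congr rfl (g := fun _ => (d : ℂ) * d) fun w _ => by
      show ξ (w : P) * conj (ξ (w : P)) = _
      rw [hω1, map_mul, Complex.conj_natCast, show ω w * d * (conj (ω w) * d) = ω w * conj (ω w) * (d * d) by ring,
        hun, one_mul]] at h1
    rw [Finset.sum_const, Finset.card_univ, ← Nat.card_eq_fintype_card, h.card_W, nsmul_eq_mul] at h1
    simpa using h1
  have hd4 : d = 4 := by
    have h2 : 4 * (d * d) = 64 := by exact_mod_cast h64
    nlinarith
  refine ⟨1, ?_⟩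
  rw [hsum, hf1, hd4]
  simp [← Nat.card_eq_fintype_card, h.card_W]
  norm_num

theorem central_mult (η : W →* ℂ) (hη : η ≠ 1) [Fintype W] {ψ : P → ℂ} (hψ : Cfsg.IsCharacter P ψ) :
    ∃ n : ℤ, ∑ w : W, η w * ψ w = 16 * (n : ℂ) := by
  haveI := Fintype.ofFinite (Cfsg.IrrCharacter P)
  obtain ⟨m, rfl⟩ := char_eq_sum_nat hψ
  choose n hn using fun ξ : Cfsg.IrrCharacter P => h.central_irr η hη ξ.2
  refine ⟨∑ ξ, (m ξ : ℤ) * n ξ, ?_⟩
  push_cast
  simp only [Finset.sum_apply, Pi.smul_apply, smul_eq_mul, Finset.mul_sum]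
  rw [Finset.sum_comm]
  refine Finset.sum_congr rfl fun ξ _ => ?_
  rw [Finset.sum_congr rfl fun w _ => mul_left_comm (η w) (m ξ : ℂ) _, ← Finset.mul_sum, hn ξ]
  ring

end Pin

end Cfsg.Agent.UFourRows
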