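import Cfsg.Agent.Lib.CIT.UFourGroup
import Cfsg.Prelude.Def_Blocks

/-!
Local data and principal block columns for a Sylow 2-subgroup of type U3(4) with a 5-element in C(Z): interfaces.
-/

set_option autoImplicit false
set_option linter.all false

namespace Cfsg.Agent.UFourRows

open Subgroup Cfsg.Agent.CIT
open scoped ComplexConjugate

universe u

variable {G : Type u} [Group G] [Finite G]

/-- The local structure: `C(z) = O z · S · ⟨y⟩`. -/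
structure LocalFive (S : Sylow 2 G) (Z : Subgroup G) (O : G → Subgroup G) (y : G) : Prop where
  sylow : UFourSylow S Z
  y_pow : ∀ z ∈ Z, z ≠ 1 → y ^ 5 ∈ O z
  y_central : ∀ z ∈ Z, y * z = z * y
  y_norm : y ∈ normalizer ((S : Subgroup G) : Set G)
  y_free : ∀ s ∈ (S : Subgroup G), y * s * y⁻¹ * s⁻¹ ∈ Z → s ∈ Z
  core_le : ∀ z ∈ Z, z ≠ 1 → O z ≤ centralizer ({z} : Set G)
  core_odd : ∀ z ∈ Z, z ≠ 1 → Odd (Nat.card (O z))
  core_normal : ∀ z ∈ Z, z ≠ 1 → centralizer ({z} : Set G) ≤ normalizer (O z : Set G)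
  decomp : ∀ z ∈ Z, z ≠ 1 → centralizer ({z} : Set G) ≤ O z ⊔ ((S : Subgroup G) ⊔ zpowers y)
  core_inter : ∀ z ∈ Z, z ≠ 1 → ∀ w ∈ Z, w ≠ 1 → O z ⊓ centralizer ({w} : Set G) ≤ O w
  rotate : ∀ z ∈ Z, z ≠ 1 → ∀ w ∈ Z, w ≠ 1 →
    ∃ g : G, g * z * g⁻¹ = w ∧ g * y * g⁻¹ * y⁻¹ ∈ O w
  one_class : ∀ s ∈ (S : Subgroup G), ∀ t ∈ (S : Subgroup G), s ∉ Z → t ∉ Z → IsConj s t

open scoped Classical in
/-- The principal block, as a finite set. -/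
noncomputable def prinSet (M : Ideal Cfsg.AlgInt) (G : Type u) [Group G] [Fintype (Cfsg.IrrCharacter G)] :
    Finset (Cfsg.IrrCharacter G) :=
  Finset.univ.filter fun χ => χ ∈ Cfsg.principalBlock M G

/-- The columns of the principal block at `z y^i` and at an element `s` of order four. -/
structure Columns [Fintype (Cfsg.IrrCharacter G)] (M : Ideal Cfsg.AlgInt) (y z s : G) : Prop where
  gram : ∀ i j : Fin 5, ∑ χ ∈ prinSet M G, (χ : G → ℂ) (z * y ^ (i : ℕ)) * conj ((χ : G → ℂ) (z * y ^ (j : ℕ))) =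
    if i = j then (if i = 0 then 320 else 20) else 0
  norm_s : ∑ χ ∈ prinSet M G, (χ : G → ℂ) s * conj ((χ : G → ℂ) s) = 16
  mixed : ∀ i : Fin 5, ∑ χ ∈ prinSet M G, (χ : G → ℂ) (z * y ^ (i : ℕ)) * conj ((χ : G → ℂ) s) = 0
  deg_z : ∀ i : Fin 5, ∑ χ ∈ prinSet M G, (χ : G → ℂ) 1 * (χ : G → ℂ) (z * y ^ (i : ℕ)) = 0
  deg_s : ∑ χ ∈ prinSet M G, (χ : G → ℂ) 1 * (χ : G → ℂ) s = 0
  mult_zy : ∀ i : Fin 5, i ≠ 0 →
    ∑ χ ∈ prinSet M G, (χ : G → ℂ) z ^ 2 / (χ : G → ℂ) 1 * (χ : G → ℂ) (z * y ^ (i : ℕ)) = 0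
  mult_z : ∃ c : ℝ, 0 < c ∧
    ∑ χ ∈ prinSet M G, (χ : G → ℂ) z ^ 2 / (χ : G → ℂ) 1 * (χ : G → ℂ) z = (c : ℂ)
  mult_s : ∑ χ ∈ prinSet M G, (χ : G → ℂ) z ^ 2 / (χ : G → ℂ) 1 * (χ : G → ℂ) s = 0

/-- Members of the principal block are constant on the cosets of `O z` at elements of even order. -/
def SingularConst [Fintype (Cfsg.IrrCharacter G)] (M : Ideal Cfsg.AlgInt) (S : Sylow 2 G) (Z : Subgroup G)
    (O : G → Subgroup G) (y z : G) : Prop :=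
  ∀ χ ∈ prinSet M G, ∀ q ∈ O z,
    (∀ u ∈ Z, u ≠ 1 → ∀ i : ℕ, (χ : G → ℂ) (u * y ^ i * q) = (χ : G → ℂ) (u * y ^ i)) ∧
      ∀ s ∈ (S : Subgroup G), s ∉ Z → (χ : G → ℂ) (s * q) = (χ : G → ℂ) s

end Cfsg.Agent.UFourRows
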