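import Cfsg.Agent.Lib.UFourRows.Average
import Cfsg.Agent.Lib.UFourRows.Ineq
import Cfsg.Agent.Lib.UFourRows.Setup
import Cfsg.Agent.Lib.CIT.UFourBlock

/-!
The integers attached to a member of the principal block, and their inequalities.
-/

set_option autoImplicit false
set_option linter.all false

namespace Cfsg.Agent.UFourRows

open Subgroup Cfsg.Agent.Characters Cfsg.Agent.CIT
open scoped ComplexConjugate

universe u

variable {G : Type u} [Group G] [Finite G] {S : Sylow 2 G} {Z : Subgroup G} {O : G → Subgroup G} {y z : G}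

namespace LocalFive

variable (h : LocalFive S Z O y)
include h

theorem mem_centralizer_y (hz : z ∈ Z) : y ∈ centralizer ({z} : Set G) :=
  mem_centralizer_singleton_iff.2 (h.y_central z hz)

theorem le_centralizer (hz : z ∈ Z) : (S : Subgroup G) ≤ centralizer ({z} : Set G) :=
  UFour.le_centralizer h.sylow hz

theorem pin : Pin (Z.subgroupOf (S : Subgroup G)) where
  central := fun w hw t => Subtype.ext (h.sylow.central _ hw _ t.2).symm
  sq_one := fun w hw => Subtype.ext (UFour.mul_self_eq_one h.sylow hw)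
  card_P := h.sylow.card_S
  card_W := by rw [Nat.card_congr (subgroupOfEquivOfLe h.sylow.Z_le).toEquiv, h.sylow.card_Z]
  comm := fun s t => UFour.comm_mem h.sylow s.2 t.2
  conj_full := fun t ht w hw => by
    obtain ⟨s, hs, e⟩ := h.sylow.conj_full t t.2 ht w hw
    exact ⟨⟨s, hs⟩, Subtype.ext e⟩

/-- `C(z) / O z` is an extension of `S` by five. -/
theorem ext (hz : z ∈ Z) (hz1 : z ≠ 1) [((O z).subgroupOf (centralizer ({z} : Set G))).Normal]
    (f : (S : Subgroup G) →* centralizer ({z} : Set G) ⧸ (O z).subgroupOf (centralizer ({z} : Set G)))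
    (hf : f = (QuotientGroup.mk' _).comp (inclusion (h.le_centralizer hz))) :
    Function.Injective f ∧ Ext f.range ((Z.subgroupOf (S : Subgroup G)).map f)
      (QuotientGroup.mk' _ ⟨y, h.mem_centralizer_y hz⟩) := by
  set C := centralizer ({z} : Set G) with hC
  set N := (O z).subgroupOf C with hN
  have hfx : ∀ t : (S : Subgroup G), f t = QuotientGroup.mk' N (inclusion (h.le_centralizer hz) t) :=
    fun t => by rw [hf]; rfl
  have hinj : Function.Injective f := by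
    rw [injective_iff_map_eq_one]
    intro t ht
    rw [hfx, QuotientGroup.mk'_apply, QuotientGroup.eq_one_iff, hN, mem_subgroupOf] at ht
    exact Subtype.ext (UFour.eq_one_of_mem_odd (h.core_odd z hz hz1) ht t.2)
  set yq : C ⧸ N := QuotientGroup.mk' N ⟨y, h.mem_centralizer_y hz⟩ with hyq
  have hrange : ∀ g ∈ f.range, ∃ t : (S : Subgroup G), f t = g := fun g hg => hg
  have hyn : ∀ t : (S : Subgroup G), ∃ t' : (S : Subgroup G),
      (t' : G) = y * t * y⁻¹ ∧ f t' = yq * f t * yq⁻¹ := by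
    intro t
    refine ⟨⟨y * t * y⁻¹, (mem_normalizer_iff.1 h.y_norm _).1 t.2⟩, rfl, ?_⟩
    rw [hfx, hfx, hyq, ← map_inv, ← map_mul, ← map_mul]
    congr 1
  have hy5 : yq ^ 5 = 1 := by
    rw [hyq, ← map_pow, QuotientGroup.mk'_apply, QuotientGroup.eq_one_iff, hN, mem_subgroupOf]
    simpa using h.y_pow z hz hz1
  have hgen : ∀ g : C ⧸ N, ∃ t ∈ f.range, ∃ i : ℕ, g = t * yq ^ i := by
    intro g
    obtain ⟨c, rfl⟩ := QuotientGroup.mk'_surjective N g
    have hK : (S : Subgroup G) ⊔ zpowers y ≤ C :=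
      sup_le (h.le_centralizer hz) (zpowers_le.2 (h.mem_centralizer_y hz))
    have h1 : (c : G) ∈ O z ⊔ ((S : Subgroup G) ⊔ zpowers y) := h.decomp z hz hz1 c.2
    rw [← SetLike.mem_coe, Subgroup.coe_mul_of_right_le_normalizer_left _ _
      (hK.trans (h.core_normal z hz hz1))] at h1
    obtain ⟨o, ho, k, hk, hok⟩ := h1
    rw [SetLike.mem_coe, ← SetLike.mem_coe, Subgroup.coe_mul_of_right_le_normalizer_left _ _
      (zpowers_le.2 h.y_norm)] at hk
    obtain ⟨t, ht, _, ⟨n, rfl⟩, rfl⟩ := hk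
    refine ⟨f ⟨t, ht⟩, ⟨_, rfl⟩, (n % 5).toNat, ?_⟩
    have hn : yq ^ n = yq ^ (n % 5).toNat := by
      rw [← zpow_natCast, Int.toNat_of_nonneg (Int.emod_nonneg n (by norm_num))]
      exact zpow_eq_zpow_emod' n hy5
    rw [← hn, hfx, hyq, ← map_zpow, ← map_mul]
    have hkC : t * y ^ n ∈ C :=
      mul_mem (h.le_centralizer hz ht) (zpow_mem (h.mem_centralizer_y hz) n)
    have hoC : o ∈ C := h.core_le z hz hz1 ho
    refine ((QuotientGroup.mk'_eq_mk' N).2
      ⟨⟨(t * y ^ n)⁻¹ * o * (t * y ^ n), mul_mem (mul_mem (inv_mem hkC) hoC) hkC⟩, ?_, ?_⟩).symm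
    · rw [hN, mem_subgroupOf]
      have := (mem_normalizer_iff.1 (h.core_normal z hz hz1 (inv_mem hkC)) o).1 ho
      rwa [inv_inv] at this
    · apply Subtype.ext
      simp only [Subgroup.coe_mul, SubgroupClass.coe_zpow, Subgroup.coe_inclusion]
      rw [← hok]
      group
  have hcent : ∀ w ∈ (Z.subgroupOf (S : Subgroup G)).map f, ∀ g : C ⧸ N, g * w = w * g := by
    rintro _ ⟨w, hw, rfl⟩ g
    obtain ⟨t, ht, i, rfl⟩ := hgen g
    obtain ⟨t', rfl⟩ := ht
    have h1 : f t' * f w = f w * f t' := by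
      rw [← map_mul, ← map_mul]
      exact congrArg f (Subtype.ext (h.sylow.central w hw t' t'.2).symm)
    have h2 : Commute yq (f w) := by
      rw [hfx, hyq]
      show _ * _ = _ * _
      rw [← map_mul, ← map_mul]
      congr 1
      exact Subtype.ext (h.y_central w hw)
    calc f t' * yq ^ i * f w = f t' * f w * yq ^ i := by rw [mul_assoc, (h2.pow_left i).eq, ← mul_assoc]
      _ = _ := by rw [h1, mul_assoc]
  refine ⟨hinj,
    { Z_le := map_le_range _ _
      card_Z := by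
        rw [card_map_of_injective hinj]
        exact h.pin.card_W
      central := hcent
      pin := ?_
      y_pow := hy5
      y_norm := ?_
      y_free := ?_
      gen := hgen }⟩
  · refine
    { central := fun w hw t => Subtype.ext (hcent _ hw _)
      sq_one := ?_
      card_P := by rw [← Nat.card_congr (MonoidHom.ofInjective hinj).toEquiv]; exact h.sylow.card_S
      card_W := by
        rw [Nat.card_congr (subgroupOfEquivOfLe (map_le_range _ _)).toEquiv, card_map_of_injective hinj]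
        exact h.pin.card_W
      comm := ?_
      conj_full := ?_ }
    · rintro ⟨_, t, rfl⟩ hw
      obtain ⟨w, hw, e⟩ := hw
      apply Subtype.ext
      show f t * f t = 1
      rw [← hinj e, ← map_mul, show w * w = 1 from h.pin.sq_one w hw, map_one]
    · rintro ⟨_, a, rfl⟩ ⟨_, b, rfl⟩
      exact ⟨_, h.pin.comm a b, by simp⟩
    · rintro ⟨_, a, rfl⟩ ha ⟨_, b, rfl⟩ hb
      obtain ⟨w, hw, e⟩ := hb
      have haZ : a ∉ Z.subgroupOf (S : Subgroup G) := fun hh => ha ⟨a, hh, rfl⟩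
      obtain ⟨s, hs⟩ := h.pin.conj_full a haZ w hw
      refine ⟨⟨f s, s, rfl⟩, Subtype.ext ?_⟩
      show f s * f a * (f s)⁻¹ = f a * f b
      rw [← map_inv, ← map_mul, ← map_mul, hs, map_mul, hinj e]
  · rintro _ ⟨t, rfl⟩
    obtain ⟨t', -, e⟩ := hyn t
    exact ⟨t', e⟩
  · rintro _ ⟨t, rfl⟩ ⟨w, hw, e⟩
    obtain ⟨t', ht', e'⟩ := hyn t
    rw [← e', ← map_inv, ← map_mul] at e
    have h1 := hinj e
    refine ⟨t, h.y_free t t.2 ?_, rfl⟩
    rw [h1, SetLike.mem_coe, mem_subgroupOf] at hw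
    simpa [ht'] using hw

end LocalFive

open scoped Classical in
theorem mem_prinSet [Fintype (Cfsg.IrrCharacter G)] {M : Ideal Cfsg.AlgInt} {χ : Cfsg.IrrCharacter G} :
    χ ∈ prinSet M G ↔ χ ∈ Cfsg.principalBlock M G := by simp [prinSet]

/-- The values at `z y^i`. -/
def fval (χ : G → ℂ) (z y : G) (i : Fin 5) : ℂ := χ (z * y ^ (i : ℕ))

section Values

variable [Fintype (Cfsg.IrrCharacter G)] {M : Ideal Cfsg.AlgInt} (h : LocalFive S Z O y)
  (hcst : ∀ w ∈ Z, w ≠ 1 → SingularConst M S Z O y w)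
include h hcst

theorem value_periodic {χ : Cfsg.IrrCharacter G} (hχ : χ ∈ prinSet M G) (hz : z ∈ Z) (hz1 : z ≠ 1)
    (n : ℕ) : (χ : G → ℂ) (z * y ^ n) = (χ : G → ℂ) (z * y ^ (n % 5)) := by
  have hq : (y ^ 5) ^ (n / 5) ∈ O z := pow_mem (h.y_pow z hz hz1) _
  rw [← (hcst z hz hz1 χ hχ _ hq).1 z hz hz1 (n % 5), mul_assoc, ← pow_mul, ← pow_add, Nat.mod_add_div]

theorem value_indep {χ : Cfsg.IrrCharacter G} (hχ : χ ∈ prinSet M G) {w : G} (hz : z ∈ Z) (hz1 : z ≠ 1)
    (hw : w ∈ Z) (hw1 : w ≠ 1) (n : ℕ) : (χ : G → ℂ) (w * y ^ n) = (χ : G → ℂ) (z * y ^ n) := by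
  obtain ⟨g, hg, hgy⟩ := h.rotate z hz hz1 w hw hw1
  set o := g * y * g⁻¹ * y⁻¹ with ho
  have hgy' : g * y * g⁻¹ = o * y := by rw [ho]; group
  have hpow : ∃ o' ∈ O w, (o * y) ^ n = y ^ n * o' := by
    induction n with
    | zero => exact ⟨1, one_mem _, by simp⟩
    | succ n ih =>
      obtain ⟨o', ho', e⟩ := ih
      refine ⟨y⁻¹ * (o' * o) * y, ?_, by rw [pow_succ, e, pow_succ]; group⟩
      have := (mem_normalizer_iff.1 (h.core_normal w hw hw1 (inv_mem (h.mem_centralizer_y hw))) (o' * o)).1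
        (mul_mem ho' hgy)
      rwa [inv_inv] at this
  obtain ⟨o', ho', e⟩ := hpow
  have h2 : g * (z * y ^ n) * g⁻¹ = w * y ^ n * o' := by
    rw [conj_mul.symm, hg, ← conj_pow, hgy', e, mul_assoc]
  rw [← irr_isClassFunction χ (z * y ^ n) g, h2]
  exact ((hcst w hw hw1 χ hχ o' ho').1 w hw hw1 n).symm

theorem value_Z {χ : Cfsg.IrrCharacter G} (hχ : χ ∈ prinSet M G) {w : G} (hz : z ∈ Z) (hz1 : z ≠ 1)
    (hw : w ∈ Z) (hw1 : w ≠ 1) : (χ : G → ℂ) w = (χ : G → ℂ) z := by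
  simpa using value_indep h hcst hχ hz hz1 hw hw1 0

theorem value_outside {χ : Cfsg.IrrCharacter G} {s t : G} (hs : s ∈ (S : Subgroup G)) (hsZ : s ∉ Z)
    (ht : t ∈ (S : Subgroup G)) (htZ : t ∉ Z) : (χ : G → ℂ) t = (χ : G → ℂ) s := by
  obtain ⟨g, hg⟩ := isConj_iff.1 (h.one_class s hs t ht hsZ htZ)
  rw [← hg, irr_isClassFunction]

/-- The integers of one member of the principal block. -/
theorem exists_row {χ : Cfsg.IrrCharacter G} (hχ : χ ∈ prinSet M G) (hz : z ∈ Z) (hz1 : z ≠ 1)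
    {s : G} (hs : s ∈ (S : Subgroup G)) (hsZ : s ∉ Z) {ζ : ℂ} (hζ : IsPrimitiveRoot ζ 5) :
    ∃ (D sv kv m p : ℤ) (d : Fin 5 → ℤ), 0 < D ∧ (χ : G → ℂ) 1 = (D : ℂ) ∧ (χ : G → ℂ) z = (sv : ℂ) ∧
      (χ : G → ℂ) s = (kv : ℂ) ∧ D + 3 * sv - 4 * kv = 64 * m ∧ sv - kv = 4 * p ∧
      (∀ j : Fin 5, ∑ i : Fin 5, fval (χ : G → ℂ) z y i * conj (ζ ^ ((i : ℕ) * (j : ℕ))) = 5 * (d j : ℂ)) ∧
      ((∃ q ∈ O z, (χ : G → ℂ) q ≠ (χ : G → ℂ) 1) →
        1 ≤ m ∧ 1 ≤ m + kv ∧ 4 ≤ 4 * m - p ∧ ∀ j, 1 + (p - d j) ≤ m) := by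
  classical
  set C := centralizer ({z} : Set G) with hC
  set N := (O z).subgroupOf C with hN
  haveI hNn : N.Normal := ⟨fun x hx g => (mem_normalizer_iff.1 (h.core_normal z hz hz1 g.2) _).1 hx⟩
  haveI := Fintype.ofFinite N
  obtain ⟨hinj, hE⟩ := h.ext hz hz1 ((QuotientGroup.mk' N).comp (inclusion (h.le_centralizer hz))) rfl
  set f := (QuotientGroup.mk' N).comp (inclusion (h.le_centralizer hz)) with hf
  set yq := QuotientGroup.mk' N ⟨y, h.mem_centralizer_y hz⟩ with hyq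
  obtain ⟨A, hA, hAx⟩ := exists_average N (isCharacter_restrict C (irr_isCharacter χ))
  obtain ⟨D0, hD0pos, hD0⟩ := irr_one_pos χ.2
  obtain ⟨D1, hD1⟩ := char_one_nat hA
  obtain ⟨sv, hsv⟩ := UFour.exists_int_value χ (UFour.mul_self_eq_one h.sylow hz) hz1
  -- values of the average
  have hsing : ∀ x : C, (∀ q ∈ O z, (χ : G → ℂ) ((x : G) * q) = (χ : G → ℂ) x) →
      A (QuotientGroup.mk' N x) = (χ : G → ℂ) x := by
    intro x hx
    rw [QuotientGroup.mk'_apply, hAx, Finset.sum_congr rfl (g := fun _ => (χ : G → ℂ) x) fun (n : N) _ => by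
      show (χ : G → ℂ) ((x : G) * ((n : C) : G)) = _
      exact hx _ n.2, Finset.sum_const, Finset.card_univ, ← Nat.card_eq_fintype_card, nsmul_eq_mul,
      inv_mul_cancel_left₀ natCard_ne_zero]
  have hAf : ∀ t : (S : Subgroup G), t ≠ 1 → A (f t) = (χ : G → ℂ) t := by
    intro t ht1
    refine hsing _ fun q hq => ?_
    by_cases htZ : (t : G) ∈ Z
    · simpa using (hcst z hz hz1 χ hχ q hq).1 t htZ (fun e => ht1 (Subtype.ext e)) 0
    · exact (hcst z hz hz1 χ hχ q hq).2 t t.2 htZ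
  have hsS : ∀ t : (S : Subgroup G), t ∈ Z.subgroupOf (S : Subgroup G) → t ≠ 1 →
      (χ : G → ℂ) t = (sv : ℂ) := fun t ht ht1 => by
    exact (value_Z h hcst hχ hz hz1 (w := (t : G)) ht fun e => ht1 (Subtype.ext e)).trans hsv
  have hkS : ∀ t : (S : Subgroup G), t ∉ Z.subgroupOf (S : Subgroup G) →
      (χ : G → ℂ) t = (χ : G → ℂ) s := fun t ht => value_outside h hcst hs hsZ t.2 ht
  have hS1 : ((1 : (S : Subgroup G)) : G) = 1 := rfl
  obtain ⟨a, m, ha, hm⟩ := h.pin.linear_mult (isCharacter_restrict (S : Subgroup G) (irr_isCharacter χ))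
    (D := (D0 : ℂ)) (s := (sv : ℂ)) (k := (χ : G → ℂ) s) hD0 hsS hkS
  set kv : ℤ := (a : ℤ) - (m : ℤ) with hkvdef
  have hkv : (χ : G → ℂ) s = (kv : ℂ) := by
    rw [hkvdef]; push_cast
    linear_combination (ha - hm) / 64
  obtain ⟨a', m', ha', hm'⟩ := h.pin.linear_mult (isCharacter_comp f hA)
    (D := (D1 : ℂ)) (s := (sv : ℂ)) (k := (χ : G → ℂ) s) (by show A (f 1) = _; rw [map_one, hD1])
    (fun t ht ht1 => (hAf t ht1).trans (hsS t ht ht1))
    (fun t ht => (hAf t (fun e => ht (e ▸ one_mem _))).trans (hkS t ht))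
  have hq : ∀ j : Fin 5, ∃ d : ℤ,
      ∑ i : Fin 5, fval (χ : G → ℂ) z y i * conj (ζ ^ ((i : ℕ) * (j : ℕ))) = 5 * (d : ℂ) ∧
      ∃ q : ℕ, 5 * (D1 : ℂ) - (sv : ℂ) + 60 * (χ : G → ℂ) s + 64 * (5 * (d : ℂ) - (sv : ℂ)) =
        320 * (q : ℂ) := by
    intro j
    refine hE.ineq hA hD1 ?_ ?_ ?_ hζ (j : ℕ)
    · rintro _ ⟨t, ht, rfl⟩ hne
      have ht1 : t ≠ 1 := fun e => hne (by rw [e, map_one])
      exact (hAf t ht1).trans (hsS t ht ht1)
    · rintro _ ⟨t, rfl⟩ hnot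
      have ht : t ∉ Z.subgroupOf (S : Subgroup G) := fun hh => hnot ⟨t, hh, rfl⟩
      exact (hAf t (fun e => ht (e ▸ one_mem _))).trans (hkS t ht)
    · rintro _ ⟨t, ht, rfl⟩ hne i
      have ht1 : t ≠ 1 := fun e => hne (by rw [e, map_one])
      have ht1' : (t : G) ≠ 1 := fun e => ht1 (Subtype.ext e)
      have e : f t * yq ^ (i : ℕ) = QuotientGroup.mk' N
          (inclusion (h.le_centralizer hz) t * ⟨y, h.mem_centralizer_y hz⟩ ^ (i : ℕ)) := by
        rw [map_mul, map_pow]; rfl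
      rw [e, hsing _ fun q hq => by
        simpa using (hcst z hz hz1 χ hχ q hq).1 t ht ht1' (i : ℕ)]
      show (χ : G → ℂ) _ = fval _ z y i
      simp only [Subgroup.coe_mul, SubmonoidClass.coe_pow, Subgroup.coe_inclusion]
      exact value_indep h hcst hχ hz hz1 ht ht1' (i : ℕ)
  choose d hd q hdq using hq
  obtain ⟨n, hn⟩ : ∃ n : ℤ, (χ : G → ℂ) 1 - (sv : ℂ) = 16 * n := by
    haveI := UFour.normal_subgroupOf h.sylow
    exact UFour.sixteen_dvd h.sylow (irr_isCharacter χ) fun w hw hw1 => by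
      rw [value_Z h hcst hχ hz hz1 hw hw1, hsv]
  rw [hD0] at hn
  rw [hkv] at hm hm' ha' hdq
  have hnZ : (D0 : ℤ) - sv = 16 * n := by exact_mod_cast hn
  have hmZ : (D0 : ℤ) + 3 * sv - 4 * kv = 64 * (m : ℤ) := by exact_mod_cast hm
  have hm'Z : (D1 : ℤ) + 3 * sv - 4 * kv = 64 * (m' : ℤ) := by exact_mod_cast hm'
  have ha'Z : (D1 : ℤ) + 3 * sv + 60 * kv = 64 * (a' : ℤ) := by exact_mod_cast ha'
  have hdqZ : ∀ j, 5 * (D1 : ℤ) - sv + 60 * kv + 64 * (5 * d j - sv) = 320 * (q j : ℤ) := fun j => by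
    exact_mod_cast hdq j
  refine ⟨D0, sv, kv, m, 4 * m - n, d, by exact_mod_cast hD0pos, by simpa using hD0, hsv, hkv, hmZ,
    by omega, hd, ?_⟩
  rintro ⟨q0, hq0, hne⟩
  -- the average at one
  have hA1 : A (QuotientGroup.mk' N (1 : C)) = (D1 : ℂ) := by rw [map_one, hD1]
  rw [QuotientGroup.mk'_apply, hAx] at hA1
  simp only [one_mul] at hA1
  set χN : N → ℂ := fun n => (χ : G → ℂ) ((n : C) : G) with hχN
  have hre : ∀ n : N, (χN n).re ≤ D0 := fun n => (Complex.re_le_norm _).trans (by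
    refine (char_norm_le (irr_isCharacter χ) _).trans ?_
    rw [hD0, Complex.norm_natCast])
  have hsum : ∑ n : N, (χN n).re = (Nat.card N : ℝ) * D1 := by
    have h1 : (∑ n : N, χN n) = (Nat.card N : ℂ) * (D1 : ℂ) := by
      rw [← hA1, mul_inv_cancel_left₀ natCard_ne_zero]
    rw [← Complex.re_sum, h1]
    simp
  have hlt : (D1 : ℤ) < D0 := by
    have hstrict : ∃ n : N, (χN n).re < D0 := by
      refine ⟨⟨⟨q0, h.core_le z hz hz1 hq0⟩, hq0⟩, lt_of_le_of_ne (hre _) fun e => hne ?_⟩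
      rw [hD0]
      have hn1 := char_norm_le (irr_isCharacter χ) q0
      rw [hD0, Complex.norm_natCast] at hn1
      have e' : ((χ : G → ℂ) q0).re = D0 := e
      have h2 := Complex.sq_norm_sub_sq_re ((χ : G → ℂ) q0)
      rw [e'] at h2
      have him : ((χ : G → ℂ) q0).im = 0 := by nlinarith [norm_nonneg ((χ : G → ℂ) q0)]
      exact Complex.ext (by simp [e']) (by simp [him])
    have h2 := Finset.sum_lt_sum (fun n (_ : n ∈ Finset.univ) => hre n)
      (let ⟨n, hn⟩ := hstrict; ⟨n, Finset.mem_univ n, hn⟩)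
    rw [hsum, Finset.sum_const, Finset.card_univ, ← Nat.card_eq_fintype_card, nsmul_eq_mul] at h2
    have h3 : (D1 : ℝ) < D0 := lt_of_mul_lt_mul_left h2 (Nat.cast_nonneg _)
    exact_mod_cast h3
  have hsD : sv ≤ (D1 : ℤ) := by
    have h1 := char_norm_le hA (f ⟨z, h.sylow.Z_le hz⟩)
    rw [hAf _ fun e => hz1 (congrArg Subtype.val e :), hD1, Complex.norm_natCast] at h1
    change ‖(χ : G → ℂ) z‖ ≤ _ at h1
    rw [hsv] at h1
    have h2 := (Complex.re_le_norm _).trans h1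
    simp only [Complex.intCast_re] at h2
    exact_mod_cast h2
  refine ⟨by omega, by omega, by omega, fun j => ?_⟩
  have := hdqZ j
  omega

end Values

end Cfsg.Agent.UFourRows
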