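import Cfsg.Agent.Lib.UFourRows.Data

/-!
The search succeeds.
-/

set_option autoImplicit false
set_option maxHeartbeats 0

namespace Cfsg.Agent.UFourRows

theorem search_ok : search cuts certs 200 table ⟨4, 5, 21, 1, 1, 1, 5, 5⟩ [] = true := by decide +kernel

theorem table_gram : (table.all fun t =>
    decide ((⟨4 * t.v.q0, 4 * t.v.q1, 4 * t.v.q2, 4 * t.v.q3, 4 * t.v.q4, 4 * t.v.q5, 4 * t.v.q6,
      4 * t.v.q7⟩ : G8) =
      ⟨t.L * t.x.gram4.q0, t.L * t.x.gram4.q1, t.L * t.x.gram4.q2, t.L * t.x.gram4.q3, t.L * t.x.gram4.q4,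
        t.L * t.x.gram4.q5, t.L * t.x.gram4.q6, t.L * t.x.gram4.q7⟩) &&
      decide (0 ≤ t.v.q0 ∧ 0 ≤ t.v.q1 ∧ 0 ≤ t.v.q2) && fitsAll cuts t.v &&
      decide (0 < 64 * lo t.x + t.x.off) && decide (0 < 64 * lo t.x.neg + t.x.neg.off)) = true := by
  decide +kernel

theorem table_sorted : (table.map fun t => (decide (t.v.q0 = 0), decide (t.v.q0 = 0) && decide (t.v.q1 = 0))).Pairwise
    fun a b => (a.1 = true → b.1 = true) ∧ (a.2 = true → b.2 = true) := by
  decide +kernel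

end Cfsg.Agent.UFourRows
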