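import Cfsg.Agent.Lib.Blocks.SectionNorm
import Cfsg.Agent.Lib.Blocks.BrauerHomocyclic
import Cfsg.Agent.Lib.Characters.Inner

/-!
Sums over the principal block on a section, seen in the centralizer; sections modulo an odd
normalised subgroup; the square of a class sum.
-/

set_option autoImplicit false
set_option linter.style.haveILetI false
set_option linter.unusedSectionVars false

namespace Cfsg.Agent.UFourRows

open Cfsg.Agent.Characters Cfsg.Agent.Blocks Subgroup
open scoped ComplexConjugate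

universe u

variable {G : Type u} [Group G] [Finite G] {p : ℕ} {M : Ideal Cfsg.AlgInt}

open scoped Classical in
/-- A weighted sum over the principal block at `z a` sees only the principal block of `C(z)`. -/
theorem sum_principal_section (hM : Cfsg.IsPModular p M) {z : G}
    (hz : ∃ k : ℕ, orderOf z = p ^ k) [Fintype (Cfsg.IrrCharacter G)]
    [Fintype (centralizer ({z} : Set G))] (w : Cfsg.IrrCharacter G → ℂ)
    {a : centralizer ({z} : Set G)} (ha : ¬ p ∣ orderOf a) :
    ∑ ζ ∈ Finset.univ.filter (fun ζ => ζ ∈ Cfsg.principalBlock M G), w ζ * (ζ : G → ℂ) (z * (a : G)) =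
      ∑ c : centralizer ({z} : Set G),
        blockKernelAt (Cfsg.principalBlock M (centralizer ({z} : Set G))) a c *
          ∑ ζ : Cfsg.IrrCharacter G, w ζ * (ζ : G → ℂ) (z * (c : G)) := by
  letI := Fintype.ofFinite G
  set b₀ := Cfsg.principalBlock M (centralizer ({z} : Set G)) with hb₀
  have hb₀B : Cfsg.IsPBlock M b₀ := isPBlock_principal M _
  have hzero : ∀ ζ : Cfsg.IrrCharacter G, ζ ∉ Cfsg.principalBlock M G →
      Cfsg.blockPart b₀ (fun c : centralizer ({z} : Set G) => (ζ : G → ℂ) (z * (c : G))) a = 0 := by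
    intro ζ hζ
    refine blockPart_eq_zero_of_not_induced hM hz (isPBlock_blockOf M ζ) (mem_blockOf_self hM ζ)
      hb₀B (fun hi => hζ ?_) ha
    have hC : centralizer ((zpowers z : Subgroup G) : Set G) ≤ centralizer ({z} : Set G) :=
      fun u hu => mem_centralizer_zpowers.1 hu
    have hN : centralizer ({z} : Set G) ≤ normalizer ((zpowers z : Subgroup G) : Set G) := fun u hu =>
      centralizer_le_normalizer _ (mem_centralizer_zpowers.2 hu)
    have hd := inducedBlockDefined_of_brauer hM (zpowers_isPGroup hz)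
      (zpowers_le.2 (mem_centralizer_singleton_iff.2 rfl)) hC hN hb₀B
    rw [← isInduced_unique hM hi ((third_main hM hd).2 rfl)]
    exact mem_blockOf_self hM ζ
  have hL : ∀ ζ : Cfsg.IrrCharacter G,
      ∑ c : centralizer ({z} : Set G), blockKernelAt b₀ a c * (ζ : G → ℂ) (z * (c : G)) =
        if ζ ∈ Cfsg.principalBlock M G then (ζ : G → ℂ) (z * (a : G)) else 0 := by
    intro ζ
    rw [← blockPart_eq_kernel]
    split
    · next h => exact (value_eq_principal_part hM hz h ha).symm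
    · next h => exact hzero ζ h
  simp only [Finset.mul_sum]
  rw [Finset.sum_comm, Finset.sum_filter]
  refine Finset.sum_congr rfl fun ζ _ => ?_
  calc (if ζ ∈ Cfsg.principalBlock M G then w ζ * (ζ : G → ℂ) (z * (a : G)) else 0)
      = w ζ * if ζ ∈ Cfsg.principalBlock M G then (ζ : G → ℂ) (z * (a : G)) else 0 := by
        rw [mul_ite, mul_zero]
    _ = w ζ * ∑ c : centralizer ({z} : Set G), blockKernelAt b₀ a c * (ζ : G → ℂ) (z * (c : G)) := by
        rw [hL]
    _ = _ := by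
        rw [Finset.mul_sum]
        exact Finset.sum_congr rfl fun c _ => by ring

open scoped Classical in
/-- The inner products of two columns on a section are those of the centralizer. -/
theorem cross_section (hM : Cfsg.IsPModular p M) {z : G} (hz : ∃ k : ℕ, orderOf z = p ^ k)
    [Fintype (Cfsg.IrrCharacter G)] [Fintype (Cfsg.IrrCharacter (centralizer ({z} : Set G)))]
    {a b : centralizer ({z} : Set G)} (ha : ¬ p ∣ orderOf a) (hb : ¬ p ∣ orderOf b) :
    ∑ ζ ∈ Finset.univ.filter (fun ζ => ζ ∈ Cfsg.principalBlock M G),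
        (ζ : G → ℂ) (z * (a : G)) * conj ((ζ : G → ℂ) (z * (b : G))) =
      ∑ η ∈ Finset.univ.filter
          (fun η => η ∈ Cfsg.principalBlock M (centralizer ({z} : Set G))),
        (η : centralizer ({z} : Set G) → ℂ) a * conj ((η : centralizer ({z} : Set G) → ℂ) b) := by
  letI := Fintype.ofFinite (centralizer ({z} : Set G))
  set b₀ := Cfsg.principalBlock M (centralizer ({z} : Set G)) with hb₀
  refine Eq.trans (Finset.sum_congr rfl fun ζ _ => mul_comm _ _) ?_
  rw [sum_principal_section hM hz (fun ζ => conj ((ζ : G → ℂ) (z * (b : G)))) ha]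
  have horth : ∀ c : centralizer ({z} : Set G),
      blockKernelAt b₀ a c * ∑ ζ : Cfsg.IrrCharacter G,
          conj ((ζ : G → ℂ) (z * (b : G))) * (ζ : G → ℂ) (z * (c : G)) =
        ∑ η : Cfsg.IrrCharacter (centralizer ({z} : Set G)), blockKernelAt b₀ a c *
          (η : centralizer ({z} : Set G) → ℂ) c * conj ((η : centralizer ({z} : Set G) → ℂ) b) := by
    intro c
    by_cases hc : p ∣ orderOf c
    · simp [blockKernelAt_singular hM (isPBlock_principal M _) ha hc, b₀]
    · rw [show (∑ ζ : Cfsg.IrrCharacter G, conj ((ζ : G → ℂ) (z * (b : G))) * (ζ : G → ℂ) (z * (c : G))) =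
          ∑ ζ : Cfsg.IrrCharacter G, (ζ : G → ℂ) (z * (c : G)) * conj ((ζ : G → ℂ) (z * (b : G))) from
          Finset.sum_congr rfl fun ζ _ => mul_comm _ _,
        orthogonality_section hM.1 hz c b hc hb, Finset.mul_sum]
      exact Finset.sum_congr rfl fun η _ => by ring
  rw [Finset.sum_congr rfl fun c _ => horth c]
  rw [Finset.sum_comm, Finset.sum_filter]
  refine Finset.sum_congr rfl fun η _ => ?_
  rw [← Finset.sum_mul, ← blockPart_eq_kernel, blockPart_irr, ite_mul, zero_mul]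

/-- Members of the principal block are constant along `O_{p'}(C(u))` on the section of `u`. -/
theorem value_mul_core_reg (hM : Cfsg.IsPModular p M) {u : G} (hu : ∃ k : ℕ, orderOf u = p ^ k)
    {χ : Cfsg.IrrCharacter G} (hχ : χ ∈ Cfsg.principalBlock M G)
    {K : Subgroup (centralizer ({u} : Set G))} [K.Normal] (hK : ¬ p ∣ Nat.card K)
    {w v : centralizer ({u} : Set G)} (hv : v ∈ K) (hw : ¬ p ∣ orderOf w)
    (hwv : ¬ p ∣ orderOf (w * v)) :
    (χ : G → ℂ) (u * ((w : G) * (v : G))) = (χ : G → ℂ) (u * (w : G)) := by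
  rw [← Subgroup.coe_mul, value_eq_principal_part hM hu hχ hwv,
    value_eq_principal_part hM hu hχ hw, Cfsg.blockPart, Cfsg.blockPart]
  refine finsum_congr fun ξ => finsum_congr fun hξ => ?_
  have h1 := trivial_on_transfer hM hK (χ := trivIrr (centralizer ({u} : Set G))) hξ
    (fun n _ => rfl) v hv
  have hcl : (ξ : centralizer ({u} : Set G) → ℂ) (w * v) =
      (ξ : centralizer ({u} : Set G) → ℂ) (v * w) := by
    conv_lhs => rw [← irr_isClassFunction ξ (w * v) v]
    rw [show v * (w * v) * v⁻¹ = v * w by group]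
  rw [hcl, char_mul_of_eq_one (irr_isCharacter ξ) h1]

/-- An element of a coset of an odd normalised subgroup on a 2-element is conjugate to one whose
odd factor commutes with it. -/
theorem exists_conj_section {x w q : G} {Q : Subgroup G} (hQ : Odd (Nat.card Q))
    (hx : ∃ k : ℕ, orderOf x = 2 ^ k) (hxQ : x ∈ normalizer (Q : Set G))
    (hwQ : w ∈ normalizer (Q : Set G)) (hw : Odd (orderOf w)) (hxw : Commute x w) (hq : q ∈ Q) :
    ∃ r ∈ Q, ∃ q' ∈ Q, Commute x q' ∧ r * (x * w * q) * r⁻¹ = x * w * q' := by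
  haveI : Fact (Nat.Prime 2) := ⟨Nat.prime_two⟩
  obtain ⟨k, hk⟩ := hx
  set N := normalizer (Q : Set G) with hN
  set Q' := Q.subgroupOf N with hQ'
  haveI : Q'.Normal := by rw [hQ', hN]; infer_instance
  let π := QuotientGroup.mk' Q'
  set g : N := ⟨x * w * q, mul_mem (mul_mem hxQ hwQ) (le_normalizer hq)⟩ with hg
  have hπq : ∀ (v : G) (hv : v ∈ Q), π ⟨v, le_normalizer hv⟩ = 1 := fun v hv =>
    (QuotientGroup.eq_one_iff _).2 (mem_subgroupOf.2 hv)
  -- the exponent for the 2-part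
  have hodd : Nat.Coprime (2 ^ k) (orderOf w * Nat.card Q) :=
    Nat.Coprime.pow_left _ (Nat.coprime_two_left.2 (hw.mul hQ))
  obtain ⟨e, he1, he0⟩ := Nat.chineseRemainder hodd 1 0
  have hxe : x ^ e = x := by
    rw [← pow_mod_orderOf x e, hk, show e % 2 ^ k = 1 % 2 ^ k from he1, ← hk, pow_mod_orderOf, pow_one]
  obtain ⟨d, hd⟩ := Nat.modEq_zero_iff_dvd.1 he0
  have hwe : w ^ e = 1 := by rw [hd, mul_assoc, pow_mul, pow_orderOf_eq_one, one_pow]
  have hgN : π g = π (⟨x, hxQ⟩ * ⟨w, hwQ⟩) := by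
    rw [hg, show (⟨x * w * q, mul_mem (mul_mem hxQ hwQ) (le_normalizer hq)⟩ : N) =
      ⟨x, hxQ⟩ * ⟨w, hwQ⟩ * ⟨q, le_normalizer hq⟩ from Subtype.ext rfl, map_mul, hπq q hq, mul_one]
  set x' : N := g ^ e with hx'
  have hπx' : π x' = π ⟨x, hxQ⟩ := by
    have hc : Commute (⟨x, hxQ⟩ : N) ⟨w, hwQ⟩ := Subtype.ext hxw.eq
    rw [hx', map_pow, hgN, ← map_pow, hc.mul_pow]
    congr 1
    exact Subtype.ext (by show x ^ e * w ^ e = x; rw [hxe, hwe, mul_one])
  have hx'k : ((x' : N) : G) ^ 2 ^ k = 1 := by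
    have h1 : π (g ^ (2 ^ k * orderOf w)) = 1 := by
      rw [map_pow, hgN, ← map_pow]
      have hc : Commute (⟨x, hxQ⟩ : N) ⟨w, hwQ⟩ := Subtype.ext hxw.eq
      rw [hc.mul_pow]
      refine (congrArg π (?_ : _ = (1 : N))).trans (map_one π)
      refine Subtype.ext ?_
      show x ^ (2 ^ k * orderOf w) * w ^ (2 ^ k * orderOf w) = 1
      rw [← hk, pow_mul, pow_orderOf_eq_one, one_pow, one_mul, pow_mul', pow_orderOf_eq_one, one_pow]
    have h2 : ((g : N) : G) ^ (2 ^ k * orderOf w) ∈ Q := by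
      rw [← Subgroup.coe_pow]
      exact mem_subgroupOf.1 ((QuotientGroup.eq_one_iff _).1 h1)
    have h3 : ((g : N) : G) ^ (2 ^ k * orderOf w * Nat.card Q) = 1 := by
      rw [pow_mul, show ((g : N) : G) ^ (2 ^ k * orderOf w) =
        ((⟨_, h2⟩ : Q) : G) from rfl, ← Subgroup.coe_pow, pow_card_eq_one', Subgroup.coe_one]
    rw [hx', Subgroup.coe_pow, ← pow_mul, hd, show orderOf w * Nat.card Q * d * 2 ^ k =
      2 ^ k * orderOf w * Nat.card Q * d by ring, pow_mul, h3, one_pow]
  -- conjugate the 2-part onto `x`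
  obtain ⟨c, hc, hcx⟩ : ∃ c ∈ Q, ((x' : N) : G) = x * c := by
    refine ⟨x⁻¹ * ((x' : N) : G), ?_, by rw [mul_inv_cancel_left]⟩
    exact mem_subgroupOf.1 (QuotientGroup.eq.1 hπx'.symm)
  set H : Subgroup G := Q ⊔ zpowers x with hH
  have hQH : Q ≤ H := le_sup_left
  have hxH : x ∈ H := mem_sup_right (mem_zpowers x)
  have hxle : zpowers x ≤ N := zpowers_le.2 hxQ
  have hmem : ∀ h ∈ H, ∃ v ∈ Q, ∃ j : ℤ, h = v * x ^ j := fun h hh => by
    rw [hH, ← SetLike.mem_coe, sup_comm, Subgroup.coe_mul_of_left_le_normalizer_right _ _ hxle] at hh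
    obtain ⟨a, ⟨j, rfl⟩, b, hb, rfl⟩ := hh
    exact ⟨_, (mem_normalizer_iff.1 (zpow_mem hxQ j) b).1 hb, j, by
      show x ^ j * b = _; group⟩
  have hdisj : ∀ v ∈ Q, ∀ j : ℤ, v = x ^ j → v = 1 := fun v hv j hvj => by
    have h1 : orderOf v ∣ Nat.card Q := Subgroup.orderOf_dvd_natCard Q hv
    have h2 : orderOf v ∣ 2 ^ k := hk ▸ hvj ▸ orderOf_dvd_iff_pow_eq_one.2 (by
      rw [← zpow_natCast, ← zpow_mul, mul_comm, zpow_mul, zpow_natCast, pow_orderOf_eq_one, one_zpow])
    exact orderOf_eq_one_iff.1 (Nat.eq_one_of_dvd_coprimes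
      ((Nat.Coprime.pow_right k (Nat.coprime_two_right.2 hQ))) h1 h2)
  set xH : H := ⟨x, hxH⟩ with hxHdef
  set yH : H := ⟨((x' : N) : G), by rw [hcx]; exact mul_mem hxH (hQH hc)⟩ with hyH
  haveI : Finite H := inferInstance
  have hpx : IsPGroup 2 (zpowers xH) := IsPGroup.of_card (n := k) (by
    rw [Nat.card_zpowers, ← Subgroup.orderOf_coe xH]; exact hk)
  have hpy : IsPGroup 2 (zpowers yH) := by
    obtain ⟨i, -, hi⟩ := (Nat.dvd_prime_pow Nat.prime_two).1
      (orderOf_dvd_of_pow_eq_one (show yH ^ 2 ^ k = 1 from Subtype.ext hx'k))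
    exact IsPGroup.of_card (n := i) (by rw [Nat.card_zpowers, hi])
  obtain ⟨P, hP⟩ := hpx.exists_le_sylow
  -- the Sylow subgroup is `⟨x⟩`
  have hPeq : (P : Subgroup H) = zpowers xH := by
    refine le_antisymm (fun a ha => ?_) hP
    obtain ⟨v, hv, j, hva⟩ := hmem a a.2
    have hvP : (⟨v, hQH hv⟩ : H) ∈ (P : Subgroup H) := by
      have he : (⟨v, hQH hv⟩ : H) = a * (xH ^ j)⁻¹ := Subtype.ext (by
        show v = (a : G) * ((xH ^ j : H) : G)⁻¹
        rw [hva, Subgroup.coe_zpow, show ((xH : H) : G) = x from rfl]; group)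
      rw [he]
      exact mul_mem ha (inv_mem (hP (zpow_mem (mem_zpowers xH) j)))
    obtain ⟨i, hi⟩ := IsPGroup.iff_orderOf.1 P.2 ⟨_, hvP⟩
    rw [Subgroup.orderOf_mk, Subgroup.orderOf_mk] at hi
    have h1 : orderOf v ∣ Nat.card Q := Subgroup.orderOf_dvd_natCard Q hv
    have hv1 : v = 1 := orderOf_eq_one_iff.1 (Nat.eq_one_of_dvd_coprimes
      (Nat.Coprime.pow_right i (Nat.coprime_two_right.2 hQ)) h1 (hi ▸ dvd_rfl))
    exact mem_zpowers_iff.2 ⟨j, Subtype.ext (by rw [Subgroup.coe_zpow, hva, hv1, one_mul])⟩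
  obtain ⟨P', hP'⟩ := hpy.exists_le_sylow
  obtain ⟨a, ha⟩ := MulAction.exists_smul_eq H P' P
  have hmemP : a * yH * a⁻¹ ∈ (P : Subgroup H) := by
    rw [← ha]
    exact Sylow.coe_subgroup_smul (P := P') ▸ ⟨yH, hP' (mem_zpowers yH), rfl⟩
  obtain ⟨v, hv, j, hvj⟩ := hmem a a.2
  obtain ⟨i, hi⟩ := mem_zpowers_iff.1 (hPeq ▸ hmemP)
  have hi' : x ^ i = v * x ^ j * ((x' : N) : G) * (v * x ^ j)⁻¹ := by
    have := congrArg Subtype.val hi
    simp only [Subgroup.coe_zpow, Subgroup.coe_mul, Subgroup.coe_inv, hvj] at this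
    exact this
  -- the power is the first one
  set r : G := (x ^ j)⁻¹ * v * x ^ j with hr
  have hrQ : r ∈ Q := by
    rw [hr]
    exact (mem_normalizer_iff''.1 (zpow_mem hxQ j) v).1 hv
  have hri : r * ((x' : N) : G) * r⁻¹ = x ^ i := by
    rw [hr, show (x ^ j)⁻¹ * v * x ^ j * ((x' : N) : G) * ((x ^ j)⁻¹ * v * x ^ j)⁻¹ =
      (x ^ j)⁻¹ * (v * x ^ j * ((x' : N) : G) * (v * x ^ j)⁻¹) * x ^ j by group, ← hi']
    group
  have hix : x ^ i = x := by
    have hz : x⁻¹ * x ^ i ∈ Q := by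
      rw [← hri, hcx, show x⁻¹ * (r * (x * c) * r⁻¹) = (x⁻¹ * r * x) * c * r⁻¹ by group]
      exact mul_mem (mul_mem ((mem_normalizer_iff''.1 hxQ r).1 hrQ) hc) (inv_mem hrQ)
    have := hdisj _ hz (i - 1) (by group)
    exact (inv_mul_eq_one.1 this).symm
  rw [hix] at hri
  -- the odd factor
  set g' : G := r * (x * w * q) * r⁻¹ with hg'
  have hcom : Commute x g' := by
    have h1 : ((g : N) : G) ^ e = ((x' : N) : G) := by rw [hx', Subgroup.coe_pow]
    have h2 : g' ^ e = x := by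
      refine Eq.trans ?_ hri
      rw [hg', conj_pow, ← h1, hg]
    rw [← h2]
    exact Commute.pow_self g' e
  refine ⟨r, hrQ, (x * w)⁻¹ * g', ?_, ?_, by rw [mul_inv_cancel_left]⟩
  · rw [hg', show (x * w)⁻¹ * (r * (x * w * q) * r⁻¹) = ((x * w)⁻¹ * r * (x * w)) * q * r⁻¹ by group]
    exact mul_mem (mul_mem ((mem_normalizer_iff''.1 (mul_mem hxQ hwQ) r).1 hrQ) hq) (inv_mem hrQ)
  · exact (((Commute.refl x).mul_right hxw).inv_right).mul_right hcom

/-- The coefficients of the square of a class sum, at the inverse. -/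
noncomputable def classSquare (j : G) : G → ℂ := fun g => (classSum j * classSum j).coeff g⁻¹

open scoped Classical in
theorem classSquare_eq_sum (j : G) [Fintype (Cfsg.IrrCharacter G)] (g : G) :
    classSquare j g = ∑ χ : Cfsg.IrrCharacter G, (Nat.card G : ℂ)⁻¹ *
      ((((centralizer ({j} : Set G)).index : ℂ) * (χ : G → ℂ) j) ^ 2 /
        (χ : G → ℂ) 1) * (χ : G → ℂ) g := by
  haveI := Fintype.ofFinite G
  simp only [classSquare]
  conv_lhs => rw [← fourier_omega (central_mul (central_classSum j) (central_classSum j)),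
    coeff_fourier, Finset.mul_sum]
  refine Finset.sum_congr rfl fun χ _ => ?_
  rw [omega_mul χ (central_classSum j), omega_classSum (irr_isClassFunction χ), Cfsg.centralChar,
    char_inv (irr_isCharacter χ), Complex.conj_conj]
  field_simp [irr_one_ne_zero χ.2]

end Cfsg.Agent.UFourRows
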