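import Cfsg.Agent.Lib.UFourRows.Bounds
import Cfsg.Agent.Lib.UFourRows.Cover

/-!
No system of rows satisfies the equations together with the lower bounds on the multiplicities.
-/

set_option autoImplicit false
set_option linter.all false

namespace Cfsg.Agent.UFourRows

open Finset

universe u

/-- The sum of a component over a list of units. -/
def gSum (p : G8 → Int) (M : List Item) : Int := (M.map fun u => p u.t.v).sum

/-- The component sums of `M` are those of `r`. -/
def Total (M : List Item) (r : G8) : Prop :=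
  gSum G8.q0 M = r.q0 ∧ gSum G8.q1 M = r.q1 ∧ gSum G8.q2 M = r.q2 ∧ gSum G8.q3 M = r.q3 ∧ gSum G8.q4 M = r.q4 ∧
    gSum G8.q5 M = r.q5 ∧ gSum G8.q6 M = r.q6 ∧ gSum G8.q7 M = r.q7

theorem gSum_nonneg (p : G8 → Int) {M : List Item} (h : ∀ u ∈ M, 0 ≤ p u.t.v) : 0 ≤ gSum p M :=
  List.sum_nonneg fun a ha => by
    obtain ⟨u, hu, rfl⟩ := List.mem_map.1 ha
    exact h u hu

theorem Total.perm {M N : List Item} {r : G8} (h : Total M r) (p : M.Perm N) : Total N r := by
  simp only [Total, gSum] at h ⊢
  simpa only [← (p.map _).sum_eq] using h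

theorem Total.tail {u : Item} {M : List Item} {r : G8} (h : Total (u :: M) r) : Total M (r.sub u.t.v) := by
  simp only [Total, gSum, List.map_cons, List.sum_cons, G8.sub] at h ⊢
  obtain ⟨a, b, c, d, e, f, g, i⟩ := h
  refine ⟨?_, ?_, ?_, ?_, ?_, ?_, ?_, ?_⟩ <;> omega

theorem Total.nil {r : G8} (h : Total [] r) : r = G8.zero := by
  simp only [Total, gSum, List.map_nil, List.sum_nil] at h
  obtain ⟨a, b, c, d, e, f, g, i⟩ := h
  cases r
  simp_all [G8.zero]

theorem Total.dot_nonneg (f : G8) : ∀ {M : List Item} {r : G8}, Total M r → (∀ u ∈ M, 0 ≤ f.dot u.t.v) →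
    0 ≤ f.dot r := by
  intro M
  induction M with
  | nil =>
    intro r h _
    rw [h.nil]
    simp [G8.dot, G8.zero]
  | cons u M ih =>
    intro r h hf
    have h1 := ih h.tail fun v hv => hf v (List.mem_cons_of_mem _ hv)
    have h2 := hf u (List.mem_cons_self ..)
    simp only [G8.dot, G8.sub] at h1 h2 ⊢
    linarith

theorem table_tail : table.Pairwise fun a b => (a.v.q0 = 0 → b.v.q0 = 0) ∧
    (a.v.q0 = 0 → a.v.q1 = 0 → b.v.q0 = 0 ∧ b.v.q1 = 0) := by
  refine (List.pairwise_map.1 table_sorted).imp fun {a b} h => ?_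
  simp only [decide_eq_true_eq, Bool.and_eq_true] at h
  exact ⟨h.1, fun x y => h.2 ⟨x, y⟩⟩

theorem leaf_sound {pre : List Ty} {acc : List Item} (hpre : acc.map Item.t = pre) (h : Sys acc) :
    leafOK certs pre = false := by
  unfold leafOK
  rcases findTree certs (pre.map Ty.id) with _ | T
  · rfl
  · refine check_sound T h ?_
    rw [← hpre, List.map_map]
    clear h hpre
    induction acc with
    | nil => exact List.Forall₂.nil
    | cons u a ih => exact List.Forall₂.cons ⟨rfl, fun kn e => by simp at e⟩ ih

/-- The search excludes every system of units. -/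
theorem search_sound : ∀ (n : ℕ) (l : List Ty) (r : G8) (pre : List Ty) (M acc : List Item),
    (∀ t ∈ l, t ∈ table) →
    l.Pairwise (fun a b => (a.v.q0 = 0 → b.v.q0 = 0) ∧ (a.v.q0 = 0 → a.v.q1 = 0 → b.v.q0 = 0 ∧ b.v.q1 = 0)) →
    (∀ u ∈ M, u.t ∈ l) → acc.map Item.t = pre → Total M r → Sys (M ++ acc) →
    search cuts certs n l r pre = false := by
  intro n
  induction n with
  | zero => intro l r pre M acc _ _ _ _ _ _; rfl
  | succ n ih =>
    intro l r pre M acc hl hs hM hpre hT hS
    simp only [search]
    by_cases hr : r = G8.zero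
    · rw [if_pos hr]
      rcases M with _ | ⟨u, M'⟩
      · exact leaf_sound (acc := acc.reverse) (by rw [List.map_reverse, hpre])
          (hS.perm (by rw [List.nil_append]; exact (List.reverse_perm acc).symm))
      · exfalso
        obtain ⟨a, b, c, -⟩ := hT
        subst hr
        have hpos : 0 < gSum (fun v => v.q0 + v.q1 + v.q2) (u :: M') := by
          have h1 := (table_facts (hl _ (hM u (List.mem_cons_self ..)))).2.2.2.2
          have h2 := gSum_nonneg (fun v => v.q0 + v.q1 + v.q2) (M := M') fun v hv =>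
            (table_facts (hl _ (hM v (List.mem_cons_of_mem _ hv)))).2.2.2.2.le
          simp only [gSum, List.map_cons, List.sum_cons] at h2 ⊢
          omega
        have hsplit : ∀ N : List Item, gSum (fun v => v.q0 + v.q1 + v.q2) N =
            gSum G8.q0 N + gSum G8.q1 N + gSum G8.q2 N := by
          intro N
          induction N with
          | nil => simp [gSum]
          | cons v N ihN => simp only [gSum, List.map_cons, List.sum_cons] at ihN ⊢; omega
        rw [hsplit, a, b, c] at hpos
        simp [G8.zero] at hpos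
    rw [if_neg hr]
    rcases l with _ | ⟨t, l'⟩
    · exfalso
      rcases M with _ | ⟨u, M'⟩
      · exact hr hT.nil
      · exact absurd (hM u (List.mem_cons_self ..)) (by simp)
    obtain ⟨hhead, htail⟩ := List.pairwise_cons.1 hs
    simp only
    by_cases h0 : (0 < r.q0 && decide (t.v.q0 = 0)) = true
    · exfalso
      simp only [Bool.and_eq_true, decide_eq_true_eq] at h0
      have hz : gSum G8.q0 M = 0 := List.sum_eq_zero fun a ha => by
        obtain ⟨u, hu, rfl⟩ := List.mem_map.1 ha
        rcases List.mem_cons.1 (hM u hu) with e | e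
        · rw [e]; exact h0.2
        · exact (hhead _ e).1 h0.2
      rw [hT.1] at hz
      omega
    rw [if_neg h0]
    by_cases h1 : (0 < r.q1 && decide (t.v.q0 = 0) && decide (t.v.q1 = 0)) = true
    · exfalso
      simp only [Bool.and_eq_true, decide_eq_true_eq] at h1
      have hz : gSum G8.q1 M = 0 := List.sum_eq_zero fun a ha => by
        obtain ⟨u, hu, rfl⟩ := List.mem_map.1 ha
        rcases List.mem_cons.1 (hM u hu) with e | e
        · rw [e]; exact h1.2
        · exact ((hhead _ e).2 h1.1.2 h1.2).2
      rw [hT.2.1] at hz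
      omega
    rw [if_neg h1, Bool.and_eq_false_iff]
    by_cases hex : ∃ u ∈ M, u.t = t
    · left
      obtain ⟨u, hu, rfl⟩ := hex
      obtain ⟨A, B, rfl⟩ := List.append_of_mem hu
      have hp : (A ++ u :: B).Perm (u :: (A ++ B)) := List.perm_middle
      have hT' := (hT.perm hp).tail
      have hmem : ∀ v ∈ A ++ B, v.t ∈ u.t :: l' := fun v hv =>
        hM v (hp.mem_iff.2 (List.mem_cons_of_mem _ hv))
      have hfit : (u.t.v.q0 ≤ r.q0 && u.t.v.q1 ≤ r.q1 && u.t.v.q2 ≤ r.q2) = true := by
        have hn : ∀ v ∈ A ++ B, 0 ≤ v.t.v.q0 ∧ 0 ≤ v.t.v.q1 ∧ 0 ≤ v.t.v.q2 := fun v hv =>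
          (table_facts (hl _ (hmem v hv))).2.1
        have a := gSum_nonneg G8.q0 fun v hv => (hn v hv).1
        have b := gSum_nonneg G8.q1 fun v hv => (hn v hv).2.1
        have c := gSum_nonneg G8.q2 fun v hv => (hn v hv).2.2
        rw [hT'.1] at a
        rw [hT'.2.1] at b
        rw [hT'.2.2.1] at c
        simp only [G8.sub] at a b c
        simp only [Bool.and_eq_true, decide_eq_true_eq]
        omega
      rw [if_pos hfit]
      have hcut : fitsAll cuts (r.sub u.t.v) = true := by
        simp only [fitsAll, List.all_eq_true, decide_eq_true_eq]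
        exact fun f hf => hT'.dot_nonneg f fun v hv => (table_facts (hl _ (hmem v hv))).2.2.1 f hf
      rw [if_pos hcut]
      refine ih _ _ _ (A ++ B) (u :: acc) hl hs hmem (by rw [List.map_cons, hpre]) hT' (hS.perm ?_)
      exact (hp.append_right acc).trans List.perm_middle.symm
    · right
      refine ih l' r pre M acc (fun x hx => hl x (List.mem_cons_of_mem _ hx)) htail (fun u hu => ?_) hpre hT hS
      rcases List.mem_cons.1 (hM u hu) with e | e
      · exact absurd ⟨u, hu, e⟩ hex
      · exact e

theorem no_units {M : List Item} (hT : Total M ⟨4, 5, 21, 1, 1, 1, 5, 5⟩) (hS : Sys M) : False := by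
  have h := search_sound 200 table _ [] M [] (fun _ h => h) table_tail (fun u hu => (hS.valid u hu).1) rfl hT
    (by rwa [List.append_nil])
  rw [search_ok] at h
  cases h

end Cfsg.Agent.UFourRows
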