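import Cfsg.Agent.Lib.UFourRows.RowData

/-!
The sums over the principal block of the integers attached to its members.
-/

set_option autoImplicit false
set_option linter.all false

namespace Cfsg.Agent.UFourRows

open Subgroup Cfsg.Agent.Characters
open scoped ComplexConjugate

universe u

theorem root_sum {ζ : ℂ} (hζ : IsPrimitiveRoot ζ 5) (j l : Fin 5) :
    ∑ i : Fin 5, conj (ζ ^ ((i : ℕ) * (j : ℕ))) * ζ ^ ((i : ℕ) * (l : ℕ)) = if j = l then 5 else 0 := by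
  have hconj : conj ζ = ζ ^ 4 := by
    have h1 : ζ * conj ζ = 1 := by
      rw [Complex.mul_conj', Complex.norm_eq_one_of_pow_eq_one hζ.pow_eq_one (by norm_num)]
      simp
    calc conj ζ = ζ ^ 5 * conj ζ := by rw [hζ.pow_eq_one, one_mul]
      _ = ζ ^ 4 * (ζ * conj ζ) := by ring
      _ = ζ ^ 4 := by rw [h1, mul_one]
  set q := ζ ^ (4 * (j : ℕ) + (l : ℕ)) with hq
  have hterm : ∀ i : Fin 5, conj (ζ ^ ((i : ℕ) * (j : ℕ))) * ζ ^ ((i : ℕ) * (l : ℕ)) = q ^ (i : ℕ) := by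
    intro i
    rw [map_pow, hconj, hq, ← pow_mul, ← pow_mul, ← pow_add]
    congr 1
    ring
  simp only [hterm]
  have hiff : ∀ j l : Fin 5, (4 * (j : ℕ) + (l : ℕ)) % 5 = 0 ↔ j = l := by decide
  by_cases e : j = l
  · have h1 : q = 1 := by
      rw [hq, hζ.pow_eq_one_iff_dvd]
      exact Nat.dvd_of_mod_eq_zero ((hiff j l).2 e)
    simp [h1, e]
  · have h1 : q ≠ 1 := by
      intro h1
      rw [hq, hζ.pow_eq_one_iff_dvd] at h1
      exact e ((hiff j l).1 (Nat.mod_eq_zero_of_dvd h1))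
    have h5 : q ^ 5 = 1 := by rw [hq, ← pow_mul, mul_comm, pow_mul, hζ.pow_eq_one, one_pow]
    rw [if_neg e, Fin.sum_univ_five]
    have h2 : (q - 1) * (1 + q + q ^ 2 + q ^ 3 + q ^ 4) = 0 := by linear_combination h5
    simpa using (mul_eq_zero.1 h2).resolve_left (sub_ne_zero.2 h1)

theorem root_sum_left {ζ : ℂ} (hζ : IsPrimitiveRoot ζ 5) (j : Fin 5) :
    ∑ i : Fin 5, conj (ζ ^ ((i : ℕ) * (j : ℕ))) = if j = 0 then 5 else 0 := by
  simpa using root_sum hζ j 0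

variable {G : Type u} [Group G] [Fintype (Cfsg.IrrCharacter G)] {M : Ideal Cfsg.AlgInt} {y z s : G}

/-- The sums over the block. -/
structure Totals (B : Finset (Cfsg.IrrCharacter G)) (D sv kv : Cfsg.IrrCharacter G → ℤ)
    (d : Cfsg.IrrCharacter G → Fin 5 → ℤ) : Prop where
  dd : ∀ j l : Fin 5, ∑ χ ∈ B, d χ j * d χ l = if j = l then 16 else 12
  dk : ∀ j : Fin 5, ∑ χ ∈ B, d χ j * kv χ = 0
  kk : ∑ χ ∈ B, kv χ * kv χ = 16
  degd : ∀ j : Fin 5, ∑ χ ∈ B, D χ * d χ j = 0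
  degk : ∑ χ ∈ B, D χ * kv χ = 0
  sum_d : ∀ χ ∈ B, ∑ j : Fin 5, d χ j = sv χ
  ratd : ∃ R : ℚ, 0 < R ∧ ∀ j : Fin 5, ∑ χ ∈ B, ((sv χ * sv χ * d χ j : ℤ) : ℚ) / (D χ : ℚ) = R
  ratk : ∑ χ ∈ B, ((sv χ * sv χ * kv χ : ℤ) : ℚ) / (D χ : ℚ) = 0

theorem totals (hcol : Columns M y z s) {ζ : ℂ} (hζ : IsPrimitiveRoot ζ 5)
    {D sv kv : Cfsg.IrrCharacter G → ℤ} {d : Cfsg.IrrCharacter G → Fin 5 → ℤ}
    (hD : ∀ χ ∈ prinSet M G, (χ : G → ℂ) 1 = (D χ : ℂ))
    (hsv : ∀ χ ∈ prinSet M G, (χ : G → ℂ) z = (sv χ : ℂ))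
    (hkv : ∀ χ ∈ prinSet M G, (χ : G → ℂ) s = (kv χ : ℂ))
    (hd : ∀ χ ∈ prinSet M G, ∀ j : Fin 5,
      ∑ i : Fin 5, fval (χ : G → ℂ) z y i * conj (ζ ^ ((i : ℕ) * (j : ℕ))) = 5 * (d χ j : ℂ)) :
    Totals (prinSet M G) D sv kv d := by
  set B := prinSet M G with hB
  have hreal : ∀ χ ∈ B, ∀ j : Fin 5,
      ∑ i : Fin 5, conj (fval (χ : G → ℂ) z y i) * ζ ^ ((i : ℕ) * (j : ℕ)) = 5 * (d χ j : ℂ) := by
    intro χ hχ j
    have h1 := congrArg conj (hd χ hχ j)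
    simp only [map_sum, map_mul, Complex.conj_conj, map_intCast, Complex.conj_ofNat] at h1
    exact h1
  have hf : ∀ i : Fin 5, ∀ χ : Cfsg.IrrCharacter G,
      fval (χ : G → ℂ) z y i = (χ : G → ℂ) (z * y ^ (i : ℕ)) := fun _ _ => rfl
  -- a linear functional of the columns
  have hlin : ∀ (φ : Cfsg.IrrCharacter G → ℂ) (v : Fin 5 → ℂ),
      (∀ i, ∑ χ ∈ B, φ χ * fval (χ : G → ℂ) z y i = v i) →
      ∀ j : Fin 5, ∑ χ ∈ B, φ χ * (5 * (d χ j : ℂ)) = ∑ i, v i * conj (ζ ^ ((i : ℕ) * (j : ℕ))) := by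
    intro φ v hv j
    rw [Finset.sum_congr rfl fun χ hχ => by rw [← hd χ hχ j, Finset.mul_sum], Finset.sum_comm]
    refine Finset.sum_congr rfl fun i _ => ?_
    rw [← hv i, Finset.sum_mul]
    exact Finset.sum_congr rfl fun χ _ => by ring
  refine ⟨fun j l => ?_, fun j => ?_, ?_, fun j => ?_, ?_, fun χ hχ => ?_, ?_, ?_⟩
  · have h1 : ∀ i : Fin 5, ∑ χ ∈ B, (5 * (d χ l : ℂ)) * fval (χ : G → ℂ) z y i =
        (if i = 0 then 320 else 20) * ζ ^ ((i : ℕ) * (l : ℕ)) := by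
      intro i
      rw [Finset.sum_congr rfl fun χ hχ => by rw [← hreal χ hχ l, Finset.sum_mul], Finset.sum_comm]
      rw [Finset.sum_eq_single i]
      · have h2 := hcol.gram i i
        rw [if_pos rfl] at h2
        rw [← h2, Finset.sum_mul]
        exact Finset.sum_congr rfl fun χ _ => by rw [hf]; ring
      · intro i' _ hne
        have h2 := hcol.gram i i'
        rw [if_neg hne.symm] at h2
        rw [← mul_zero (ζ ^ ((i' : ℕ) * (l : ℕ))), ← h2, Finset.mul_sum]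
        exact Finset.sum_congr rfl fun χ _ => by rw [hf, hf]; ring
      · simp
    have h3 := hlin (fun χ => 5 * (d χ l : ℂ)) _ h1 j
    have h4 : ∑ i : Fin 5, (if i = 0 then (320 : ℂ) else 20) * ζ ^ ((i : ℕ) * (l : ℕ)) *
        conj (ζ ^ ((i : ℕ) * (j : ℕ))) = 25 * (if j = l then 16 else 12 : ℤ) := by
      have e : ∀ i : Fin 5, (if i = 0 then (320 : ℂ) else 20) * ζ ^ ((i : ℕ) * (l : ℕ)) *
          conj (ζ ^ ((i : ℕ) * (j : ℕ))) =
          (if i = 0 then (300 : ℂ) else 0) + 20 * (conj (ζ ^ ((i : ℕ) * (j : ℕ))) * ζ ^ ((i : ℕ) * (l : ℕ))) := by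
        intro i
        by_cases hi : i = 0
        · subst hi; simp; norm_num
        · simp only [if_neg hi]; ring
      rw [Finset.sum_congr rfl fun i _ => e i, Finset.sum_add_distrib, ← Finset.mul_sum, root_sum hζ,
        Finset.sum_ite_eq', if_pos (Finset.mem_univ _)]
      split_ifs <;> push_cast <;> norm_num
    rw [h4] at h3
    have h5 : ((∑ χ ∈ B, d χ j * d χ l : ℤ) : ℂ) = (((if j = l then 16 else 12 : ℤ)) : ℂ) := by
      refine mul_left_cancel₀ (by norm_num : (25 : ℂ) ≠ 0) ?_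
      rw [← h3, Int.cast_sum, Finset.mul_sum]
      exact Finset.sum_congr rfl fun χ _ => by push_cast; ring
    exact_mod_cast h5
  · have h1 : ∀ i : Fin 5, ∑ χ ∈ B, (kv χ : ℂ) * fval (χ : G → ℂ) z y i = 0 := fun i => by
      rw [← hcol.mixed i]
      exact Finset.sum_congr rfl fun χ hχ => by rw [hf, hkv χ hχ, map_intCast]; ring
    have h3 := hlin (fun χ => (kv χ : ℂ)) _ h1 j
    simp only [zero_mul, Finset.sum_const_zero] at h3
    have h5 : ((∑ χ ∈ B, d χ j * kv χ : ℤ) : ℂ) = ((0 : ℤ) : ℂ) := by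
      refine mul_left_cancel₀ (by norm_num : (5 : ℂ) ≠ 0) ?_
      rw [Int.cast_zero, mul_zero, ← h3, Int.cast_sum, Finset.mul_sum]
      exact Finset.sum_congr rfl fun χ _ => by push_cast; ring
    exact_mod_cast h5
  · have h5 : ((∑ χ ∈ B, kv χ * kv χ : ℤ) : ℂ) = ((16 : ℤ) : ℂ) := by
      rw [Int.cast_sum, show ((16 : ℤ) : ℂ) = 16 by norm_num, ← hcol.norm_s]
      exact Finset.sum_congr rfl fun χ hχ => by rw [hkv χ hχ, map_intCast]; push_cast; ring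
    exact_mod_cast h5
  · have h1 : ∀ i : Fin 5, ∑ χ ∈ B, (D χ : ℂ) * fval (χ : G → ℂ) z y i = 0 := fun i => by
      rw [← hcol.deg_z i]
      exact Finset.sum_congr rfl fun χ hχ => by rw [hf, hD χ hχ]
    have h3 := hlin (fun χ => (D χ : ℂ)) _ h1 j
    simp only [zero_mul, Finset.sum_const_zero] at h3
    have h5 : ((∑ χ ∈ B, D χ * d χ j : ℤ) : ℂ) = ((0 : ℤ) : ℂ) := by
      refine mul_left_cancel₀ (by norm_num : (5 : ℂ) ≠ 0) ?_
      rw [Int.cast_zero, mul_zero, ← h3, Int.cast_sum, Finset.mul_sum]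
      exact Finset.sum_congr rfl fun χ _ => by push_cast; ring
    exact_mod_cast h5
  · have h5 : ((∑ χ ∈ B, D χ * kv χ : ℤ) : ℂ) = ((0 : ℤ) : ℂ) := by
      rw [Int.cast_sum, Int.cast_zero, ← hcol.deg_s]
      exact Finset.sum_congr rfl fun χ hχ => by rw [hD χ hχ, hkv χ hχ]; push_cast; ring
    exact_mod_cast h5
  · have h5 : ((∑ j : Fin 5, d χ j : ℤ) : ℂ) = (sv χ : ℂ) := by
      refine mul_left_cancel₀ (by norm_num : (5 : ℂ) ≠ 0) ?_
      rw [Int.cast_sum, Finset.mul_sum, Finset.sum_congr rfl fun j _ => (hd χ hχ j).symm, Finset.sum_comm]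
      have e : ∀ i : Fin 5, ∑ j : Fin 5, fval (χ : G → ℂ) z y i * conj (ζ ^ ((i : ℕ) * (j : ℕ))) =
          if i = 0 then 5 * (sv χ : ℂ) else 0 := by
        intro i
        rw [← Finset.mul_sum, Finset.sum_congr rfl fun j _ => by rw [mul_comm (i : ℕ) (j : ℕ)],
          root_sum_left hζ i]
        by_cases hi : i = 0
        · subst hi
          simp [hf, hsv χ hχ, mul_comm]
        · simp [hi]
      rw [Finset.sum_congr rfl fun i _ => e i, Finset.sum_ite_eq', if_pos (Finset.mem_univ _)]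
    exact_mod_cast h5
  · obtain ⟨c, hc0, hc⟩ := hcol.mult_z
    have h1 : ∀ i : Fin 5, ∑ χ ∈ B, ((sv χ : ℂ) ^ 2 / (D χ : ℂ)) * fval (χ : G → ℂ) z y i =
        if i = 0 then (c : ℂ) else 0 := by
      intro i
      by_cases hi : i = 0
      · subst hi
        rw [if_pos rfl, ← hc]
        exact Finset.sum_congr rfl fun χ hχ => by
          rw [hf, ← hD χ hχ, ← hsv χ hχ, Fin.val_zero, pow_zero, mul_one]
      · rw [if_neg hi, ← hcol.mult_zy i hi]
        exact Finset.sum_congr rfl fun χ hχ => by rw [hf, ← hD χ hχ, ← hsv χ hχ]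
    have h2 : ∀ j : Fin 5,
        ((∑ χ ∈ B, ((sv χ * sv χ * d χ j : ℤ) : ℚ) / (D χ : ℚ) : ℚ) : ℝ) = c / 5 := by
      intro j
      apply Complex.ofReal_injective
      have h3 := hlin (fun χ => (sv χ : ℂ) ^ 2 / (D χ : ℂ)) _ h1 j
      simp only [ite_mul, zero_mul, Finset.sum_ite_eq', Finset.mem_univ, if_true, Fin.val_zero,
        pow_zero, map_one, mul_one] at h3
      rw [Complex.ofReal_div, ← h3, Finset.sum_div]
      push_cast
      exact Finset.sum_congr rfl fun χ _ => by ring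
    refine ⟨_, ?_, fun j => Rat.cast_injective (α := ℝ) ((h2 j).trans (h2 0).symm)⟩
    have h4 : (0 : ℝ) < c / 5 := by positivity
    rw [← h2 0] at h4
    exact_mod_cast h4
  · have h5 : ((∑ χ ∈ B, ((sv χ * sv χ * kv χ : ℤ) : ℚ) / (D χ : ℚ) : ℚ) : ℂ) = ((0 : ℚ) : ℂ) := by
      rw [Rat.cast_zero, ← hcol.mult_s]
      push_cast
      exact Finset.sum_congr rfl fun χ hχ => by rw [hD χ hχ, hsv χ hχ, hkv χ hχ]; ring
    exact_mod_cast h5

namespace Totals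

variable {B : Finset (Cfsg.IrrCharacter G)} {D sv kv : Cfsg.IrrCharacter G → ℤ}
  {d : Cfsg.IrrCharacter G → Fin 5 → ℤ} (T : Totals B D sv kv d)
include T

theorem quad (α : Fin 5 → ℤ) (β : ℤ) :
    ∑ χ ∈ B, (∑ j, α j * d χ j + β * kv χ) ^ 2 =
      12 * (∑ j, α j) ^ 2 + 4 * (∑ j, α j * α j) + 16 * (β * β) := by
  have h1 : ∑ χ ∈ B, (∑ j, α j * d χ j) * (∑ l, α l * d χ l) =
      12 * (∑ j, α j) ^ 2 + 4 * (∑ j, α j * α j) := by
    simp only [Finset.sum_mul_sum]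
    rw [Finset.sum_comm]
    have h2 : ∀ j : Fin 5, ∑ χ ∈ B, ∑ l, α j * d χ j * (α l * d χ l) =
        ∑ l, (12 * (α j * α l) + if j = l then 4 * (α j * α l) else 0) := by
      intro j
      rw [Finset.sum_comm]
      refine Finset.sum_congr rfl fun l _ => ?_
      rw [Finset.sum_congr rfl fun χ _ => mul_mul_mul_comm _ _ _ _, ← Finset.mul_sum, T.dd]
      split_ifs <;> ring
    rw [Finset.sum_congr rfl fun j _ => h2 j, sq, Finset.sum_mul_sum, Finset.mul_sum, Finset.mul_sum,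
      ← Finset.sum_add_distrib]
    refine Finset.sum_congr rfl fun j _ => ?_
    rw [Finset.sum_add_distrib, Finset.sum_ite_eq, if_pos (Finset.mem_univ _), Finset.mul_sum]
  have h3 : ∑ χ ∈ B, (∑ j, α j * d χ j) * (β * kv χ) = 0 := by
    simp only [Finset.sum_mul]
    rw [Finset.sum_comm]
    refine Finset.sum_eq_zero fun j _ => ?_
    rw [Finset.sum_congr rfl fun χ _ => mul_mul_mul_comm _ _ _ _, ← Finset.mul_sum, T.dk, mul_zero]
  have h4 : ∑ χ ∈ B, (β * kv χ) * (β * kv χ) = 16 * (β * β) := by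
    rw [Finset.sum_congr rfl fun χ _ => mul_mul_mul_comm _ _ _ _, ← Finset.mul_sum, T.kk, mul_comm]
  rw [← h1, ← h4, ← Finset.sum_add_distrib]
  refine (Finset.sum_congr rfl fun χ _ => ?_).trans (by rw [Finset.sum_add_distrib, ← Finset.mul_sum, h3,
    mul_zero, zero_add] : ∑ χ ∈ B, (2 * ((∑ j, α j * d χ j) * (β * kv χ)) +
      ((∑ j, α j * d χ j) * (∑ l, α l * d χ l) + (β * kv χ) * (β * kv χ))) = _)
  ring

theorem mult_d {m : Cfsg.IrrCharacter G → ℤ} (hm : ∀ χ ∈ B, D χ + 3 * sv χ - 4 * kv χ = 64 * m χ)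
    (j : Fin 5) : ∑ χ ∈ B, m χ * d χ j = 3 := by
  have h1 : ∑ χ ∈ B, sv χ * d χ j = 64 := by
    rw [Finset.sum_congr rfl fun χ hχ => by rw [← T.sum_d χ hχ, Finset.sum_mul], Finset.sum_comm,
      Finset.sum_congr rfl fun l _ => T.dd l j, Fin.sum_univ_five]
    fin_cases j <;> rfl
  have h2 : 64 * ∑ χ ∈ B, m χ * d χ j = 192 := by
    rw [Finset.mul_sum, Finset.sum_congr rfl fun χ hχ => by
      rw [← mul_assoc, ← hm χ hχ, show (D χ + 3 * sv χ - 4 * kv χ) * d χ j =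
        D χ * d χ j + 3 * (sv χ * d χ j) - 4 * (d χ j * kv χ) by ring]]
    rw [Finset.sum_sub_distrib, Finset.sum_add_distrib, ← Finset.mul_sum, ← Finset.mul_sum, T.degd, h1,
      T.dk]
    rfl
  omega

theorem mult_k {m : Cfsg.IrrCharacter G → ℤ} (hm : ∀ χ ∈ B, D χ + 3 * sv χ - 4 * kv χ = 64 * m χ) :
    ∑ χ ∈ B, m χ * kv χ = -1 := by
  have h1 : ∑ χ ∈ B, sv χ * kv χ = 0 := by
    rw [Finset.sum_congr rfl fun χ hχ => by rw [← T.sum_d χ hχ, Finset.sum_mul], Finset.sum_comm]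
    exact Finset.sum_eq_zero fun l _ => T.dk l
  have h2 : 64 * ∑ χ ∈ B, m χ * kv χ = -64 := by
    rw [Finset.mul_sum, Finset.sum_congr rfl fun χ hχ => by
      rw [← mul_assoc, ← hm χ hχ, show (D χ + 3 * sv χ - 4 * kv χ) * kv χ =
        D χ * kv χ + 3 * (sv χ * kv χ) - 4 * (kv χ * kv χ) by ring]]
    rw [Finset.sum_sub_distrib, Finset.sum_add_distrib, ← Finset.mul_sum, ← Finset.mul_sum, T.degk, h1,
      T.kk]
    rfl
  omega

end Totals

end Cfsg.Agent.UFourRows
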